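import Cfsg.Agent.H815.Row2Inner
import Cfsg.Agent.H440.TwoGen.ONan
import Cfsg.Agent.H287.InnON
import Cfsg.Agent.H287.OutON

/-!
# Radical involutory automorphisms of `O'N` (helper815, for helper483: row `p = 2`)
-/

set_option autoImplicit false
set_option maxRecDepth 100000

namespace Cfsg.Agent.H815.Row2ON

open Subgroup Cfsg Cfsg.Agent.H459.Rad Cfsg.Agent.H459.Iface Cfsg.Agent.H483.Rad23
open Cfsg.Agent.H815.Row2
open Cfsg.Spor (ON)
open Cfsg.Spor.ON (Gen)
open Cfsg.Agent.H440.TwoGen.ONan (wd chk wd_append eq_one_of_chk)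
open Cfsg.Agent.SporadicB.ON45Word

universe u

/-- an element of order 3 -/
def w : List Gen := [.f, .g, .b, .g]
/-- its inverse -/
def wi : List Gen := [.g, .g, .g, .b, .g, .g, .g, .f]

theorem k1 : chk (w ++ wi) 1 = true := by decide +kernel
theorem k2 : chk (List.replicate 3 w).flatten 1 = true := by decide +kernel
theorem k3 : chk (List.replicate 5 ([.c] ++ w)).flatten 1 = true := by decide +kernel
theorem k4 : chk (List.replicate 5 ([.c] ++ (w ++ [.c] ++ wi))).flatten 1 = true := by decide +kernel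
theorem k5 : chk ([.c] ++ [.c]) 1 = true := by decide +kernel

theorem wd_replicate (l : List Gen) (n : ℕ) : wd (List.replicate n l).flatten = wd l ^ n := by
  induction n with
  | zero => simp [wd]
  | succ n ih => rw [List.replicate_succ, List.flatten_cons, wd_append, ih, pow_succ']

theorem c_ne_one : wd [.c] ≠ 1 := by
  have h : wd [.c] = on .c := by unfold wd; rw [List.map_singleton, List.prod_singleton]
  rw [h]
  refine (LW.gen Gen.c).ne_one ⟨0, by norm_num⟩ ⟨1, by norm_num⟩ (by decide) ?_
  decide +kernel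

/-- the involution `c` inverts an element of order 5 -/
theorem exists_inv : ∃ y : ON, orderOf y = 5 ∧ wd [.c] * y * (wd [.c])⁻¹ = y⁻¹ := by
  have hs : IsSimpleGroup ON := Cfsg.Agent.S1699.result.1
  have h1 : wd w * wd wi = 1 := by rw [← wd_append]; exact eq_one_of_chk hs _ 1 (by decide) k1
  have h2 : wd w ^ 3 = 1 := by rw [← wd_replicate]; exact eq_one_of_chk hs _ 1 (by decide) k2
  have h3 : (wd [.c] * wd w) ^ 5 = 1 := by
    rw [← wd_append, ← wd_replicate]; exact eq_one_of_chk hs _ 1 (by decide) k3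
  have h4 : (wd [.c] * (wd w * wd [.c] * wd wi)) ^ 5 = 1 := by
    rw [← wd_append, ← wd_append, ← wd_append, ← wd_replicate]
    exact eq_one_of_chk hs _ 1 (by decide) k4
  have h5 : wd [.c] * wd [.c] = 1 := by rw [← wd_append]; exact eq_one_of_chk hs _ 1 (by decide) k5
  have hi : wd wi = (wd w)⁻¹ := eq_inv_of_mul_eq_one_right h1
  rw [hi] at h4
  have h6 : wd [.c] * (wd w * wd [.c] * (wd w)⁻¹) ≠ 1 := by
    intro h
    have h7 : Commute (wd [.c]) (wd w) := by
      have h8 : (wd w * wd [.c] * (wd w)⁻¹) = wd [.c] := by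
        rw [eq_inv_of_mul_eq_one_right h]
        exact (eq_inv_of_mul_eq_one_left h5).symm
      exact (mul_inv_eq_iff_eq_mul.1 h8).symm
    have h8 : wd [.c] ^ 15 = 1 := by
      have h9 := h7.mul_pow 15
      rw [show 15 = 5 * 3 by norm_num, pow_mul, h3, one_pow] at h9
      rw [show 5 * 3 = 3 * 5 by norm_num, pow_mul (wd w), h2, one_pow, mul_one] at h9
      exact h9.symm
    have h9 : wd [.c] = 1 := by
      rw [show 15 = 2 * 7 + 1 by norm_num, pow_succ, pow_mul, pow_two, h5, one_pow, one_mul] at h8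
      exact h8
    exact c_ne_one h9
  have hp : Fact (Nat.Prime 5) := ⟨by norm_num⟩
  exact ⟨_, orderOf_eq_prime h4 h6, inv_mul_conj h5⟩

open Cfsg.Agent.KFacts.ON.Cent (hON)
open Cfsg.Agent.KFacts.ON Cfsg.Agent.KFacts.ON.Struct Cfsg.Agent.KFacts.ON.Qs in
theorem row : Row23 2 ON := by
  have hfin : Finite ON := OneClass.finite_ON
  have hs : IsSimpleGroup ON := hON.1
  have hJ : Nat.card ↥J = 80640 := card_J
  have hJt : J ≠ ⊤ := by
    intro h
    have h1 : Nat.card ↥J = Nat.card ON := by rw [h]; exact Subgroup.card_top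
    rw [hJ, OneClass.card_ON] at h1
    norm_num at h1
  have hns : ¬ Group.IsSolvable ON := by
    intro h
    exact Cfsg.Agent.SignalizersComponents.Components.quasisimple_not_isSolvable qs inferInstance
  have hc : center ON = ⊥ := center_eq_bot hns
  intro x hx hR _ hT
  by_cases hin : ∃ k, x = MulAut.conj k
  · obtain ⟨k, rfl⟩ := hin
    have hk2 : orderOf k = 2 := by rwa [orderOf_injective _ (H839.Rad.conj_injective hc)] at hx
    have hkk : k * k = 1 := by rw [← pow_two, ← hk2, pow_orderOf_eq_one]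
    have hk1 : k ≠ 1 := by rintro rfl; rw [orderOf_one] at hk2; norm_num at hk2
    obtain ⟨y, hy, hcy⟩ := exists_inv
    have hcc : wd [.c] * wd [.c] = 1 := by
      rw [← wd_append]; exact eq_one_of_chk hs _ 1 (by decide) k5
    have h1 : IsConj (wd [.c]) k :=
      (OneClass.one_class hcc c_ne_one).trans (OneClass.one_class hkk hk1).symm
    exact inner_false hc hT h1 (by norm_num) le_rfl hy hcy
  · have hxx : x * x = 1 := by rw [← pow_two, ← hx, pow_orderOf_eq_one]
    obtain ⟨u, hu1, huu, hxu⟩ := H291.Parity.exists_fixed_invo x hxx (by rw [OneClass.card_ON]; decide)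
    obtain ⟨g, rfl⟩ := H291.RowsF.conj_cent (OneClass.one_class huu hu1).symm
    have T := H291.RowsF.topP_map g H291.RowsF.topP_on
    have hcard : Nat.card ↥(J.map g.toMonoidHom) = 80640 := by
      rw [← hJ]
      exact Nat.card_congr (J.equivMapOfInjective g.toMonoidHom g.injective).symm.toEquiv
    have hq : IsQuasisimple ↥(J.map g.toMonoidHom) :=
      (Cfsg.Agent.SignalizersComponents.Components.isQuasisimple_congr
        (J.equivMapOfInjective g.toMonoidHom g.injective)).1 qs
    have hne : J.map g.toMonoidHom ≠ ⊤ := by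
      intro h
      have h1 : Nat.card ↥(J.map g.toMonoidHom) = Nat.card ON := by rw [h]; exact Subgroup.card_top
      rw [hcard, OneClass.card_ON] at h1
      norm_num at h1
    have h2 : J.map g.toMonoidHom ≤ fixedSubgroup x := by
      intro m hm
      exact fix_top hR hxu T hne hq hm
    have h3 := card_dvd_of_le h2
    rw [hcard] at h3
    exact H287.OutON.not_dvd hON hx hin ((by norm_num : 2 ^ 4 ∣ 80640).trans h3)

theorem row2_on {K : Type*} [Group K] [Finite K] [IsSimpleGroup K] (h : Cfsg.Spor.IsoON K) : Row23 2 K := by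
  obtain ⟨e⟩ := h
  have : Finite ON := Finite.of_equiv _ e.toEquiv
  exact Row23.congr e row

end Cfsg.Agent.H815.Row2ON
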