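import Cfsg.Agent.H815.FxU3B

/-!
# Fixity 4: `U_3(8)` (helper815, for helper254)

* `top_psu3_eight`, `noEx_psu3_eight` : `FixLE 4 H` and `2 ∣ |H|` imply `H = ⊤`.
-/

set_option autoImplicit false
set_option linter.unusedSectionVars false
set_option linter.style.haveILetI false

namespace Cfsg.Agent.H815.FxU3

open Matrix Subgroup Cfsg Cfsg.Agent.H254.Fx Cfsg.Agent.H254.Ev Cfsg.Agent.H372.FxU
open Cfsg.Agent.LieClassical.HermBasic Cfsg.Agent.LieClassical.HermSiegel
open Cfsg.Agent.ClassicalGeometry.PSUAutBasic (pr pr_surjective pr_eq_one_iff exists_scalar_of_mem_center)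
open Cfsg.Agent.Phan (ext ext_injective ext_comm emb emb_injective sh sh_injective extM extM_mulVec_of_notMem)

variable {F : Type} [Field F] [Fintype F] {q : ℕ}

/-- the doubly transitive action -/
theorem exists_setup {n : ℕ} (hn : 1 ≤ n) (hF : Fintype.card F = (2 ^ n) ^ 2) :
    ∃ (B S : Subgroup (PSU 3 F (2 ^ n))) (w : PSU 3 F (2 ^ n)),
      IsRankOneSetup (PSU 3 F (2 ^ n)) (PSU 3 F (2 ^ n) ⧸ B) (QuotientGroup.mk 1) w S ∧
      Nat.card S = (2 ^ n) ^ 3 ∧ ∀ s ∈ S, s * s = 1 → ∀ u ∈ S, u * s = s * u := by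
  have : Fact (Nat.Prime 2) := ⟨Nat.prime_two⟩
  have hF' : Fintype.card F = 2 ^ (n * 2) := by rw [hF, pow_mul]
  have hch : CharP F 2 := charP_of_card_eq_prime_pow hF'
  have hσ : Fact (∀ x, iterateFrobenius F 2 n (iterateFrobenius F 2 n x) = x) := by
    refine ⟨fun x => ?_⟩
    rw [iterateFrobenius_def, iterateFrobenius_def, ← pow_mul, ← pow_two, ← hF, FiniteField.pow_card]
  have hF2 : Nat.card F = (2 ^ n) ^ 2 := by rw [Nat.card_eq_fintype_card, hF]
  obtain ⟨B, S, w, ψ, -, hS, -, -⟩ :=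
    Cfsg.Agent.SuzukiRankOne.PSUModel.exists_model (σ := iterateFrobenius F 2 n) hn
      (fun x => iterateFrobenius_def 2 n x) hF2
  refine ⟨B, S, w, hS, ?_, ?_⟩
  · rw [← Nat.card_congr ψ.toEquiv]
    exact LieRecognition.HermHeis.card_heis (Nat.one_lt_two_pow (by omega)) (fun x => iterateFrobenius_def 2 n x) hF2
  · intro s hs hss u hu
    obtain ⟨x, hx⟩ := ψ.surjective ⟨s, hs⟩
    obtain ⟨y, hy⟩ := ψ.surjective ⟨u, hu⟩
    have h1 : x * x = 1 := by
      apply ψ.injective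
      rw [map_mul, hx, map_one]
      exact Subtype.ext hss
    rw [LieRecognition.HermHeis.mul_self_eq_one_iff] at h1
    have h2 : y * x = x * y := by
      rw [LieRecognition.HermHeis.commute_iff, h1]; simp
    have h3 := congrArg ψ h2
    rw [map_mul, map_mul, hx, hy] at h3
    exact congrArg Subtype.val h3

theorem pow_eq_inv {G : Type*} [Group G] {y : G} {r j : ℕ} (hy : y ^ r = 1) (hj : (j : ZMod r) = -1) :
    y ^ j = y⁻¹ := by
  rw [eq_inv_iff_mul_eq_one, ← pow_succ]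
  have h1 : r ∣ j + 1 := by
    rw [← ZMod.natCast_eq_zero_iff]
    push_cast
    rw [hj]; ring
  obtain ⟨m, hm⟩ := h1
  rw [hm, pow_mul, hy, one_pow]

theorem card_eight (hF : Fintype.card F = 64) : Nat.card (PSU 3 F 8) = 5515776 := by
  have hF' : Fintype.card F = 8 ^ 2 := by rw [hF]; norm_num
  have h1 := card_psu hF' (n := 3) le_rfl
  rw [card_three hF'] at h1
  norm_num at h1
  omega

/-- elements of order 7 of `U_3(8)` -/
theorem seven (hF : Fintype.card F = 64) (y : PSU 3 F 8) (hy : orderOf y = 7) :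
    (∃ u, u * y * u⁻¹ = y⁻¹) ∧ 3 ∣ Nat.card (centralizer ({y} : Set (PSU 3 F 8))) := by
  have hF' : Fintype.card F = 8 ^ 2 := by rw [hF]; norm_num
  have hp7 : Nat.Prime 7 := by norm_num
  haveI : Fact (Nat.Prime 7) := ⟨hp7⟩
  obtain ⟨b, hb⟩ := exists_emb (F := F) (q := 8) hp7 (m := 2) (by rw [card_two hF']; norm_num)
  have hb' : orderOf (blk hF' b) = 7 := by rw [orderOf_injective _ (blk_injective hF'), hb]
  obtain ⟨g, hg⟩ := exists_conj_of_prime (C := PSU 3 F 8) (p := 7) (by rw [card_eight hF]; decide) hy hb'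
  obtain ⟨k, hk⟩ := mem_zpowers_iff.1 hg
  rw [← map_zpow] at hk
  obtain ⟨z, hz, hzc, -⟩ := exists_y3 hF' (by norm_num) (by norm_num)
  have hk7 : orderOf (b ^ k) = 7 := by
    rw [← orderOf_injective _ (blk_injective hF'), hk, ← hy]
    exact (MulAut.conj g).orderOf_eq y
  obtain ⟨x, hx⟩ : ∃ x : ↥(SU 3 F 8), x = emb hF' 0 (by norm_num : 0 + 2 ≤ 3) (b ^ k) := ⟨_, rfl⟩
  have hx7 : orderOf x = 7 := by rw [hx, orderOf_injective _ (emb_injective hF' 0 _), hk7]
  obtain ⟨u, j, hj, hu⟩ := conj_negq hF' hp7 (cast_ne_zero hp7 hF' (by norm_num)) (x := x)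
    (by rw [← hx7, pow_orderOf_eq_one]) (by
      intro h
      rw [h, orderOf_one] at hx7
      omega)
  have hbx : pr 3 F 8 x = g * y * g⁻¹ := by
    rw [← hk, hx]; rfl
  have h87 : ((8 : ℕ) : ZMod 7) = 1 := by rfl
  have hj' : (j : ZMod 7) = -1 := by rw [hj, h87]
  rw [pow_eq_inv (by rw [← hx7, pow_orderOf_eq_one]) hj'] at hu
  have hu' := congrArg (pr 3 F 8) hu
  rw [map_mul, map_mul, map_inv, map_inv, hbx] at hu'
  constructor
  · refine ⟨g⁻¹ * pr 3 F 8 u * g, ?_⟩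
    calc g⁻¹ * pr 3 F 8 u * g * y * (g⁻¹ * pr 3 F 8 u * g)⁻¹
        = g⁻¹ * (pr 3 F 8 u * (g * y * g⁻¹) * (pr 3 F 8 u)⁻¹) * g := by group
      _ = g⁻¹ * (g * y * g⁻¹)⁻¹ * g := by rw [hu']
      _ = y⁻¹ := by group
  · have h1 : g⁻¹ * z * g ∈ centralizer ({y} : Set (PSU 3 F 8)) := by
      rw [mem_centralizer_singleton_iff]
      have h2 := hzc (b ^ k)
      rw [hk] at h2
      calc g⁻¹ * z * g * y = g⁻¹ * (z * (g * y * g⁻¹)) * g := by group
        _ = g⁻¹ * (g * y * g⁻¹ * z) * g := by rw [h2]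
        _ = y * (g⁻¹ * z * g) := by group
    have h3 := orderOf_dvd_card_of_mem h1
    have h4 : orderOf (g⁻¹ * z * g) = 3 := by
      have h5 := (MulAut.conj g⁻¹).orderOf_eq z
      rw [hz] at h5
      simpa using h5
    rwa [h4] at h3

/-- **`U_3(8)`** -/
theorem top_psu3_eight (hF : Fintype.card F = 64) {H : Subgroup (PSU 3 F 8)} (hfix : FixLE 4 H)
    (h2 : 2 ∣ Nat.card H) : H = ⊤ := by
  have hF' : Fintype.card F = 8 ^ 2 := by rw [hF]; norm_num
  have hF'' : Fintype.card F = (2 ^ 3) ^ 2 := by rw [hF]; norm_num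
  haveI := simple_psu hF' (by norm_num)
  obtain ⟨B, S, w, hS, hSc, hZ⟩ := exists_setup (n := 3) (by norm_num) hF''
  obtain ⟨a, ha⟩ := exists_inv hF'
  obtain ⟨z, hz, hzc, -⟩ := exists_y3 hF' (by norm_num) (by norm_num)
  have hL : 63 ∣ Nat.card (blk hF').range := by
    rw [← Nat.card_congr (MonoidHom.ofInjective (blk_injective hF')).toEquiv, card_two hF']
    norm_num
  have hLp : ⁅(blk hF').range, (blk hF').range⁆ = (blk hF').range := by
    rw [MonoidHom.range_eq_map, ← Subgroup.map_commutator, perfect_su hF' (by norm_num) le_rfl]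
  refine top_of_data (G := PSU 3 F (2 ^ 3)) hS (card_eight hF) (by rw [hSc]; norm_num) hZ ?_
    (L := (blk hF').range) (z := z) (t₁ := blk hF' a) hL hLp hz ?_ ⟨a, rfl⟩ ha (seven hF) hfix h2
  · intro t ht
    have h1 := (H245.RankOnePSU.facts (n := 3) (by norm_num) hF'').2 t ht
    have h3 : Nat.card (PSU 3 F (2 ^ 3)) = 5515776 := card_eight hF
    rw [h3] at h1
    norm_num at h1
    omega
  · rintro _ ⟨b, rfl⟩
    exact hzc b

/-- **Task 2057** -/
theorem noEx_psu3_eight (K : Type) [Field K] [Fintype K] (hK : Fintype.card K = 64) :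
    ∀ H : Subgroup (PSU 3 K 8), FixLE 4 H → 2 ∣ Nat.card H → H = ⊤ :=
  fun _ hfix h2 => top_psu3_eight hK hfix h2

end Cfsg.Agent.H815.FxU3
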