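import Cfsg.Agent.H815.FxU3E

/-!
# Fixity 4: `PSU_3(q)`, odd point stabilizers, the row (helper815, for helper254)

* `noTI4_psu3` : the row.
-/

set_option autoImplicit false
set_option linter.unusedSectionVars false
set_option linter.style.haveILetI false

namespace Cfsg.Agent.H815.FxU3

open Matrix Subgroup Cfsg Cfsg.Agent.H254.Fx Cfsg.Agent.H254.Ev Cfsg.Agent.H372.FxU
open Cfsg.Agent.LieClassical.HermBasic Cfsg.Agent.LieClassical.HermSiegel
open Cfsg.Agent.LieClassical.SUBasic (suDiag coe_suDiag mem_center_SU_iff)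
open Cfsg.Agent.ClassicalGeometry.PSUAutBasic (pr pr_surjective pr_eq_one_iff exists_scalar_of_mem_center
  act_suScalar)

variable {F : Type} [Field F] [Fintype F] {q : ℕ}

theorem order_two : orderOf (((2 : ℕ) : ZMod 3)) = 2 := by
  haveI : Fact (Nat.Prime 2) := ⟨Nat.prime_two⟩
  exact orderOf_eq_prime (by decide) (by decide)

/-- two commuting involutions -/
theorem four_dvd {C : Type*} [Group C] [Finite C] {x s t : C} (hs : orderOf s = 2) (ht : orderOf t = 2)
    (hst : s ≠ t) (hc : s * t = t * s) (hsx : s * x = x * s) (htx : t * x = x * t) :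
    4 ∣ Nat.card (centralizer ({x} : Set C)) := by
  haveI : Fact (Nat.Prime 2) := ⟨Nat.prime_two⟩
  obtain ⟨K, hK⟩ : ∃ K : Subgroup C, K = centralizer ({x} : Set C) ⊓ centralizer ({s} : Set C) := ⟨_, rfl⟩
  have hsK : s ∈ K := by
    rw [hK, mem_inf, mem_centralizer_singleton_iff, mem_centralizer_singleton_iff]
    exact ⟨hsx, rfl⟩
  have htK : t ∈ K := by
    rw [hK, mem_inf, mem_centralizer_singleton_iff, mem_centralizer_singleton_iff]
    exact ⟨htx, hc.symm⟩
  refine dvd_trans ?_ (card_dvd_of_le (hK ▸ inf_le_left : K ≤ centralizer ({x} : Set C)))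
  by_contra h4
  obtain ⟨g, hg⟩ := exists_conj_of_prime (C := K) (p := 2) h4 (x := ⟨s, hsK⟩) (y := ⟨t, htK⟩)
    (by rw [Subgroup.orderOf_mk, hs]) (by rw [Subgroup.orderOf_mk, ht])
  obtain ⟨k, hk⟩ := mem_zpowers_iff.1 hg
  have hk' : t ^ k = (g : C) * s * (g : C)⁻¹ := congrArg Subtype.val hk
  have hKs : K ≤ centralizer ({s} : Set C) := hK ▸ inf_le_right
  have hgs : (g : C) * s = s * g := mem_centralizer_singleton_iff.1 (hKs g.2)
  rw [hgs, mul_inv_cancel_right] at hk'
  have htt : t * t = 1 := by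
    have := pow_orderOf_eq_one t
    rwa [ht, pow_two] at this
  rcases Int.even_or_odd k with ⟨m, hm⟩ | ⟨m, hm⟩
  · have h1 : t ^ (2 : ℤ) = 1 := by
      have : t ^ (2 : ℤ) = t * t := zpow_two t
      rw [this, htt]
    have h2 : t ^ k = 1 := by
      have : k = 2 * m := by omega
      rw [this, _root_.zpow_mul, h1, _root_.one_zpow]
    rw [h2] at hk'
    rw [← hk', orderOf_one] at hs
    omega
  · rw [hm, _root_.zpow_add, zpow_one, _root_.zpow_mul] at hk'
    have h1 : t ^ (2 : ℤ) = 1 := by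
      have : t ^ (2 : ℤ) = t * t := zpow_two t
      rw [this, htt]
    rw [h1, _root_.one_zpow, one_mul] at hk'
    exact hst hk'.symm

/-- diagonal elements -/
theorem exists_dg {a : Fin 3 → F} (hd : ∏ i, a i = 1) (ha : ∀ i, a i ^ (q + 1) = 1) :
    ∃ g : ↥(SU 3 F q), ∀ v i, act g v i = a i * v i :=
  ⟨suDiag q a hd ha, fun v i => act_suDiag hd ha v i⟩

/-- diagonal elements commute -/
theorem dg_comm {a b : Fin 3 → F} {g h : ↥(SU 3 F q)} (hg : ∀ v i, act g v i = a i * v i)
    (hh : ∀ v i, act h v i = b i * v i) : g * h = h * g := by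
  apply ext_act
  intro v
  funext i
  rw [act_mul, act_mul, hg, hh, hh, hg]
  ring

/-- non-scalar diagonal elements are not central -/
theorem dg_ne (hF : Fintype.card F = q ^ 2) {a : Fin 3 → F} {g : ↥(SU 3 F q)} (hg : ∀ v i, act g v i = a i * v i)
    {i j : Fin 3} (hij : a i ≠ a j) : pr 3 F q g ≠ 1 := by
  intro h
  rw [pr_eq_one_iff] at h
  obtain ⟨c, -, -, hc⟩ := exists_scalar_of_mem_center hF le_rfl h
  apply hij
  have h1 := congrFun (hc fun _ => 1) i
  have h2 := congrFun (hc fun _ => 1) j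
  rw [hg, Pi.smul_apply, smul_eq_mul, mul_one, mul_one] at h1 h2
  rw [h1, h2]

/-- the order of a diagonal element -/
theorem dg_order (hF : Fintype.card F = q ^ 2) {a : Fin 3 → F} {g : ↥(SU 3 F q)}
    (hg : ∀ v i, act g v i = a i * v i) {i j : Fin 3} (hij : a i ≠ a j) {r : ℕ} (hr : r.Prime)
    (har : ∀ i, a i ^ r = 1) : orderOf (pr 3 F q g) = r := by
  haveI : Fact r.Prime := ⟨hr⟩
  have hpow : ∀ m : ℕ, ∀ v i, act (g ^ m) v i = a i ^ m * v i := by
    intro m
    induction m with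
    | zero => intro v i; rw [pow_zero, pow_zero, act_one, one_mul]
    | succ m ih => intro v i; rw [pow_succ, act_mul, ih, hg, pow_succ]; ring
  refine orderOf_eq_prime ?_ (dg_ne hF hg hij)
  have : g ^ r = 1 := by
    apply ext_act
    intro v
    funext i
    rw [hpow, har, one_mul, act_one]
  rw [← map_pow, this, map_one]

/-- **`q` odd, `3 ∣ q + 1`, `9 ∤ q + 1`: elements of order 3 are bad** -/
theorem bad_three (hF : Fintype.card F = q ^ 2) (ho : Odd q) (h3 : 3 ∣ q + 1) (h9 : ¬ 9 ∣ q + 1) {x : PSU 3 F q}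
    (hx : orderOf x = 3) : Bad x := by
  obtain ⟨ω, hω0, hω⟩ := exists_unit hF (s := 3) (by rw [sq_sub hF]; exact Dvd.dvd.mul_left h3 _)
  have hω3 : ω ^ 3 = 1 := by
    have := pow_orderOf_eq_one ω
    rwa [hω] at this
  have hω1 : ω ≠ 1 := by
    intro h
    rw [h, orderOf_one] at hω
    omega
  have hωq : ω ^ (q + 1) = 1 := orderOf_dvd_iff_pow_eq_one.1 (by rwa [hω])
  have h2q : ¬ 2 ∣ q := by
    rw [← even_iff_two_dvd, Nat.not_even_iff_odd]; exact ho
  have h2F : ((2 : ℕ) : F) ≠ 0 := cast_ne_zero Nat.prime_two hF h2q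
  have hneg : (-1 : F) ≠ 1 := by
    intro h
    apply h2F
    rw [Nat.cast_ofNat]
    linear_combination -h
  have hm1 : (-1 : F) ^ (q + 1) = 1 := (ho.add_one).neg_one_pow
  obtain ⟨g, hg⟩ := exists_dg (q := q) (a := ![1, ω, ω ^ 2])
    (by rw [Fin.prod_univ_three]; simp; rw [← pow_succ', hω3])
    (by
      intro i
      fin_cases i
      · simp
      · exact hωq
      · change (ω ^ 2) ^ (q + 1) = 1
        rw [← pow_mul, mul_comm, pow_mul, hωq, one_pow])
  obtain ⟨s, hs⟩ := exists_dg (q := q) (a := ![-1, -1, (1 : F)])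
    (by rw [Fin.prod_univ_three]; simp)
    (by
      intro i
      fin_cases i
      · exact hm1
      · exact hm1
      · exact one_pow _)
  obtain ⟨t, ht⟩ := exists_dg (q := q) (a := ![1, -1, (-1 : F)])
    (by rw [Fin.prod_univ_three]; simp)
    (by
      intro i
      fin_cases i
      · exact one_pow _
      · exact hm1
      · exact hm1)
  have hgo : orderOf (pr 3 F q g) = 3 := by
    refine dg_order hF hg (i := 0) (j := 1) (Ne.symm hω1) Nat.prime_three ?_
    intro i
    fin_cases i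
    · exact one_pow _
    · exact hω3
    · change (ω ^ 2) ^ 3 = 1
      rw [← pow_mul, mul_comm, pow_mul, hω3, one_pow]
  have hso : orderOf (pr 3 F q s) = 2 := by
    refine dg_order hF hs (i := 0) (j := 2) hneg Nat.prime_two ?_
    intro i
    fin_cases i
    · change (-1 : F) ^ 2 = 1
      norm_num
    · change (-1 : F) ^ 2 = 1
      norm_num
    · exact one_pow _
  have hto : orderOf (pr 3 F q t) = 2 := by
    refine dg_order hF ht (i := 0) (j := 2) (Ne.symm hneg) Nat.prime_two ?_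
    intro i
    fin_cases i
    · exact one_pow _
    · change (-1 : F) ^ 2 = 1
      norm_num
    · change (-1 : F) ^ 2 = 1
      norm_num
  have hst : pr 3 F q s ≠ pr 3 F q t := by
    intro h
    have h1 : pr 3 F q (s * t) = 1 := by
      rw [map_mul, h]
      have := pow_orderOf_eq_one (pr 3 F q t)
      rwa [hto, pow_two] at this
    refine dg_ne hF (a := ![-1, 1, (-1 : F)]) (g := s * t) ?_ (i := 0) (j := 1) hneg h1
    intro v i
    rw [act_mul, hs, ht]
    fin_cases i
    · change (-1 : F) * (1 * v 0) = -1 * v 0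
      ring
    · change (-1 : F) * (-1 * v 1) = 1 * v 1
      ring
    · change (1 : F) * (-1 * v 2) = -1 * v 2
      ring
  have h4 := four_dvd (x := pr 3 F q g) hso hto hst (by rw [← map_mul, dg_comm hs ht, map_mul])
    (by rw [← map_mul, dg_comm hs hg, map_mul]) (by rw [← map_mul, dg_comm ht hg, map_mul])
  obtain ⟨u, hu⟩ := conj_three hF h3 h9 hgo (y := (pr 3 F q g) ^ 2) (by
    rw [Nat.Coprime.orderOf_pow, hgo]
    rw [hgo]; norm_num)
  haveI : Fact (Nat.Prime 3) := ⟨Nat.prime_three⟩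
  have hbad : Bad (pr 3 F q g) := bad_of_two Nat.prime_three hgo hu (dvd_of_eq order_two.symm) h4
  obtain ⟨w, hw⟩ := conj_three hF h3 h9 hgo hx
  rw [← hw]
  exact hbad.conj w

/-- an element of order 3 outside of all `D` -/
theorem out_of_block (hF : Fintype.card F = q ^ 2) (h4 : 4 ≤ q) {s : ℕ} (hs : s.Prime) (hs5 : 5 ≤ s)
    (hsd : s ∣ q + 1) {b : ↥(SU 2 F q)} (hb : blk hF b ≠ 1) {k : ℕ} {D : Subgroup (PSU 3 F q)} (h : OddTI k D) :
    blk hF b ∉ D := by
  intro hbD
  obtain ⟨y, hy, hyc, hyb⟩ := exists_y hF h4 hs hs5 hsd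
  have h1 := h.cent hbD hb (hyc b).symm
  have h2 := h.mem_of_prime h1 hs hs5 hy
  refine h.not_bad h2 ?_ hyb
  intro h3
  rw [h3, orderOf_one] at hy
  omega

/-- `3 ∣ q - 1` or `q` even and `3 ∣ q + 1`, `9 ∤ q + 1` : an element of order 3 outside of all `D` -/
theorem exists_out (hF : Fintype.card F = q ^ 2) (h4 : 4 ≤ q) (h3 : ¬ 3 ∣ q) (h9 : ¬ 9 ∣ q + 1) :
    ∃ x : PSU 3 F q, orderOf x = 3 ∧ ∀ (k : ℕ) (D : Subgroup (PSU 3 F q)), OddTI k D → x ∉ D := by
  have h1 : q % 3 = 1 ∨ q % 3 = 2 := by omega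
  rcases Nat.even_or_odd q with he | ho
  · rcases succ_cases he h4 with ⟨s, hs, hs5, hsd⟩ | h
    · obtain ⟨b, hb⟩ := exists_emb (F := F) (q := q) Nat.prime_three (m := 2) (three_dvd_two hF)
      have hb' : orderOf (blk hF b) = 3 := by rw [orderOf_injective _ (blk_injective hF), hb]
      refine ⟨_, hb', fun k D hD => out_of_block hF h4 hs hs5 hsd ?_ hD⟩
      intro h
      rw [h, orderOf_one] at hb'
      omega
    · exact absurd h h9
  · rcases h1 with h1 | h1
    · have hg : Nat.gcd 3 (q + 1) = 1 := by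
        rw [← Nat.coprime_iff_gcd_eq_one, Nat.Prime.coprime_iff_not_dvd Nat.prime_three]
        omega
      obtain ⟨x, hx, hb⟩ := bad_torus hF ho Nat.prime_three (by
        rw [hg, Nat.div_one, sq_sub hF]
        exact Dvd.dvd.mul_right (by omega) _)
      refine ⟨x, hx, fun k D hD hxD => hD.not_bad hxD ?_ hb⟩
      intro h
      rw [h, orderOf_one] at hx
      omega
    · obtain ⟨b, hb⟩ := exists_emb (F := F) (q := q) Nat.prime_three (m := 2) (three_dvd_two hF)
      have hb' : orderOf (blk hF b) = 3 := by rw [orderOf_injective _ (blk_injective hF), hb]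
      refine ⟨_, hb', fun k D hD hxD => hD.not_bad hxD ?_ (bad_three hF ho (by omega) h9 hb')⟩
      intro h
      rw [h, orderOf_one] at hb'
      omega

theorem not_mem_conj {G : Type*} [Group G] [Finite G] {k : ℕ} {D : Subgroup G} (h : OddTI k D) {x g : G}
    (hx : ∀ D' : Subgroup G, OddTI k D' → x ∉ D') (hg : g * x * g⁻¹ ∈ D) : False := by
  refine hx _ (h.conj_map g⁻¹) ⟨g * x * g⁻¹, hg, ?_⟩
  change g⁻¹ * (g * x * g⁻¹) * g⁻¹⁻¹ = x
  group

/-- **the prime 3** -/
theorem not_three (hF : Fintype.card F = q ^ 2) (h4 : 4 ≤ q) (D : Subgroup (PSU 3 F q)) (h : OddTI 4 D) :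
    ¬ 3 ∣ Nat.card D := by
  intro h3
  haveI : Fact (Nat.Prime 3) := ⟨Nat.prime_three⟩
  by_cases hq3 : 3 ∣ q
  · -- characteristic 3
    haveI := charP_of_dvd hF Nat.prime_three hq3
    haveI := simple_psu hF h4
    have ho : Odd q := by
      rw [← Nat.not_even_iff_odd]
      intro he
      obtain ⟨n, -, hn⟩ := exists_pow hF he
      rw [hn] at hq3
      have := Nat.prime_three.dvd_of_dvd_pow hq3
      omega
    rcases h.three h3 with ⟨P, hP⟩ | h5
    · exact not_own hF h4 ho h hP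
    · obtain ⟨hc, -, -⟩ := H488.PsuTwo.card_sylow (T := PSU 3 F q) (p := 3) hF (by omega) (MulEquiv.refl _)
        (simple_psu hF h4)
      have h6 := (h5 default).1
      rw [hc] at h6
      have h7 : 4 ^ 3 ≤ q ^ 3 := Nat.pow_le_pow_left h4 3
      omega
  by_cases h9 : 9 ∣ q + 1
  · -- `diag(c, c, c ^ (-2))`, `c` of order 9
    obtain ⟨y, hy, -, hb⟩ := exists_y3 hF h4 h9
    refine h.not_three_dvd (bad3_of_card hy hb (Or.inl ?_)) h3
    have h6 : 81 ∣ q ^ 3 * ((q ^ 2 - 1) * (q ^ 3 + 1)) := by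
      refine Dvd.dvd.mul_left ?_ _
      refine mul_dvd_mul (a := 9) (c := 9) ?_ ?_
      · rw [sq_sub hF]
        exact Dvd.dvd.mul_left h9 _
      · have := (show Odd 3 by decide).nat_add_dvd_pow_add_pow q 1
        rw [one_pow] at this
        exact h9.trans this
    rw [← card_psu3 hF] at h6
    have h7 : Nat.gcd 3 (q + 1) = 3 := Nat.gcd_eq_left (dvd_trans (by norm_num) h9)
    rw [h7] at h6
    omega
  obtain ⟨x, hx, hout⟩ := exists_out hF h4 hq3 h9
  have h1 : q % 3 = 1 ∨ q % 3 = 2 := by omega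
  rcases h1 with h1 | h1
  · -- `3 ∣ q - 1`
    rcases h.three h3 with ⟨P, hP⟩ | h5
    · obtain ⟨g, hg⟩ := exists_conj_of_sylow_le Nat.prime_three hP hx
      exact not_mem_conj h (hout 4) hg
    · have hg : Nat.gcd 3 (q + 1) = 1 := by
        rw [← Nat.coprime_iff_gcd_eq_one, Nat.Prime.coprime_iff_not_dvd Nat.prime_three]
        omega
      have h6 : 9 ∣ Nat.card (PSU 3 F q) := by
        rw [← (h5 default).1]
        exact card_subgroup_dvd_card _
      have h7 := card_psu3 hF
      rw [hg, mul_one] at h7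
      rw [h7] at h6
      have h8 : Nat.Coprime 9 (q ^ 3) := by
        refine Nat.Coprime.pow_right _ ?_
        have : Nat.Coprime (3 ^ 2) q := Nat.Coprime.pow_left 2 ((Nat.Prime.coprime_iff_not_dvd Nat.prime_three).2 hq3)
        exact this
      have h10 : Nat.Coprime 9 (q ^ 3 + 1) := by
        have : Nat.Coprime (3 ^ 2) (q ^ 3 + 1) := by
          refine Nat.Coprime.pow_left 2 ((Nat.Prime.coprime_iff_not_dvd Nat.prime_three).2 ?_)
          intro h11
          have h12 : (q ^ 3 + 1) % 3 = 2 := by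
            rw [Nat.add_mod, Nat.pow_mod, h1]
          omega
        exact this
      have h11 : 9 ∣ q ^ 2 - 1 := h10.dvd_of_dvd_mul_right (h8.dvd_of_dvd_mul_left h6)
      obtain ⟨z, hz⟩ := H127.PSUThreeEx.ex_three hF 9 (by rw [hg, Nat.div_one]; exact h11)
      have h12 : IsPGroup 3 (zpowers z) := IsPGroup.of_card (n := 2) (by rw [Nat.card_zpowers, hz]; norm_num)
      obtain ⟨P, hP⟩ := h12.exists_le_sylow
      have h13 := (h5 P).2 z (hP (mem_zpowers z))
      have h14 := Nat.le_of_dvd (by norm_num) (orderOf_dvd_of_pow_eq_one h13)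
      omega
  · obtain ⟨d, hd⟩ := exists_prime_orderOf_dvd_card' 3 h3
    have hd' : orderOf (d : PSU 3 F q) = 3 := by rw [Subgroup.orderOf_coe]; exact hd
    obtain ⟨g, hg⟩ := conj_three hF (by omega) h9 hx hd'
    exact not_mem_conj h (hout 4) (g := g) (by rw [hg]; exact d.2)

/-- **Task 2056, second part: the row `U_3(q)`, `q ≥ 4`, `k = 4`.** -/
theorem noTI4_psu3 {q : ℕ} (K : Type) [Field K] [Fintype K] (hK : Fintype.card K = q ^ 2) (hq : 4 ≤ q) :
    NoTI 4 (PSU 3 K q) :=
  noTI_of3 (not_three hK hq) (kill_psu3 hK hq)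

end Cfsg.Agent.H815.FxU3
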