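import Mathlib
import Cfsg.Agent.H815.HnSl
import Cfsg.Agent.Lib.CoprimeHyperplane
import Cfsg.Agent.Lib.Cores

set_option autoImplicit false

/-!
# The group `3^{1+4} : SL(2,5)` (helper815)

`LC Z Q π` : `H` is a group with a normal extraspecial `3`-subgroup `Q` of order `3^5`, centre `Z`, self-centralizing,
and quotient `SL(2,5)`.
-/

namespace Cfsg.Agent.H815.HnLoc

open Subgroup Cfsg.Agent.H815.HnSl

theorem card_mul_rel {G : Type*} [Group G] {K M : Subgroup G} (h : K ≤ M) :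
    Nat.card K * K.relIndex M = Nat.card M := by
  have h1 := Subgroup.relIndex_mul_relIndex (⊥ : Subgroup G) K M bot_le h
  rwa [Subgroup.relIndex_bot_left, Subgroup.relIndex_bot_left] at h1

/-- The fixed points of an element of prime order. -/
theorem card_fix_mod {G : Type*} [Group G] [Finite G] (B : Subgroup G) {x : G} {p : ℕ} [Fact p.Prime]
    (hx : orderOf x = p) (hn : ∀ b ∈ B, x * b * x⁻¹ ∈ B) :
    Nat.card B ≡ Nat.card ↥(B ⊓ centralizer {x}) [MOD p] := by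
  have hxn : x ∈ normalizer (B : Set G) := Subgroup.mem_normalizer_fintype hn
  have hA : zpowers x ≤ normalizer (B : Set G) := (zpowers_le).2 hxn
  let act : MulAction ↥(zpowers x) ↥B := MulAction.compHom ↥B (Cfsg.Agent.Lib.CoprimeHyperplane.conjHom hA)
  have hP : IsPGroup p ↥(zpowers x) := by
    refine IsPGroup.of_card (n := 1) ?_
    rw [Nat.card_zpowers, hx, pow_one]
  have h1 := hP.card_modEq_card_fixedPoints ↥B
  have h2 : Nat.card ↥(MulAction.fixedPoints ↥(zpowers x) ↥B) = Nat.card ↥(B ⊓ centralizer {x}) := by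
    refine Nat.card_congr
      { toFun := fun b => ⟨(b.1 : G), b.1.2, ?_⟩
        invFun := fun b => ⟨⟨b.1, b.2.1⟩, ?_⟩
        left_inv := fun b => rfl
        right_inv := fun b => rfl }
    · have h3 := b.2 ⟨x, mem_zpowers x⟩
      have h4 : x * ((b.1 : ↥B) : G) * x⁻¹ = ((b.1 : ↥B) : G) := congrArg Subtype.val h3
      change ((b.1 : ↥B) : G) ∈ centralizer {x}
      rw [mem_centralizer_singleton_iff]
      calc ((b.1 : ↥B) : G) * x = (x * ((b.1 : ↥B) : G) * x⁻¹) * x := by rw [h4]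
        _ = x * ((b.1 : ↥B) : G) := by group
    · rintro ⟨y, hy⟩
      have h3 : b.1 * x = x * b.1 := (mem_centralizer_singleton_iff).1 b.2.2
      obtain ⟨n, rfl⟩ := mem_zpowers_iff.1 hy
      apply Subtype.ext
      change x ^ n * b.1 * (x ^ n)⁻¹ = b.1
      have h4 : Commute (x ^ n) b.1 := (Commute.zpow_left (h3.symm : Commute x b.1) n)
      rw [h4.eq, mul_inv_cancel_right]
  rw [h2] at h1
  exact h1

section conj

variable {G : Type*} [Group G]

/-- conjugation action of `M` on an invariant set -/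
@[reducible] def conjAct (M : Subgroup G) (X : Set G) (hX : ∀ m ∈ M, ∀ x ∈ X, m * x * m⁻¹ ∈ X) : MulAction ↥M ↥X where
  smul m x := ⟨(m : G) * x * (m : G)⁻¹, hX m m.2 x x.2⟩
  one_smul x := Subtype.ext (by change (1 : G) * x * (1 : G)⁻¹ = x; simp)
  mul_smul m n x := Subtype.ext (by
    change ((m : G) * n) * x * ((m : G) * n)⁻¹ = (m : G) * ((n : G) * x * (n : G)⁻¹) * (m : G)⁻¹
    group)

theorem card_orbit (M : Subgroup G) (X : Set G) (hX : ∀ m ∈ M, ∀ x ∈ X, m * x * m⁻¹ ∈ X) (x : ↥X) :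
    let _ := conjAct M X hX
    Nat.card ↥(MulAction.orbit ↥M x) = (centralizer {(x : G)}).relIndex M := by
  let _ := conjAct M X hX
  change Nat.card ↥(MulAction.orbit ↥M x) = (centralizer {(x : G)}).relIndex M
  have h1 := MulAction.index_stabilizer ↥M x
  rw [← Nat.card_coe_set_eq] at h1
  rw [← h1, Subgroup.relIndex]
  congr 1
  ext m
  rw [MulAction.mem_stabilizer_iff, mem_subgroupOf, mem_centralizer_singleton_iff]
  constructor
  · intro h2
    have h3 : (m : G) * x * (m : G)⁻¹ = x := congrArg Subtype.val h2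
    rwa [mul_inv_eq_iff_eq_mul] at h3
  · intro h2
    apply Subtype.ext
    change (m : G) * x * (m : G)⁻¹ = x
    rw [h2, mul_inv_cancel_right]

theorem relIndex_le [Finite G] (M : Subgroup G) (X : Set G) (hX : ∀ m ∈ M, ∀ x ∈ X, m * x * m⁻¹ ∈ X) {x : G}
    (hx : x ∈ X) : (centralizer {x}).relIndex M ≤ Nat.card ↥X := by
  let _ := conjAct M X hX
  rw [← card_orbit M X hX ⟨x, hx⟩]
  exact Nat.card_le_card_of_injective (fun y : ↥(MulAction.orbit ↥M (⟨x, hx⟩ : ↥X)) => (y : ↥X)) Subtype.val_injective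

theorem dvd_card [Finite G] (M : Subgroup G) (X : Set G) (hX : ∀ m ∈ M, ∀ x ∈ X, m * x * m⁻¹ ∈ X) (n : ℕ)
    (hn : ∀ x ∈ X, n ∣ (centralizer {x}).relIndex M) : n ∣ Nat.card ↥X := by
  classical
  let _ := conjAct M X hX
  have e := MulAction.selfEquivSigmaOrbits ↥M ↥X
  have : Finite (Quotient (MulAction.orbitRel ↥M ↥X)) := Quotient.finite _
  let _ : Fintype (Quotient (MulAction.orbitRel ↥M ↥X)) := Fintype.ofFinite _
  rw [Nat.card_congr e, Nat.card_sigma]
  refine Finset.dvd_sum fun ω _ => ?_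
  rw [card_orbit M X hX ω.out]
  exact hn _ (ω.out).2

end conj

/-- `H = 3^{1+4} : SL(2,5)`. -/
structure LC {H : Type*} [Group H] (Z Q : Subgroup H) (π : H →* L) : Prop where
  cardZ : Nat.card Z = 3
  cardQ : Nat.card Q = 243
  exp : ∀ a ∈ Q, a ^ 3 = 1
  le : Z ≤ Q
  central : Z ≤ center H
  comm : ∀ a ∈ Q, ∀ b ∈ Q, a * b * a⁻¹ * b⁻¹ ∈ Z
  cen : ∀ x ∈ Q, (∀ y ∈ Q, y * x = x * y) → x ∈ Z
  CQ : ∀ x, (∀ y ∈ Q, y * x = x * y) → x ∈ Q
  ker : π.ker = Q
  surj : Function.Surjective π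

/-- two elements commute modulo `Z` -/
theorem mk_comm_iff {H : Type*} [Group H] {Z : Subgroup H} [Z.Normal] {a b : H} :
    (QuotientGroup.mk' Z a) * (QuotientGroup.mk' Z b) = (QuotientGroup.mk' Z b) * (QuotientGroup.mk' Z a) ↔
      a * b * a⁻¹ * b⁻¹ ∈ Z := by
  rw [← map_mul, ← map_mul]
  change ((a * b : H) : H ⧸ Z) = ((b * a : H) : H ⧸ Z) ↔ _
  rw [QuotientGroup.eq_iff_div_mem, div_eq_mul_inv, mul_inv_rev, mul_assoc (a * b)]

namespace LC

variable {H : Type*} [Group H] [Finite H] {Z Q : Subgroup H} {π : H →* L} (h : LC Z Q π)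
include h

omit [Finite H] in
theorem normalZ : Z.Normal := by
  refine ⟨fun z hz g => ?_⟩
  have h1 := Subgroup.mem_center_iff.1 (h.central hz) g
  rw [h1, mul_inv_cancel_right]
  exact hz

omit [Finite H] in
theorem normalQ : Q.Normal := by
  rw [← h.ker]
  infer_instance

omit [Finite H] in
theorem mem_iff {x : H} : x ∈ Q ↔ π x = 1 := by
  rw [← h.ker, MonoidHom.mem_ker]

omit [Finite H] in
theorem comm_Z {z : H} (hz : z ∈ Z) (g : H) : g * z = z * g :=
  Subgroup.mem_center_iff.1 (h.central hz) g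

omit [Finite H] in
theorem card_eq (T : Subgroup H) : Nat.card T = Nat.card ↥(T ⊓ Q) * Nat.card ↥(T.map π) := by
  rw [← Subgroup.relIndex_ker, h.ker, ← Subgroup.inf_relIndex_left, card_mul_rel inf_le_left]

omit [Finite H] in
theorem card : Nat.card H = 29160 := by
  have h1 := h.card_eq ⊤
  rw [top_inf_eq, h.cardQ, Subgroup.card_top, ← MonoidHom.range_eq_map, MonoidHom.range_eq_top.2 h.surj,
    Subgroup.card_top, HnSl.card] at h1
  rw [h1]

omit [Finite H] in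
theorem not_comm : ¬ ∀ a ∈ Q, ∀ b ∈ Q, a * b = b * a := by
  intro hc
  have h1 : Q = Z := le_antisymm (fun x hx => h.cen x hx fun y hy => hc y hy x hx) h.le
  have h2 := h.cardQ
  rw [h1, h.cardZ] at h2
  norm_num at h2

/-- An element of order five has fixed points `Z`. -/
theorem cent_five {x : H} (hx : orderOf x = 5) : Q ⊓ centralizer {x} = Z := by
  have : Fact (Nat.Prime 5) := ⟨by norm_num⟩
  have hZ : Z ≤ Q ⊓ centralizer {x} := by
    refine le_inf h.le fun z hz => ?_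
    rw [mem_centralizer_singleton_iff]
    exact (h.comm_Z hz x).symm
  have h1 := card_fix_mod Q hx fun b hb => h.normalQ.conj_mem b hb x
  have h2 : Nat.card ↥(Q ⊓ centralizer {x}) ∣ 3 ^ 5 := by
    have := Subgroup.card_dvd_of_le (inf_le_left : Q ⊓ centralizer {x} ≤ Q)
    rwa [h.cardQ] at this
  rw [h.cardQ] at h1
  obtain ⟨j, hj, hj2⟩ := (Nat.dvd_prime_pow Nat.prime_three).1 h2
  rw [hj2] at h1
  have h3 : j = 1 ∨ j = 5 := by
    interval_cases j <;> first | (left; rfl) | (right; rfl) | (exfalso; revert h1; decide)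
  rcases h3 with rfl | rfl
  · refine (Subgroup.eq_of_le_of_card_ge hZ ?_).symm
    rw [hj2, h.cardZ]
    norm_num
  · exfalso
    have h4 : Q ⊓ centralizer {x} = Q := by
      refine Subgroup.eq_of_le_of_card_ge inf_le_left ?_
      rw [hj2, h.cardQ]
      norm_num
    have h5 : x ∈ Q := by
      refine h.CQ x fun y hy => ?_
      rw [← h4] at hy
      exact mem_centralizer_singleton_iff.1 hy.2
    have h6 := orderOf_dvd_of_pow_eq_one (h.exp x h5)
    rw [hx] at h6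
    norm_num at h6

omit [Finite H] in
theorem finite : Finite H := Nat.finite_of_card_ne_zero (by rw [h.card]; norm_num)

theorem exists_five : ∃ x : H, orderOf x = 5 := by
  have : Fact (Nat.Prime 5) := ⟨by norm_num⟩
  refine exists_prime_orderOf_dvd_card' 5 ?_
  rw [h.card]
  norm_num

/-- `Q / Z` is irreducible. -/
theorem irr {B : Subgroup H} (hZB : Z ≤ B) (hBQ : B ≤ Q) (hn : ∀ c : H, ∀ b ∈ B, c * b * c⁻¹ ∈ B) :
    B = Z ∨ B = Q := by
  have : Fact (Nat.Prime 5) := ⟨by norm_num⟩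
  obtain ⟨x, hx⟩ := h.exists_five
  have h1 := card_fix_mod B hx fun b hb => hn x b hb
  have h2 : B ⊓ centralizer {x} = Z := by
    apply le_antisymm
    · rw [← h.cent_five hx]
      exact inf_le_inf_right _ hBQ
    · refine le_inf hZB fun z hz => ?_
      rw [mem_centralizer_singleton_iff]
      exact (h.comm_Z hz x).symm
  rw [h2, h.cardZ] at h1
  have h3 : Nat.card ↥B ∣ 3 ^ 5 := by
    have := Subgroup.card_dvd_of_le hBQ
    rwa [h.cardQ] at this
  obtain ⟨j, hj, hj2⟩ := (Nat.dvd_prime_pow Nat.prime_three).1 h3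
  rw [hj2] at h1
  have h4 : j = 1 ∨ j = 5 := by
    interval_cases j <;> first | (left; rfl) | (right; rfl) | (exfalso; revert h1; decide)
  rcases h4 with rfl | rfl
  · left
    refine (Subgroup.eq_of_le_of_card_ge hZB ?_).symm
    rw [hj2, h.cardZ]
    norm_num
  · right
    refine Subgroup.eq_of_le_of_card_ge hBQ ?_
    rw [hj2, h.cardQ]
    norm_num

omit [Finite H] in
theorem cube_mem {u : H} (hu : ∀ q ∈ Q, u * q * u⁻¹ * q⁻¹ ∈ Z) : u * u * u ∈ Q := by
  refine h.CQ _ fun q hq => ?_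
  obtain ⟨z, hz⟩ : ∃ z, z = u * q * u⁻¹ * q⁻¹ := ⟨_, rfl⟩
  have hzZ : z ∈ Z := by rw [hz]; exact hu q hq
  have h1 : u * q * u⁻¹ = z * q := by rw [hz]; group
  have hzu : u * z = z * u := h.comm_Z hzZ u
  have hz3 : z * z * z = 1 := by
    have := h.exp z (h.le hzZ)
    rwa [pow_succ, pow_succ, pow_one] at this
  have h2 : u * q = z * q * u := by rw [← h1]; group
  have h3 : u * u * u * q = z * z * z * q * (u * u * u) := by
    calc u * u * u * q = u * (u * (u * q)) := by group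
      _ = u * (u * (z * q * u)) := by rw [h2]
      _ = u * ((u * z) * q * u) := by group
      _ = u * (z * (u * q) * u) := by rw [hzu]; group
      _ = u * (z * (z * q * u) * u) := by rw [h2]
      _ = (u * z) * z * q * u * u := by group
      _ = (z * u) * z * q * u * u := by rw [hzu]
      _ = z * (u * z) * q * u * u := by group
      _ = z * z * (u * q) * (u * u) := by rw [hzu]; group
      _ = z * z * z * q * (u * u * u) := by rw [h2]; group
  rw [h3, hz3, one_mul]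

omit [Finite H] in
/-- An element acting trivially on `Q / Z` lies in `Q`. -/
theorem mem_of_triv {u : H} (hu : ∀ q ∈ Q, u * q * u⁻¹ * q⁻¹ ∈ Z) : u ∈ Q := by
  have hZn := h.normalZ
  have hQn := h.normalQ
  let M : Subgroup H := (centralizer ((Q.map (QuotientGroup.mk' Z) : Subgroup (H ⧸ Z)) : Set (H ⧸ Z))).comap
    (QuotientGroup.mk' Z)
  have hQ' : (Q.map (QuotientGroup.mk' Z)).Normal := hQn.map _ (QuotientGroup.mk'_surjective Z)
  have hM : M.Normal := by
    have : (centralizer ((Q.map (QuotientGroup.mk' Z) : Subgroup (H ⧸ Z)) : Set (H ⧸ Z))).Normal := inferInstance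
    exact this.comap _
  have hmem : ∀ v : H, v ∈ M ↔ ∀ q ∈ Q, v * q * v⁻¹ * q⁻¹ ∈ Z := by
    intro v
    change QuotientGroup.mk' Z v ∈ centralizer _ ↔ _
    rw [mem_centralizer_iff]
    constructor
    · intro hv q hq
      rw [← mk_comm_iff]
      exact (hv _ ⟨q, hq, rfl⟩).symm
    · rintro hv _ ⟨q, hq, rfl⟩
      exact (mk_comm_iff.2 (hv q hq)).symm
  have hcube : ∀ v ∈ M, π v * π v * π v = 1 := by
    intro v hv
    have h1 := h.cube_mem ((hmem v).1 hv)
    rwa [h.mem_iff, map_mul, map_mul] at h1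
  have huM : u ∈ M := (hmem u).2 hu
  by_contra hcon
  rw [h.mem_iff] at hcon
  obtain ⟨g, hg⟩ := exists_cube_ne _ (hcube u huM) hcon
  obtain ⟨c, rfl⟩ := h.surj g
  apply hg
  have h2 := hcube _ (M.mul_mem huM (hM.conj_mem u huM c))
  rw [map_mul, map_mul, map_mul, map_inv] at h2
  rw [pow_succ, pow_succ, pow_one]
  exact h2

/-- Every abelian normal subgroup is in `Z`. -/
theorem ab {A : Subgroup H} (hA : A.Normal) (hc : ∀ a ∈ A, ∀ b ∈ A, a * b = b * a) : A ≤ Z := by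
  have hZn := h.normalZ
  have hQn := h.normalQ
  have h1 : A ⊓ Q ⊔ Z = Z ∨ A ⊓ Q ⊔ Z = Q := by
    refine h.irr le_sup_right (sup_le inf_le_right h.le) fun c b hb => ?_
    have : (A ⊓ Q ⊔ Z).Normal := inferInstance
    exact this.conj_mem b hb c
  have h2 : A ⊓ Q ≤ Z := by
    rcases h1 with h1 | h1
    · rw [← h1]
      exact le_sup_left
    · exfalso
      apply h.not_comm
      have h3 : ∀ x ∈ Q, ∃ a ∈ A ⊓ Q, ∃ z ∈ Z, x = a * z := by
        intro x hx
        rw [← h1, Subgroup.mem_sup_of_normal_right] at hx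
        obtain ⟨a, ha, z, hz, rfl⟩ := hx
        exact ⟨a, ha, z, hz, rfl⟩
      intro x hx y hy
      obtain ⟨a, ha, z, hz, rfl⟩ := h3 x hx
      obtain ⟨b, hb, w, hw, rfl⟩ := h3 y hy
      have e1 := hc a ha.1 b hb.1
      calc a * z * (b * w) = a * (z * b) * w := by group
        _ = a * (b * z) * w := by rw [h.comm_Z hz b]
        _ = (a * b) * (z * w) := by group
        _ = (b * a) * (w * z) := by rw [e1, h.comm_Z hw z]
        _ = b * (a * w) * z := by group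
        _ = b * (w * a) * z := by rw [h.comm_Z hw a]
        _ = b * w * (a * z) := by group
  have h3 : A ≤ Q := by
    intro a ha
    refine h.mem_of_triv fun q hq => h2 ⟨?_, ?_⟩
    · have e1 : a * q * a⁻¹ * q⁻¹ = a * (q * a⁻¹ * q⁻¹) := by group
      rw [e1]
      exact A.mul_mem ha (hA.conj_mem _ (A.inv_mem ha) q)
    · exact Q.mul_mem (hQn.conj_mem q hq a) (Q.inv_mem hq)
  intro a ha
  exact h2 ⟨ha, h3 ha⟩

/-- An element over the central involution of `SL(2,5)` inverts `Q / Z`. -/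
theorem inv_of_neg {u : H} (hu : π u = neg1) {q : H} (hq : q ∈ Q) : u * q * u⁻¹ * q ∈ Z := by
  have hZn := h.normalZ
  have hQn := h.normalQ
  let m := QuotientGroup.mk' Z
  have hmm : ∀ a ∈ Q, ∀ b ∈ Q, m a * m b = m b * m a := fun a ha b hb => mk_comm_iff.2 (h.comm a ha b hb)
  let B : Subgroup H := Q ⊓ (centralizer {m u}).comap m
  have hB : ∀ v : H, v ∈ B ↔ v ∈ Q ∧ m v * m u = m u * m v := by
    intro v
    constructor
    · rintro ⟨h1, h2⟩
      exact ⟨h1, mem_centralizer_singleton_iff.1 h2⟩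
    · rintro ⟨h1, h2⟩
      exact ⟨h1, mem_centralizer_singleton_iff.2 h2⟩
  have h1 : B = Z ∨ B = Q := by
    refine h.irr ?_ inf_le_left ?_
    · intro z hz
      refine (hB z).2 ⟨h.le hz, ?_⟩
      rw [← map_mul, ← map_mul, h.comm_Z hz u]
    · intro c b hb
      obtain ⟨hb1, hb2⟩ := (hB b).1 hb
      refine (hB _).2 ⟨hQn.conj_mem b hb1 c, ?_⟩
      obtain ⟨k, hk⟩ : ∃ k, k = u⁻¹ * c⁻¹ * u * c := ⟨_, rfl⟩
      have hkQ : k ∈ Q := by
        rw [h.mem_iff, hk, map_mul, map_mul, map_mul, map_inv, map_inv, hu]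
        have e1 := neg_comm (π c)⁻¹
        calc neg1⁻¹ * (π c)⁻¹ * neg1 * π c = neg1⁻¹ * ((π c)⁻¹ * neg1) * π c := by group
          _ = neg1⁻¹ * (neg1 * (π c)⁻¹) * π c := by rw [e1]
          _ = 1 := by group
      have e1 : m u * m c = m c * m u * m k := by
        rw [← map_mul, ← map_mul, ← map_mul, hk]
        congr 1
        group
      have e2 := hmm k hkQ b hb1
      rw [map_mul, map_mul, map_inv]
      calc m c * m b * (m c)⁻¹ * m u = m c * m b * (m c)⁻¹ * (m u * m c) * (m c)⁻¹ := by group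
        _ = m c * m b * (m c)⁻¹ * (m c * m u * m k) * (m c)⁻¹ := by rw [e1]
        _ = m c * (m b * m u) * m k * (m c)⁻¹ := by group
        _ = m c * (m u * m b) * m k * (m c)⁻¹ := by rw [hb2]
        _ = m c * m u * (m b * m k) * (m c)⁻¹ := by group
        _ = m c * m u * (m k * m b) * (m c)⁻¹ := by rw [e2]
        _ = (m c * m u * m k) * m b * (m c)⁻¹ := by group
        _ = (m u * m c) * m b * (m c)⁻¹ := by rw [e1]
        _ = m u * (m c * m b * (m c)⁻¹) := by group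
  rcases h1 with h1 | h1
  · obtain ⟨v, hv⟩ : ∃ v, v = q * (u * q * u⁻¹) := ⟨_, rfl⟩
    have huq : u * q * u⁻¹ ∈ Q := hQn.conj_mem q hq u
    have huu : u * u ∈ Q := by
      rw [h.mem_iff, map_mul, hu, neg_sq]
    have e1 := hmm _ huq q hq
    have e2 := hmm _ huu q hq
    rw [map_mul m (u * q), map_mul m u q, map_inv] at e1
    rw [map_mul m u u] at e2
    have hvB : v ∈ B := by
      refine (hB v).2 ⟨by rw [hv]; exact Q.mul_mem hq huq, ?_⟩
      rw [hv, map_mul, map_mul, map_mul, map_inv]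
      calc m q * (m u * m q * (m u)⁻¹) * m u = (m u * m q * (m u)⁻¹ * m q) * m u := by rw [e1]
        _ = m u * m q * (m u)⁻¹ * (m q * (m u * m u)) * (m u)⁻¹ := by group
        _ = m u * m q * (m u)⁻¹ * (m u * m u * m q) * (m u)⁻¹ := by rw [e2]
        _ = m u * (m q * (m u * m q * (m u)⁻¹)) := by group
    rw [h1] at hvB
    have e3 : u * q * u⁻¹ * q = q⁻¹ * v * q := by rw [hv]; group
    rw [e3]
    have e4 := h.comm_Z hvB q⁻¹
    rw [e4]
    simpa using hvB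
  · exfalso
    have h2 : u ∈ Q := by
      refine h.mem_of_triv fun q hq => ?_
      rw [← h1] at hq
      exact mk_comm_iff.1 ((hB q).1 hq).2.symm
    rw [h.mem_iff, hu] at h2
    exact neg_ne h2

/-- The commutator map with an element of `Q`. -/
def cm {q : H} (hq : q ∈ Q) : ↥Q →* ↥Z where
  toFun r := ⟨(r : H) * q * (r : H)⁻¹ * q⁻¹, h.comm r r.2 q hq⟩
  map_one' := by
    apply Subtype.ext
    simp
  map_mul' r s := by
    apply Subtype.ext
    have h1 := h.comm_Z (h.comm s s.2 q hq) (r : H)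
    change (r : H) * s * q * ((r : H) * s)⁻¹ * q⁻¹ = (r : H) * q * (r : H)⁻¹ * q⁻¹ * ((s : H) * q * (s : H)⁻¹ * q⁻¹)
    have h2 := h.comm_Z (h.comm s s.2 q hq) ((r : H) * q * (r : H)⁻¹ * q⁻¹)
    rw [h2]
    calc (r : H) * s * q * ((r : H) * s)⁻¹ * q⁻¹ = ((r : H) * ((s : H) * q * (s : H)⁻¹ * q⁻¹)) * q * (r : H)⁻¹ * q⁻¹ := by group
      _ = _ := by rw [h1]; group

omit [Finite H] in
theorem cm_surj {q : H} (hq : q ∈ Q) (hqZ : q ∉ Z) : Function.Surjective (h.cm hq) := by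
  have hp : (Nat.card ↥Z).Prime := by rw [h.cardZ]; norm_num
  rw [← MonoidHom.range_eq_top]
  have h1 : (h.cm hq).range ≠ ⊥ := by
    intro hb
    apply hqZ
    refine h.cen q hq fun y hy => ?_
    have h2 : h.cm hq ⟨y, hy⟩ ∈ (h.cm hq).range := ⟨_, rfl⟩
    rw [hb, Subgroup.mem_bot] at h2
    have h3 : y * q * y⁻¹ * q⁻¹ = 1 := congrArg Subtype.val h2
    rwa [mul_inv_eq_one, mul_inv_eq_iff_eq_mul] at h3
  have : Fact (Nat.card ↥Z).Prime := ⟨hp⟩
  exact ((h.cm hq).range.eq_bot_or_eq_top_of_prime_card).resolve_left h1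

omit [Finite H] in
theorem exists_conj {q : H} (hq : q ∈ Q) (hqZ : q ∉ Z) {z : H} (hz : z ∈ Z) : ∃ r ∈ Q, r * q * r⁻¹ = z * q := by
  obtain ⟨r, hr⟩ := h.cm_surj hq hqZ ⟨z, hz⟩
  refine ⟨r, r.2, ?_⟩
  have h3 : (r : H) * q * (r : H)⁻¹ * q⁻¹ = z := congrArg Subtype.val hr
  rw [← h3]
  group

omit [Finite H] in
theorem card_CQ {q : H} (hq : q ∈ Q) (hqZ : q ∉ Z) : Nat.card ↥(Q ⊓ centralizer {q}) = 81 := by
  have h1 := Subgroup.card_eq_card_quotient_mul_card_subgroup (h.cm hq).ker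
  rw [Nat.card_congr (QuotientGroup.quotientKerEquivOfSurjective _ (h.cm_surj hq hqZ)).toEquiv, h.cardQ, h.cardZ] at h1
  have h2 : Nat.card ↥(h.cm hq).ker = Nat.card ↥(Q ⊓ centralizer {q}) := by
    refine Nat.card_congr
      { toFun := fun b => ⟨((b : ↥Q) : H), b.1.2, ?_⟩
        invFun := fun b => ⟨⟨b.1, b.2.1⟩, ?_⟩
        left_inv := fun b => rfl
        right_inv := fun b => rfl }
    · have h3 : ((b : ↥Q) : H) * q * ((b : ↥Q) : H)⁻¹ * q⁻¹ = 1 := congrArg Subtype.val ((MonoidHom.mem_ker).1 b.2)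
      rw [mul_inv_eq_one, mul_inv_eq_iff_eq_mul] at h3
      change ((b : ↥Q) : H) ∈ centralizer {q}
      rw [mem_centralizer_singleton_iff]
      exact h3
    · rw [MonoidHom.mem_ker]
      apply Subtype.ext
      have h3 := (mem_centralizer_singleton_iff).1 b.2.2
      change b.1 * q * b.1⁻¹ * q⁻¹ = 1
      rw [h3, mul_inv_cancel_right, mul_inv_cancel]
  rw [h2] at h1
  omega

/-- no involution (mod `Q`) centralizes an element of `Q \ Z` -/
theorem not_neg {q : H} (hq : q ∈ Q) (hqZ : q ∉ Z) {u : H} (hu : u * q = q * u) : π u ≠ neg1 := by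
  intro hn
  have h1 := h.inv_of_neg hn hq
  rw [hu, mul_inv_cancel_right] at h1
  apply hqZ
  have h2 : q = (q * q) * (q * q) * (q ^ 3)⁻¹ := by
    rw [pow_succ, pow_succ, pow_one]
    group
  rw [h2, h.exp q hq, inv_one, mul_one]
  exact Z.mul_mem h1 h1

/-- the centralizer of an element of `Q \ Z` has order `3^5`, and image of order 3 -/
theorem card_cent {q : H} (hq : q ∈ Q) (hqZ : q ∉ Z) :
    Nat.card ↥(centralizer {q} : Subgroup H) = 243 ∧ Nat.card ↥((centralizer {q} : Subgroup H).map π) = 3 := by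
  obtain ⟨T, hT⟩ : ∃ T : Subgroup H, T = centralizer {q} := ⟨_, rfl⟩
  have h1 := h.card_eq T
  have h2 : Nat.card ↥(T ⊓ Q) = 81 := by rw [hT, inf_comm]; exact h.card_CQ hq hqZ
  rw [h2] at h1
  obtain ⟨k, hk⟩ : ∃ k, k = Nat.card ↥(T.map π) := ⟨_, rfl⟩
  rw [← hk] at h1
  have hk120 : k ∣ 120 := by
    rw [hk, ← HnSl.card]
    exact Subgroup.card_subgroup_dvd_card _
  -- 2 does not divide
  have hk2 : ¬ 2 ∣ k := by
    intro h3
    have : Fact (Nat.Prime 2) := ⟨Nat.prime_two⟩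
    obtain ⟨u, hu⟩ := exists_prime_orderOf_dvd_card' (G := ↥(T.map π)) 2 (by rw [← hk]; exact h3)
    have hu1 : (u : L) * (u : L) = 1 := by
      have h4 := pow_orderOf_eq_one u
      rw [hu, pow_two] at h4
      exact congrArg Subtype.val h4
    have hu2 : (u : L) ≠ 1 := by
      intro h4
      have h5 : u = 1 := Subtype.ext h4
      rw [h5, orderOf_one] at hu
      norm_num at hu
    obtain ⟨v, hv, hvu⟩ := u.2
    refine h.not_neg hq hqZ (u := v) ?_ ?_
    · have hv' : v ∈ T := hv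
      rw [hT] at hv'
      exact mem_centralizer_singleton_iff.1 hv'
    · rw [hvu]
      exact (sq_eq_one _ hu1).resolve_left hu2
  have hk5 : ¬ 5 ∣ k := by
    intro h3
    have : Fact (Nat.Prime 5) := ⟨by norm_num⟩
    obtain ⟨x, hx⟩ := exists_prime_orderOf_dvd_card' (G := ↥T) 5 (by rw [h1]; exact Dvd.dvd.mul_left h3 _)
    have hx' : orderOf (x : H) = 5 := by rw [Subgroup.orderOf_coe, hx]
    apply hqZ
    rw [← h.cent_five hx']
    have h4 : ∀ y ∈ T, y * q = q * y := by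
      rw [hT]
      exact fun y hy => mem_centralizer_singleton_iff.1 hy
    exact ⟨hq, mem_centralizer_singleton_iff.2 (h4 x x.2).symm⟩
  have hk3 : k = 1 ∨ k = 3 := by
    have h3 : k ≤ 120 := Nat.le_of_dvd (by norm_num) hk120
    interval_cases k <;> omega
  have hidx : Nat.card H = Nat.card T * T.index := (Subgroup.card_mul_index T).symm
  rw [h.card, h1] at hidx
  have hle : T.index ≤ 243 := by
    have h4 := relIndex_le (⊤ : Subgroup H) (Q : Set H) (fun m _ x hx => h.normalQ.conj_mem x hx m) hq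
    rw [Subgroup.relIndex_top_right, ← hT] at h4
    refine h4.trans ?_
    change Nat.card ↥Q ≤ 243
    rw [h.cardQ]
  have hk' : k = 3 := by
    rcases hk3 with rfl | rfl
    · exfalso; omega
    · rfl
  rw [← hT, ← hk, hk', h1, hk']
  exact ⟨rfl, rfl⟩

/-- the subgroup `W`: the fixed points of `S` on `Q / Z` -/
def W (S : Subgroup H) : Subgroup H where
  carrier := {q | q ∈ Q ∧ ∀ s ∈ S, s * q * s⁻¹ * q⁻¹ ∈ Z}
  mul_mem' := by
    rintro a b ⟨ha, ha'⟩ ⟨hb, hb'⟩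
    refine ⟨Q.mul_mem ha hb, fun s hs => ?_⟩
    have h1 := h.comm_Z (hb' s hs) a
    have h2 : s * (a * b) * s⁻¹ * (a * b)⁻¹ = (s * a * s⁻¹ * a⁻¹) * (s * b * s⁻¹ * b⁻¹) := by
      calc s * (a * b) * s⁻¹ * (a * b)⁻¹ = s * a * s⁻¹ * (s * b * s⁻¹ * b⁻¹) * a⁻¹ := by group
        _ = s * a * s⁻¹ * a⁻¹ * (a * (s * b * s⁻¹ * b⁻¹)) * a⁻¹ := by group
        _ = s * a * s⁻¹ * a⁻¹ * ((s * b * s⁻¹ * b⁻¹) * a) * a⁻¹ := by rw [h1]
        _ = _ := by group
    rw [h2]
    exact Z.mul_mem (ha' s hs) (hb' s hs)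
  one_mem' := ⟨Q.one_mem, fun s _ => by simp [Z.one_mem]⟩
  inv_mem' := by
    rintro a ⟨ha, ha'⟩
    refine ⟨Q.inv_mem ha, fun s hs => ?_⟩
    have h1 := h.comm_Z (Z.inv_mem (ha' s hs)) a⁻¹
    have h2 : s * a⁻¹ * s⁻¹ * a⁻¹⁻¹ = (s * a * s⁻¹ * a⁻¹)⁻¹ := by
      calc s * a⁻¹ * s⁻¹ * a⁻¹⁻¹ = a⁻¹ * (s * a * s⁻¹ * a⁻¹)⁻¹ * a := by group
        _ = (s * a * s⁻¹ * a⁻¹)⁻¹ * a⁻¹ * a := by rw [h1]
        _ = _ := by group
    rw [h2]
    exact Z.inv_mem (ha' s hs)

/-! ### The Sylow 3-subgroup -/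

variable {S : Subgroup H} (hQS : Q ≤ S) (hS : Nat.card S = 729)
include hQS hS

omit [Finite H] in
theorem card_map_S : Nat.card ↥(S.map π) = 3 := by
  have h1 := h.card_eq S
  rw [inf_eq_right.2 hQS, h.cardQ, hS] at h1
  omega

omit [Finite H] hS in
theorem mem_S_iff {x : H} : x ∈ S ↔ π x ∈ S.map π := by
  constructor
  · intro hx
    exact ⟨x, hx, rfl⟩
  · rintro ⟨y, hy, hyx⟩
    have h1 : y⁻¹ * x ∈ Q := by
      rw [h.mem_iff, map_mul, map_inv, hyx, inv_mul_cancel]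
    have h2 : x = y * (y⁻¹ * x) := by group
    rw [h2]
    exact S.mul_mem hy (hQS h1)

omit [Finite H] in
theorem zpow_of_S {y : H} (hy : y ∈ S) (hyQ : y ∉ Q) {s : H} (hs : s ∈ S) : ∃ n : ℤ, (y ^ n)⁻¹ * s ∈ Q := by
  have : Fact (Nat.Prime 3) := ⟨Nat.prime_three⟩
  have h1 := h.card_map_S hQS hS
  have h2 : (⟨π y, y, hy, rfl⟩ : ↥(S.map π)) ≠ 1 := by
    intro h3
    apply hyQ
    rw [h.mem_iff]
    exact congrArg Subtype.val h3
  have h3 := mem_zpowers_of_prime_card (p := 3) h1 (g := ⟨π y, y, hy, rfl⟩) (g' := ⟨π s, s, hs, rfl⟩) h2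
  obtain ⟨n, hn⟩ := h3
  refine ⟨n, ?_⟩
  rw [h.mem_iff, map_mul, map_inv, map_zpow]
  have h4 : (π y) ^ n = π s := by
    have := congrArg Subtype.val hn
    simpa using this
  rw [h4, inv_mul_cancel]

omit [Finite H] in
theorem exists_gen : ∃ s ∈ S, s ∉ Q ∧ π s * π s * π s = 1 ∧ π s ≠ 1 := by
  have h1 := h.card_map_S hQS hS
  have h2 : ∃ s ∈ S, s ∉ Q := by
    by_contra hcon
    push Not at hcon
    have h3 : S = Q := le_antisymm hcon hQS
    rw [h3, h.cardQ] at hS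
    norm_num at hS
  obtain ⟨s, hs, hsQ⟩ := h2
  refine ⟨s, hs, hsQ, ?_, fun h3 => hsQ (h.mem_iff.2 h3)⟩
  have h4 : (⟨π s, s, hs, rfl⟩ : ↥(S.map π)) ^ 3 = 1 := by
    rw [← h1, pow_card_eq_one']
  rw [pow_succ, pow_succ, pow_one] at h4
  exact congrArg Subtype.val h4

/-- Every element of `Q` is conjugate to an element fixed by `S` modulo `Z`. -/
theorem exists_good {q : H} (hq : q ∈ Q) (hqZ : q ∉ Z) : ∃ c : H, c * q * c⁻¹ ∈ h.W S := by
  have hQn := h.normalQ
  obtain ⟨s0, hs0, hs0Q, hs3, hs1⟩ := h.exists_gen hQS hS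
  obtain ⟨-, hT⟩ := h.card_cent hq hqZ
  obtain ⟨t, ht, ht3, ht1⟩ : ∃ t ∈ (centralizer {q} : Subgroup H), π t * π t * π t = 1 ∧ π t ≠ 1 := by
    have : Nontrivial ↥((centralizer {q} : Subgroup H).map π) := by
      have : Finite ↥((centralizer {q} : Subgroup H).map π) := Nat.finite_of_card_ne_zero (by rw [hT]; norm_num)
      rw [← Finite.one_lt_card_iff_nontrivial, hT]
      norm_num
    obtain ⟨⟨_, t, ht, rfl⟩, htne⟩ := exists_ne (1 : ↥((centralizer {q} : Subgroup H).map π))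
    refine ⟨t, ht, ?_, fun h3 => htne (Subtype.ext h3)⟩
    have h4 : (⟨π t, t, ht, rfl⟩ : ↥((centralizer {q} : Subgroup H).map π)) ^ 3 = 1 := by
      rw [← hT, pow_card_eq_one']
    rw [pow_succ, pow_succ, pow_one] at h4
    exact congrArg Subtype.val h4
  obtain ⟨g, hg⟩ := HnSl.exists_conj ht3 ht1 hs3 hs1
  obtain ⟨c, rfl⟩ := h.surj g
  refine ⟨c, hQn.conj_mem q hq c, fun s hs => ?_⟩
  obtain ⟨n, hn⟩ := h.zpow_of_S hQS hS hs0 hs0Q hs
  -- s = (c t c⁻¹)^n * k
  obtain ⟨k, hk⟩ : ∃ k, k = ((c * t * c⁻¹) ^ n)⁻¹ * s := ⟨_, rfl⟩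
  have hkQ : k ∈ Q := by
    rw [h.mem_iff] at hn ⊢
    rw [map_mul, map_inv, map_zpow] at hn
    rw [hk, map_mul, map_inv, map_zpow, map_mul, map_mul, map_inv, hg]
    exact hn
  have hqt : Commute ((c * t * c⁻¹) ^ n) (c * q * c⁻¹) := by
    apply Commute.zpow_left
    have h1 : t * q = q * t := mem_centralizer_singleton_iff.1 ht
    change c * t * c⁻¹ * (c * q * c⁻¹) = c * q * c⁻¹ * (c * t * c⁻¹)
    calc c * t * c⁻¹ * (c * q * c⁻¹) = c * (t * q) * c⁻¹ := by group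
      _ = c * (q * t) * c⁻¹ := by rw [h1]
      _ = _ := by group
  obtain ⟨x, hx⟩ : ∃ x, x = (c * t * c⁻¹) ^ n := ⟨_, rfl⟩
  obtain ⟨q', hq'⟩ : ∃ q', q' = c * q * c⁻¹ := ⟨_, rfl⟩
  rw [← hx, ← hq'] at hqt
  rw [← hx] at hk
  rw [← hq']
  have hq'Q : q' ∈ Q := by rw [hq']; exact hQn.conj_mem q hq c
  have e1 : s = x * k := by rw [hk]; group
  have e2 := h.comm k hkQ q' hq'Q
  have e3 := h.comm_Z e2 x
  have e4 : s * q' * s⁻¹ * q'⁻¹ = k * q' * k⁻¹ * q'⁻¹ := by
    rw [e1]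
    calc x * k * q' * (x * k)⁻¹ * q'⁻¹ = (x * (k * q' * k⁻¹ * q'⁻¹)) * q' * x⁻¹ * q'⁻¹ := by group
      _ = k * q' * k⁻¹ * q'⁻¹ * (x * q') * x⁻¹ * q'⁻¹ := by rw [e3]; group
      _ = k * q' * k⁻¹ * q'⁻¹ * (q' * x) * x⁻¹ * q'⁻¹ := by rw [hqt.eq]
      _ = _ := by group
  rw [e4]
  exact e2

omit [Finite H] in
/-- an element of the normalizer of `S` whose square is the central involution -/
theorem exists_four : ∃ f ∈ normalizer (S : Set H), π f * π f = neg1 := by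
  obtain ⟨s0, hs0, hs0Q, hs3, hs1⟩ := h.exists_gen hQS hS
  obtain ⟨g, hg, hg2⟩ := HnSl.exists_inv (π s0) hs3 hs1
  obtain ⟨f, rfl⟩ := h.surj g
  refine ⟨f, ?_, hg2⟩
  have : Finite H := h.finite
  refine Subgroup.mem_normalizer_fintype (S := (S : Set H)) fun s hs => ?_
  change f * s * f⁻¹ ∈ S
  rw [h.mem_S_iff hQS]
  obtain ⟨n, hn⟩ := h.zpow_of_S hQS hS hs0 hs0Q hs
  have h1 : π s = (π s0) ^ n := by
    rw [h.mem_iff, map_mul, map_inv, map_zpow, inv_mul_eq_one] at hn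
    exact hn.symm
  have h2 : π f * π s0 * (π f)⁻¹ = π s0 * π s0 := by rw [hg]; group
  refine ⟨(s0 * s0) ^ n, S.zpow_mem (S.mul_mem hs0 hs0) n, ?_⟩
  rw [map_mul, map_mul, map_inv, h1, map_zpow, map_mul, ← h2, conj_zpow]

omit [Finite H] h hQS in
theorem dvd_normalizer_aux : 729 ∣ Nat.card ↥(normalizer (S : Set H)) := by
  rw [← hS]
  exact Subgroup.card_dvd_of_le le_normalizer

theorem dvd_normalizer : 2916 ∣ Nat.card ↥(normalizer (S : Set H)) := by
  have h1 := dvd_normalizer_aux hS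
  obtain ⟨f, hf, hf2⟩ := h.exists_four hQS hS
  have h2 : orderOf (π f) = 2 ^ (1 + 1) := by
    have : Fact (Nat.Prime 2) := ⟨Nat.prime_two⟩
    refine orderOf_eq_prime_pow ?_ ?_
    · rw [pow_one, pow_two, hf2]
      exact neg_ne
    · have h3 : π f ^ (2 ^ (1 + 1)) = (π f * π f) * (π f * π f) := by
        rw [show (2 : ℕ) ^ (1 + 1) = 2 * 2 by norm_num, pow_mul, pow_two, pow_two]
      rw [h3, hf2, neg_sq]
  have h3 : 4 ∣ Nat.card ↥(normalizer (S : Set H)) := by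
    have h4 : orderOf (π f) ∣ orderOf f := orderOf_map_dvd π f
    rw [h2] at h4
    have h5 : orderOf f = orderOf (⟨f, hf⟩ : ↥(normalizer (S : Set H))) := by rw [← Subgroup.orderOf_coe]
    rw [h5] at h4
    exact h4.trans (orderOf_dvd_natCard _)
  have h4 : Nat.Coprime 4 729 := by norm_num
  exact h4.mul_dvd_of_dvd_of_dvd h3 h1

/-- the orbits of `N(S)` on `Q \ Z` have length divisible by 12 -/
theorem twelve_dvd {q : H} (hq : q ∈ Q) (hqZ : q ∉ Z) : 12 ∣ (centralizer {q}).relIndex (normalizer (S : Set H)) := by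
  have h1 := h.dvd_normalizer hQS hS
  have h2 := card_mul_rel (inf_le_right : centralizer {q} ⊓ normalizer (S : Set H) ≤ normalizer (S : Set H))
  rw [Subgroup.inf_relIndex_right] at h2
  have h3 : Nat.card ↥(centralizer {q} ⊓ normalizer (S : Set H)) ∣ 243 := by
    have := Subgroup.card_dvd_of_le (inf_le_left : centralizer {q} ⊓ normalizer (S : Set H) ≤ centralizer {q})
    rwa [(h.card_cent hq hqZ).1] at this
  rw [← h2] at h1
  obtain ⟨k, hk⟩ := h3
  have h4 : 243 * 12 ∣ 243 * (centralizer {q}).relIndex (normalizer (S : Set H)) := by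
    refine Dvd.dvd.trans (by norm_num; exact h1) ?_
    exact Nat.mul_dvd_mul_right ⟨k, hk⟩ _
  exact Nat.dvd_of_mul_dvd_mul_left (by norm_num) h4

/-- `W \ Z` and its invariant subsets -/
theorem twelve_dvd_card {X : Set H} (hX : ∀ m ∈ normalizer (S : Set H), ∀ x ∈ X, m * x * m⁻¹ ∈ X)
    (hXQ : ∀ x ∈ X, x ∈ Q ∧ x ∉ Z) : 12 ∣ Nat.card ↥X :=
  dvd_card _ X hX 12 fun x hx => h.twelve_dvd hQS hS (hXQ x hx).1 (hXQ x hx).2

omit [Finite H] hQS hS in
theorem conj_W {m q : H} (hm : m ∈ normalizer (S : Set H)) (hq : q ∈ h.W S) : m * q * m⁻¹ ∈ h.W S := by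
  obtain ⟨h1, h2⟩ := hq
  refine ⟨h.normalQ.conj_mem q h1 m, fun s hs => ?_⟩
  have h3 : m⁻¹ * s * m ∈ S := by
    have := (Subgroup.mem_normalizer_iff.1 ((normalizer (S : Set H)).inv_mem hm) s).1 hs
    simpa using this
  have h4 := h2 _ h3
  have h5 := h.comm_Z h4 m
  have h6 : s * (m * q * m⁻¹) * s⁻¹ * (m * q * m⁻¹)⁻¹ = m⁻¹ * s * m * q * (m⁻¹ * s * m)⁻¹ * q⁻¹ := by
    calc s * (m * q * m⁻¹) * s⁻¹ * (m * q * m⁻¹)⁻¹ = (m * (m⁻¹ * s * m * q * (m⁻¹ * s * m)⁻¹ * q⁻¹)) * m⁻¹ := by group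
      _ = _ := by rw [h5, mul_inv_cancel_right]
  rw [h6]
  exact h4

omit [Finite H] hQS hS in
theorem conj_notMem_Z {m q : H} (hq : q ∉ Z) : m * q * m⁻¹ ∉ Z := by
  intro h1
  apply hq
  have h2 := h.normalZ.conj_mem _ h1 m⁻¹
  have h3 : m⁻¹ * (m * q * m⁻¹) * m⁻¹⁻¹ = q := by group
  rwa [h3] at h2

omit [Finite H] hQS hS in
theorem Z_le_W : Z ≤ h.W S := by
  intro z hz
  refine ⟨h.le hz, fun s _ => ?_⟩
  rw [h.comm_Z hz s, mul_inv_cancel_right, mul_inv_cancel]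
  exact Z.one_mem

theorem card_W : Nat.card ↥(h.W S) = 27 := by
  have h1 : 12 ∣ Nat.card ↥({x | x ∈ h.W S ∧ x ∉ Z} : Set H) := by
    refine h.twelve_dvd_card hQS hS ?_ ?_
    · rintro m hm x ⟨hx1, hx2⟩
      exact ⟨h.conj_W hm hx1, h.conj_notMem_Z hx2⟩
    · rintro x ⟨hx1, hx2⟩
      exact ⟨hx1.1, hx2⟩
  have h2 : Nat.card ↥({x | x ∈ h.W S ∧ x ∉ Z} : Set H) + 3 = Nat.card ↥(h.W S) := by
    have h3 := Set.ncard_sdiff_add_ncard_of_subset (s := (Z : Set H)) (t := (h.W S : Set H)) h.Z_le_W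
    rw [← Nat.card_coe_set_eq, ← Nat.card_coe_set_eq, ← Nat.card_coe_set_eq] at h3
    have h4 : Nat.card ↥(Z : Set H) = 3 := h.cardZ
    rw [h4] at h3
    exact h3
  have h3 : Nat.card ↥(h.W S) ∣ 3 ^ 5 := by
    have := Subgroup.card_dvd_of_le (show h.W S ≤ Q from fun x hx => hx.1)
    rwa [h.cardQ] at this
  obtain ⟨j, hj, hj2⟩ := (Nat.dvd_prime_pow Nat.prime_three).1 h3
  rw [hj2] at h2 ⊢
  -- W is not Z
  have h4 : j ≠ 1 := by
    rintro rfl
    have h5 : Z = h.W S := Subgroup.eq_of_le_of_card_ge h.Z_le_W (by rw [hj2, h.cardZ]; norm_num)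
    obtain ⟨q, hq, hqZ⟩ : ∃ q ∈ Q, q ∉ Z := by
      by_contra hcon
      push Not at hcon
      have h6 : Q = Z := le_antisymm hcon h.le
      have h7 := h.cardQ
      rw [h6, h.cardZ] at h7
      norm_num at h7
    obtain ⟨c, hc⟩ := h.exists_good hQS hS hq hqZ
    rw [← h5] at hc
    exact h.conj_notMem_Z hqZ hc
  have h5 : j ≠ 5 := by
    rintro rfl
    have h6 : h.W S = Q := Subgroup.eq_of_le_of_card_ge (fun x hx => hx.1) (by rw [hj2, h.cardQ]; norm_num)
    obtain ⟨s0, hs0, hs0Q, -, -⟩ := h.exists_gen hQS hS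
    apply hs0Q
    refine h.mem_of_triv fun q hq => ?_
    rw [← h6] at hq
    exact hq.2 s0 hs0
  interval_cases j <;> omega

/-- the centralizer in `Q` of an element of `S \ Q` is in `W` -/
theorem cent_le_W {y q : H} (hy : y ∈ S) (hyQ : y ∉ Q) (hq : q ∈ Q) (hqy : y * q = q * y) : q ∈ h.W S := by
  refine ⟨hq, fun s hs => ?_⟩
  obtain ⟨n, hn⟩ := h.zpow_of_S hQS hS hy hyQ hs
  obtain ⟨k, hk⟩ : ∃ k, k = (y ^ n)⁻¹ * s := ⟨_, rfl⟩
  rw [← hk] at hn
  obtain ⟨x, hx⟩ : ∃ x, x = y ^ n := ⟨_, rfl⟩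
  have hqt : x * q = q * x := by
    rw [hx]
    exact (Commute.zpow_left (hqy : Commute y q) n).eq
  rw [← hx] at hk
  have e1 : s = x * k := by rw [hk]; group
  have e2 := h.comm k hn q hq
  have e3 := h.comm_Z e2 x
  have e4 : s * q * s⁻¹ * q⁻¹ = k * q * k⁻¹ * q⁻¹ := by
    rw [e1]
    calc x * k * q * (x * k)⁻¹ * q⁻¹ = (x * (k * q * k⁻¹ * q⁻¹)) * q * x⁻¹ * q⁻¹ := by group
      _ = k * q * k⁻¹ * q⁻¹ * (x * q) * x⁻¹ * q⁻¹ := by rw [e3]; group
      _ = k * q * k⁻¹ * q⁻¹ * (q * x) * x⁻¹ * q⁻¹ := by rw [hqt]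
      _ = _ := by group
  rw [e4]
  exact e2

/-- an element of `S` with at most three conjugates under `S` is in `W` -/
theorem mem_W_of_relIndex {y : H} (hy : y ∈ S) (h3 : (centralizer {y}).relIndex S ≤ 3) : y ∈ h.W S := by
  have hS0 := card_mul_rel (inf_le_right : centralizer {y} ⊓ S ≤ S)
  rw [Subgroup.inf_relIndex_right, hS] at hS0
  have hD : 243 ≤ Nat.card ↥(centralizer {y} ⊓ S : Subgroup H) := by
    by_contra hcon
    push Not at hcon
    have : Nat.card ↥(centralizer {y} ⊓ S : Subgroup H) * (centralizer {y}).relIndex S ≤ 242 * 3 :=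
      Nat.mul_le_mul (by omega) h3
    omega
  by_cases hyQ : y ∈ Q
  · by_cases hyZ : y ∈ Z
    · exact h.Z_le_W hyZ
    obtain ⟨hC1, hC2⟩ := h.card_cent hyQ hyZ
    have e1 : centralizer {y} ⊓ S = centralizer {y} :=
      Subgroup.eq_of_le_of_card_ge inf_le_left (by rw [hC1]; exact hD)
    have e2 : centralizer {y} ≤ S := inf_eq_left.1 e1
    have e3 : (centralizer {y} : Subgroup H).map π = S.map π := by
      refine Subgroup.eq_of_le_of_card_ge (Subgroup.map_mono e2) ?_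
      rw [hC2, h.card_map_S hQS hS]
    refine ⟨hyQ, fun s hs => ?_⟩
    have e4 : π s ∈ (centralizer {y} : Subgroup H).map π := by
      rw [e3]
      exact ⟨s, hs, rfl⟩
    obtain ⟨d, hd, hds⟩ := e4
    obtain ⟨k, hk⟩ : ∃ k, k = d⁻¹ * s := ⟨_, rfl⟩
    have hkQ : k ∈ Q := by rw [h.mem_iff, hk, map_mul, map_inv, hds, inv_mul_cancel]
    have e5 : s = d * k := by rw [hk]; group
    have e6 := h.comm k hkQ y hyQ
    have e7 := h.comm_Z e6 d
    have e8 : d * y = y * d := mem_centralizer_singleton_iff.1 hd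
    have e9 : s * y * s⁻¹ * y⁻¹ = k * y * k⁻¹ * y⁻¹ := by
      rw [e5]
      calc d * k * y * (d * k)⁻¹ * y⁻¹ = (d * (k * y * k⁻¹ * y⁻¹)) * y * d⁻¹ * y⁻¹ := by group
        _ = k * y * k⁻¹ * y⁻¹ * (d * y) * d⁻¹ * y⁻¹ := by rw [e7]; group
        _ = k * y * k⁻¹ * y⁻¹ * (y * d) * d⁻¹ * y⁻¹ := by rw [e8]
        _ = _ := by group
    rw [e9]
    exact e6
  · exfalso
    have e1 : Q ⊓ centralizer {y} ≤ h.W S := by
      intro q hq
      refine h.cent_le_W hQS hS hy hyQ hq.1 ?_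
      exact (mem_centralizer_singleton_iff.1 hq.2).symm
    have e2 : Nat.card ↥(Q ⊓ centralizer {y}) ≤ 27 := by
      rw [← h.card_W hQS hS]
      exact Subgroup.card_le_of_le e1
    have e3 := h.card_eq (centralizer {y} ⊓ S)
    have e4 : Nat.card ↥((centralizer {y} ⊓ S : Subgroup H).map π) ≤ 3 := by
      rw [← h.card_map_S hQS hS]
      exact Subgroup.card_le_of_le (Subgroup.map_mono inf_le_right)
    have e5 : centralizer {y} ⊓ S ⊓ Q = Q ⊓ centralizer {y} := by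
      rw [inf_assoc, inf_eq_right.2 hQS, inf_comm]
    rw [e5] at e3
    have : Nat.card ↥(Q ⊓ centralizer {y}) * Nat.card ↥((centralizer {y} ⊓ S : Subgroup H).map π) ≤ 27 * 3 :=
      Nat.mul_le_mul e2 e4
    omega

omit hQS hS in
/-- abelian subgroups of `Q` have order at most 27 -/
theorem card_abelian_Q {B : Subgroup H} (hB : B ≤ Q) (hc : ∀ a ∈ B, ∀ b ∈ B, a * b = b * a) : Nat.card ↥B ≤ 27 := by
  by_contra hcon
  push Not at hcon
  have h3 : Nat.card ↥B ∣ 3 ^ 5 := by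
    have := Subgroup.card_dvd_of_le hB
    rwa [h.cardQ] at this
  obtain ⟨j, hj, hj2⟩ := (Nat.dvd_prime_pow Nat.prime_three).1 h3
  have hj4 : 4 ≤ j := by
    by_contra hcon2
    push Not at hcon2
    interval_cases j <;> omega
  have hB81 : 81 ≤ Nat.card ↥B := by
    rw [hj2]
    calc 81 = 3 ^ 4 := by norm_num
      _ ≤ 3 ^ j := Nat.pow_le_pow_right (by norm_num) hj4
  obtain ⟨b, hb, hbZ⟩ : ∃ b ∈ B, b ∉ Z := by
    by_contra hcon2
    push Not at hcon2
    have := Subgroup.card_le_of_le (show B ≤ Z from hcon2)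
    rw [h.cardZ] at this
    omega
  have h4 : B = Q ⊓ centralizer {b} := by
    refine Subgroup.eq_of_le_of_card_ge ?_ ?_
    · intro a ha
      exact ⟨hB ha, mem_centralizer_singleton_iff.2 (hc a ha b hb)⟩
    · rw [h.card_CQ (hB hb) hbZ]
      exact hB81
  obtain ⟨q, hq, hqB⟩ : ∃ q ∈ Q, q ∉ B := by
    by_contra hcon2
    push Not at hcon2
    have h5 := Subgroup.card_le_of_le (show Q ≤ B from hcon2)
    have h6 := h.card_CQ (hB hb) hbZ
    rw [← h4] at h6
    rw [h.cardQ] at h5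
    omega
  have h5 : (centralizer {q}).relIndex B ≤ Nat.card ↥{x : H | x * q⁻¹ ∈ Z} := by
    refine relIndex_le B {x : H | x * q⁻¹ ∈ Z} ?_ ?_
    · intro m hm x hx
      have hx' : x * q⁻¹ ∈ Z := hx
      change m * x * m⁻¹ * q⁻¹ ∈ Z
      have e1 := h.comm_Z hx' m
      have e2 : m * x * m⁻¹ * q⁻¹ = (x * q⁻¹) * (m * q * m⁻¹ * q⁻¹) := by
        calc m * x * m⁻¹ * q⁻¹ = (m * (x * q⁻¹)) * q * m⁻¹ * q⁻¹ := by group
          _ = _ := by rw [e1]; group
      rw [e2]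
      exact Z.mul_mem hx' (h.comm m (hB hm) q hq)
    · change q * q⁻¹ ∈ Z
      rw [mul_inv_cancel]
      exact Z.one_mem
  have h6 : Nat.card ↥{x : H | x * q⁻¹ ∈ Z} = 3 := by
    rw [← h.cardZ]
    exact Nat.card_congr
      { toFun := fun x => ⟨x.1 * q⁻¹, x.2⟩
        invFun := fun x => ⟨x.1 * q, by change x.1 * q * q⁻¹ ∈ Z; rw [mul_inv_cancel_right]; exact x.2⟩
        left_inv := fun x => Subtype.ext (inv_mul_cancel_right _ _)
        right_inv := fun x => Subtype.ext (mul_inv_cancel_right _ _) }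
  rw [h6] at h5
  have h7 := card_mul_rel (inf_le_right : centralizer {q} ⊓ B ≤ B)
  rw [Subgroup.inf_relIndex_right] at h7
  have h8 : 27 ≤ Nat.card ↥(centralizer {q} ⊓ B : Subgroup H) := by
    by_contra hcon2
    push Not at hcon2
    have : Nat.card ↥(centralizer {q} ⊓ B : Subgroup H) * (centralizer {q}).relIndex B ≤ 26 * 3 :=
      Nat.mul_le_mul (by omega) h5
    omega
  obtain ⟨b', hb', hbZ'⟩ : ∃ b' ∈ (centralizer {q} ⊓ B : Subgroup H), b' ∉ Z := by
    by_contra hcon2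
    push Not at hcon2
    have := Subgroup.card_le_of_le (show (centralizer {q} ⊓ B : Subgroup H) ≤ Z from hcon2)
    rw [h.cardZ] at this
    omega
  have h9 : B = Q ⊓ centralizer {b'} := by
    refine Subgroup.eq_of_le_of_card_ge ?_ ?_
    · intro a ha
      exact ⟨hB ha, mem_centralizer_singleton_iff.2 (hc a ha b' hb'.2)⟩
    · rw [h.card_CQ (hB hb'.2) hbZ']
      exact hB81
  apply hqB
  rw [h9]
  exact ⟨hq, mem_centralizer_singleton_iff.2 (mem_centralizer_singleton_iff.1 hb'.1).symm⟩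

omit hQS hS in
/-- abelian 3-subgroups have order at most 81 -/
theorem card_abelian {A : Subgroup H} (hA : IsPGroup 3 ↥A) (hc : ∀ a ∈ A, ∀ b ∈ A, a * b = b * a) :
    Nat.card ↥A ≤ 81 := by
  have : Fact (Nat.Prime 3) := ⟨Nat.prime_three⟩
  have h1 := h.card_eq A
  have h2 := h.card_abelian_Q (B := A ⊓ Q) inf_le_right fun a ha b hb => hc a ha.1 b hb.1
  have h3 : Nat.card ↥(A.map π) ≤ 3 := by
    obtain ⟨n, hn⟩ := IsPGroup.iff_card.1 (hA.map π)
    have h4 : Nat.card ↥(A.map π) ∣ 120 := by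
      rw [← HnSl.card]
      exact Subgroup.card_subgroup_dvd_card _
    rw [hn] at h4 ⊢
    have h5 : n ≤ 1 := by
      by_contra hcon
      push Not at hcon
      have h6 : 3 ^ 2 ∣ 120 := (Nat.pow_dvd_pow 3 hcon).trans h4
      revert h6
      norm_num
    calc 3 ^ n ≤ 3 ^ 1 := Nat.pow_le_pow_right (by norm_num) h5
      _ = 3 := by norm_num
  rw [h1]
  calc _ ≤ 27 * 3 := Nat.mul_le_mul h2 h3
    _ = 81 := by norm_num

end LC

end Cfsg.Agent.H815.HnLoc
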