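import Cfsg.Agent.H285.D4Sylow
import Cfsg.Agent.S1059
import Cfsg.Agent.RankThreeFus.RankEnd
import Cfsg.Agent.ChevalleyStructure.ReeCount

/-!
# Sectional 2-rank of `G₂(q)`, `³D₄(q)`, `q` odd, and of groups with a Sylow 2-subgroup of order at most 16 (helper815)

* `rank_T` : the model `(Z_m × Z_m) ⋊ (Z_2 × Z_2)` has sectional 2-rank at most 4;
* `rank_g2`, `rank_d4` : `G₂(q)`, `³D₄(q)`;
* `rank_of_sylow_card` : a Sylow 2-subgroup of order at most `2 ^ k`.
-/

set_option autoImplicit false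

namespace Cfsg.Agent.H815.RankG2

open Cfsg Cfsg.Agent Subgroup Cfsg.Lie Cfsg.Agent.ClassificationK.GTwoModel

/-- the homocyclic subgroup -/
def ab (m : ℕ) : Multiplicative (ZMod m) × Multiplicative (ZMod m) →* T m where
  toFun p := ⟨p.1.toAdd, p.2.toAdd, false, false⟩
  map_one' := rfl
  map_mul' p q := by
    rw [T.mul_mk]
    simp only [sg_false, cond_false, Bool.xor_false, one_mul]
    rfl

theorem ab_injective (m : ℕ) : Function.Injective (ab m) := by
  intro p q h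
  have h1 := congrArg T.i h
  have h2 := congrArg T.j h
  exact Prod.ext h1 h2

theorem rank_prod (m : ℕ) [NeZero m] :
    SectionalPRankLE 2 2 (Multiplicative (ZMod m) × Multiplicative (ZMod m)) := by
  have h1 : SectionalPRankLE 2 1 (Multiplicative (ZMod m)) :=
    RankThreeFus.RankEnd.cyclic_one inferInstance
  have h2 := (GH.Rank.srank_le_iff (p := 2) (by norm_num)).2 h1
  rw [← GH.Rank.srank_le_iff (by norm_num), GH.Rank.srank_prod Nat.prime_two]
  omega

theorem rank_T (m : ℕ) [NeZero m] : SectionalPRankLE 2 4 (T m) := by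
  have h1 : SectionalPRankLE 2 2 ↥(ab m).range :=
    GH.Rank.of_surjective (rank_prod m) (ab m).rangeRestrict (ab m).rangeRestrict_surjective
  refine GH.Rank.of_index_le (a := 2) (b := 2) h1 ?_
  have h2 := (ab m).range.card_mul_index
  rw [T.card_T, ← Nat.card_congr (MonoidHom.ofInjective (ab_injective m)).toEquiv, Nat.card_prod] at h2
  have h3 : Nat.card (Multiplicative (ZMod m)) = m := Nat.card_zmod m
  rw [h3] at h2
  have h4 : 0 < m * m := Nat.mul_pos (Nat.pos_of_ne_zero (NeZero.ne m)) (Nat.pos_of_ne_zero (NeZero.ne m))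
  have h5 : m * m * (ab m).range.index = m * m * 4 := by rw [h2]; ring
  have h6 := Nat.eq_of_mul_eq_mul_left h4 h5
  omega

/-- **`G₂(q)`, `q` odd.** -/
theorem rank_g2 {F : Type*} [Field F] [Fintype F] (hF : Odd (Fintype.card F)) :
    SectionalPRankLE 2 4 ↥(chevG2.group F) := by
  have : Fact (Nat.Prime 2) := ⟨Nat.prime_two⟩
  obtain ⟨P⟩ : Nonempty (Sylow 2 ↥(chevG2.group F)) := inferInstance
  obtain ⟨k, hk, ⟨e⟩⟩ := ClassificationK.GTwoSylow.exists_equiv hF (S1059.result rfl) P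
  rw [← GH.Rank.sylow_iff P]
  have : NeZero (2 * 2 ^ k) := ⟨by positivity⟩
  exact GH.Rank.of_equiv (rank_T _) e

/-- **`³D₄(q)`, `q` odd.** -/
theorem rank_d4 {K : Type*} [Field K] [Fintype K] {q : ℕ} (hq : Odd q) (hK : Fintype.card K = q ^ 3) :
    SectionalPRankLE 2 4 ↥(twistedD4 K q) := by
  have : Fact (Nat.Prime 2) := ⟨Nat.prime_two⟩
  obtain ⟨P⟩ : Nonempty (Sylow 2 ↥(twistedD4 K q)) := inferInstance
  obtain ⟨k, m, hk, -, -, ⟨e⟩⟩ := H285.D4Sylow.exists_equiv hq hK P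
  rw [← GH.Rank.sylow_iff P]
  have : NeZero (2 * 2 ^ k) := ⟨by positivity⟩
  exact GH.Rank.of_equiv (rank_T _) e

/-- a Sylow 2-subgroup of order at most `2 ^ k` -/
theorem rank_of_sylow_card {G : Type*} [Group G] [Finite G] {k : ℕ} (P : Sylow 2 G)
    (h : Nat.card ↥(P : Subgroup G) ≤ 2 ^ k) : SectionalPRankLE 2 k G := by
  have : Fact (Nat.Prime 2) := ⟨Nat.prime_two⟩
  rw [← GH.Rank.sylow_iff P]
  exact TwoFusion.SectionalRank.sectionalPRankLE_of_card_le h

/-- order not divisible by `2 ^ (k + 1)` -/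
theorem rank_of_not_dvd {G : Type*} [Group G] [Finite G] {k : ℕ} (h : ¬ 2 ^ (k + 1) ∣ Nat.card G) :
    SectionalPRankLE 2 k G := by
  have : Fact (Nat.Prime 2) := ⟨Nat.prime_two⟩
  obtain ⟨P⟩ : Nonempty (Sylow 2 G) := inferInstance
  refine rank_of_sylow_card P ?_
  rw [P.card_eq_multiplicity]
  refine Nat.pow_le_pow_right (by norm_num) ?_
  by_contra hcon
  exact h ((Nat.Prime.pow_dvd_iff_le_factorization Nat.prime_two Nat.card_pos.ne').2 (by omega))

/-- **The small Ree groups.** -/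
theorem rank_ree_group {K : Type*} [Field K] [Fintype K] {m : ℕ} (hK : Fintype.card K = 3 ^ (2 * m + 1)) :
    SectionalPRankLE 2 3 ↥(twistedG2 K (3 ^ m)) := by
  apply rank_of_not_dvd
  rw [ChevalleyStructure.ReeCount.card_twistedG2 hK]
  set q := 3 ^ (2 * m + 1) with hq
  have h8 : q % 8 = 3 := by
    rw [hq, pow_succ, pow_mul, Nat.mul_mod, Nat.pow_mod]
    norm_num
  have h3 : (q ^ 3) % 8 = 3 := by
    rw [Nat.pow_mod, h8]
  obtain ⟨a, ha⟩ : ∃ a, q - 1 = 2 * (4 * a + 1) := ⟨q / 8, by omega⟩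
  obtain ⟨b, hb⟩ : ∃ b, q ^ 3 + 1 = 4 * (2 * b + 1) := ⟨q ^ 3 / 8, by omega⟩
  rw [ha, hb]
  have hodd : Odd (q ^ 3 * (4 * a + 1) * (2 * b + 1)) := by
    refine ((Nat.odd_iff.2 (by omega)).mul (Nat.odd_iff.2 (by omega))).mul (Nat.odd_iff.2 (by omega))
  rw [show q ^ 3 * (2 * (4 * a + 1)) * (4 * (2 * b + 1)) = 2 ^ 3 * (q ^ 3 * (4 * a + 1) * (2 * b + 1)) by ring,
    pow_succ 2 3]
  intro h
  have h2 := Nat.dvd_of_mul_dvd_mul_left (by norm_num) h
  exact (Nat.not_even_iff_odd.2 hodd) (even_iff_two_dvd.2 h2)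

/-- **The small Ree groups.** -/
theorem rank_ree {X : Type*} [Group X] (h : Lie.IsoRee X) : SectionalPRankLE 2 4 X := by
  obtain ⟨K, iK, iF, m, -, hK, ⟨e⟩⟩ := h
  have : Finite ↥(twistedG2 K (3 ^ m)) := inferInstance
  exact GH.Rank.of_equiv (GH.Rank.le_mono (by norm_num) (rank_ree_group hK) (by norm_num)) e.symm

end Cfsg.Agent.H815.RankG2
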