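import Cfsg.Agent.HN.Syl

/-!
# Centralizers in `2.HS` of elements of `2.HS.2` of square 1 or `τ` (helper815)

`thirty_two` : `32` divides `|C_K(h)|` if `h² ∈ {1, τ}`.
-/

set_option autoImplicit false

namespace Cfsg.Agent.H815.HnCent

open Subgroup
open Cfsg.Agent.HN Cfsg.Agent.HN.Pres Cfsg.Agent.HN.P1408 Cfsg.Agent.HN.H0Basic
open Cfsg.Agent.HN.Syl Cfsg.Agent.HN.PC
open Cfsg.Agent.HN.HS100 (K K_normal)

/-- a proper subgroup of a 2-group has even index -/
theorem two_mul_dvd {G : Type*} [Group G] {A B : Subgroup G} [Finite ↥B] (hAB : A ≤ B) (hB : IsPGroup 2 ↥B) {x : G}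
    (hx : x ∈ B) (hxA : x ∉ A) : 2 * Nat.card ↥A ∣ Nat.card ↥B := by
  have hfact : Fact (Nat.Prime 2) := ⟨Nat.prime_two⟩
  obtain ⟨b, hb⟩ := (IsPGroup.iff_card (p := 2)).1 hB
  have h1 := card_dvd_of_le hAB
  rw [hb] at h1
  obtain ⟨a, hab, ha⟩ := (Nat.dvd_prime_pow Nat.prime_two).1 h1
  have h2 : a ≠ b := by
    rintro rfl
    apply hxA
    have h3 : A = B := by
      apply SetLike.coe_injective
      apply Set.eq_of_subset_of_ncard_le hAB _ (Set.toFinite _)
      rw [← Nat.card_coe_set_eq, ← Nat.card_coe_set_eq]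
      change Nat.card ↥B ≤ Nat.card ↥A
      rw [ha, hb]
    rw [h3]
    exact hx
  rw [ha, hb, ← pow_succ']
  exact pow_dvd_pow 2 (by omega)

theorem card_P {n : ℕ} (hn : n ≤ 11) : Nat.card ↥(P n) = 2 ^ n :=
  (card_Pc (fun k hk => step (by omega)) (fun k hk => s_notMem (by omega))).2

theorem isPGroup_P {n : ℕ} (hn : n ≤ 11) : IsPGroup 2 ↥(P n) := IsPGroup.of_card (card_P hn)

/-- conjugation -/
theorem dvd_conj {u h : H0} {n : ℕ} (hc : IsConj u h) (hu : n ∣ Nat.card ↥(K ⊓ centralizer ({u} : Set H0))) :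
    n ∣ Nat.card ↥(K ⊓ centralizer ({h} : Set H0)) := by
  have hfin : Finite H0 := H0Basic.finite_H0
  obtain ⟨c, rfl⟩ := isConj_iff.1 hc
  refine hu.trans ?_
  have hK : K.Normal := K_normal
  let F : ↥(K ⊓ centralizer ({u} : Set H0)) →* ↥(K ⊓ centralizer ({c * u * c⁻¹} : Set H0)) :=
    { toFun := fun k => ⟨c * k * c⁻¹, hK.conj_mem k k.2.1 c, by
        refine mem_centralizer_singleton_iff.2 ?_
        have h1 := mem_centralizer_singleton_iff.1 k.2.2
        calc c * k * c⁻¹ * (c * u * c⁻¹) = c * (k * u) * c⁻¹ := by group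
          _ = c * (u * k) * c⁻¹ := by rw [h1]
          _ = _ := by group⟩
      map_one' := Subtype.ext (by
        change c * 1 * c⁻¹ = 1
        group)
      map_mul' := fun a b => Subtype.ext (by
        change c * (a * b) * c⁻¹ = c * a * c⁻¹ * (c * b * c⁻¹)
        group) }
  have hF : Function.Injective F := by
    intro a b h
    apply Subtype.ext
    have h1 : c * (a : H0) * c⁻¹ = c * b * c⁻¹ := congrArg Subtype.val h
    exact mul_left_cancel (mul_right_cancel h1)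
  exact card_dvd_of_injective F hF

theorem s_mem_K {i : ℕ} (hi : i < 8) : s i ∈ K := by
  interval_cases i <;> exact mem_K_of_par rfl rfl

theorem P_le_K : P 5 ≤ K := by
  rw [P, Pc, closure_le]
  rintro _ ⟨i, hi, rfl⟩
  have hi' : i < 5 := hi
  exact s_mem_K (by omega)

/-- an element commuting with `s 0, …, s 4` -/
theorem of_comm {u : H0} (hu : ∀ i < 5, s i * u = u * s i) :
    32 ∣ Nat.card ↥(K ⊓ centralizer ({u} : Set H0)) := by
  have h1 : P 5 ≤ K ⊓ centralizer ({u} : Set H0) := by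
    refine le_inf P_le_K ?_
    rw [P, Pc, closure_le]
    rintro _ ⟨i, hi, rfl⟩
    exact mem_centralizer_singleton_iff.2 (hu i hi)
  have h2 := card_dvd_of_le h1
  rwa [card_P (by norm_num)] at h2

/-- words -/
theorem conj_of_word {L w v : List ℕ} (h : eqw (w ++ v) (v ++ L) = true) : IsConj (hw L) (hw w) := by
  rw [isConj_iff]
  refine ⟨hw v, ?_⟩
  have h1 := hw_eq h
  rw [hw_append, hw_append] at h1
  rw [← h1, mul_inv_cancel_right]

theorem of_word {u : H0} {L c : List ℕ} (h0 : hw L = u)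
    (h2 : ∀ i < 5, eqw (sw i ++ cat c) (cat c ++ sw i) = true) {v : List ℕ} (h3 : eqw (cat c ++ v) (v ++ L) = true) :
    32 ∣ Nat.card ↥(K ⊓ centralizer ({u} : Set H0)) := by
  refine dvd_conj (u := hw (cat c)) ?_ (of_comm fun i hi => ?_)
  · rw [← h0]
    exact (conj_of_word h3).symm
  · have h4 := hw_eq (h2 i hi)
    rwa [hw_append, hw_append] at h4

theorem gz_dvd : 32 ∣ Nat.card ↥(K ⊓ centralizer ({gz} : Set H0)) := by
  apply of_word (L := [4]) (c := [4, 7, 8]) (v := decW 1130772052) hw_z <;> decide +kernel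

theorem d_dvd : 32 ∣ Nat.card ↥(K ⊓ centralizer ({d} : Set H0)) := by
  apply of_word (L := [1, 3, 1, 2, 1, 4, 3, 4, 2, 4]) (c := [2, 3, 4, 5, 7, 8]) (v := decW 37050825352273) rfl <;>
    decide +kernel

theorem a_dvd : 32 ∣ Nat.card ↥(K ⊓ centralizer ({a} : Set H0)) :=
  of_comm fun _ hi => a_comm (s_mem_S (by omega))

theorem aτ_dvd : 32 ∣ Nat.card ↥(K ⊓ centralizer ({a * τ} : Set H0)) := by
  apply of_comm
  intro i hi
  have h1 := a_comm (g := s i) (s_mem_S (by omega))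
  rw [← mul_assoc, h1, mul_assoc, mul_assoc, τ_comm]

/-- the representative of the square roots of `τ` -/
def ux : H0 := hw (cat [5, 7, 8, 9])

theorem comm_of {L : List ℕ} (h : eqw (L ++ cat [5, 7, 8, 9]) (cat [5, 7, 8, 9] ++ L) = true) :
    hw L ∈ centralizer ({ux} : Set H0) := by
  rw [mem_centralizer_singleton_iff, ux, ← hw_append, ← hw_append]
  exact hw_eq h

theorem ux_dvd : 32 ∣ Nat.card ↥(K ⊓ centralizer ({ux} : Set H0)) := by
  have hfin : Finite H0 := H0Basic.finite_H0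
  have h0 : s 0 ∈ centralizer ({ux} : Set H0) := comm_of (L := sw 0) (by decide +kernel)
  have h1 : s 1 ∈ centralizer ({ux} : Set H0) := comm_of (L := sw 1) (by decide +kernel)
  have h2 : s 2 ∈ centralizer ({ux} : Set H0) := comm_of (L := sw 2) (by decide +kernel)
  have h4 : s 4 ∈ centralizer ({ux} : Set H0) := comm_of (L := sw 4) (by decide +kernel)
  have h5 : s 5 * s 6 ∈ centralizer ({ux} : Set H0) := by
    have h : hw (sw 5 ++ sw 6) ∈ centralizer ({ux} : Set H0) := comm_of (by decide +kernel)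
    rwa [hw_append] at h
  set C := K ⊓ centralizer ({ux} : Set H0) with hC
  have e3 : P 3 ≤ C := by
    rw [P, Pc, closure_le]
    rintro _ ⟨i, hi, rfl⟩
    have hi' : i < 3 := hi
    refine ⟨s_mem_K (by omega), ?_⟩
    interval_cases i
    · exact h0
    · exact h1
    · exact h2
  have hp : ∀ n, n ≤ 11 → IsPGroup 2 ↥(C ⊓ P n) := fun n hn => (isPGroup_P hn).to_le inf_le_right
  have e5 : 2 * Nat.card ↥(P 3) ∣ Nat.card ↥(C ⊓ P 5) := by
    refine two_mul_dvd (x := s 4) (le_inf e3 (Pc_mono (by norm_num))) (hp 5 (by norm_num))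
      ⟨⟨s_mem_K (by norm_num), h4⟩, mem_Pc (by norm_num)⟩ ?_
    intro h
    exact s_notMem (by norm_num) (Pc_mono (by norm_num) h : s 4 ∈ P 4)
  have e7 : 2 * Nat.card ↥(C ⊓ P 5) ∣ Nat.card ↥(C ⊓ P 7) := by
    refine two_mul_dvd (x := s 5 * s 6) (inf_le_inf_left _ (Pc_mono (by norm_num))) (hp 7 (by norm_num))
      ⟨⟨K.mul_mem (s_mem_K (by norm_num)) (s_mem_K (by norm_num)), h5⟩,
        (P 7).mul_mem (mem_Pc (by norm_num)) (mem_Pc (by norm_num))⟩ ?_
    intro h
    have h6 : s 5 * s 6 ∈ P 6 := Pc_mono (by norm_num) h.2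
    have h7 : s 5 ∈ P 6 := mem_Pc (by norm_num)
    have h8 := (P 6).mul_mem ((P 6).inv_mem h7) h6
    rw [inv_mul_cancel_left] at h8
    exact s_notMem (by norm_num) h8
  rw [card_P (by norm_num)] at e5
  have e : 32 ∣ Nat.card ↥(C ⊓ P 7) := (Nat.mul_dvd_mul_left 2 e5).trans e7
  exact e.trans (card_dvd_of_le inf_le_left)

theorem gx_dvd : 32 ∣ Nat.card ↥(K ⊓ centralizer ({gx} : Set H0)) := by
  refine dvd_conj (u := ux) ?_ ux_dvd
  have h : IsConj (hw [0]) ux := conj_of_word (v := decW 851933181642) (by decide +kernel)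
  rw [hw_x] at h
  exact h.symm

/-- **`32` divides `|C_K(h)|` if `h² ∈ {1, τ}`** -/
theorem thirty_two {h : H0} (hh : h ^ 2 = 1 ∨ h ^ 2 = τ) : 32 ∣ Nat.card ↥(K ⊓ centralizer ({h} : Set H0)) := by
  rcases sq_cases hh with rfl | rfl | h1 | h1 | h1 | h1 | h1
  · exact of_comm fun i _ => by rw [mul_one, one_mul]
  · exact of_comm fun i _ => τ_comm _
  · exact dvd_conj h1 a_dvd
  · exact dvd_conj h1 aτ_dvd
  · exact dvd_conj h1 gx_dvd
  · exact dvd_conj h1 gz_dvd
  · exact dvd_conj h1 d_dvd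

end Cfsg.Agent.H815.HnCent
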