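import Mathlib
import Cfsg.Agent.H300.SporBase
import Cfsg.Agent.StdAlt.Six.Aut

/-!
# Groups acting on `A₆` with odd kernel and an involution acting as a transposition (helper815)

`s ∈ C` acts on `A₆` as the transposition `(4 5)`; then `C_C(s)` maps to the centralizer `2 × S₄` of the transposition:
* `not_32` : `32` does not divide `|C_C(s)|`;
* `not_16` : `C_C(s)` has no normal 2-subgroup of order divisible by 16.
-/

set_option autoImplicit false

namespace Cfsg.Agent.H815.SixTrans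

open Subgroup Cfsg Cfsg.Agent
open Cfsg.Agent.StdAlt.Six
open Cfsg.Agent.H300.SporBase

/-- the transposition -/
def t45 : Equiv.Perm (Fin 6) := Equiv.swap 4 5

/-- the centralizer of the transposition -/
def M0 : Subgroup (Equiv.Perm (Fin 6)) := centralizer ({t45} : Set (Equiv.Perm (Fin 6)))

theorem mem_M0 {g : Equiv.Perm (Fin 6)} : g ∈ M0 ↔ g * t45 = t45 * g := mem_centralizer_singleton_iff

theorem cntM0 : (Finset.univ.filter (fun g : Equiv.Perm (Fin 6) => g * t45 = t45 * g)).card = 48 := by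
  decide +kernel

theorem card_M0 : Nat.card ↥M0 = 48 := by
  rw [← cntM0, ← Fintype.card_subtype, ← Nat.card_eq_fintype_card]
  exact Nat.card_congr (Equiv.subtypeEquivRight fun g => mem_M0)

/-- the three-cycle `(0 1 2)` -/
def c0' : Equiv.Perm (Fin 6) := Equiv.swap 0 1 * Equiv.swap 1 2

theorem c0_alt : c0' ∈ alternatingGroup (Fin 6) := Equiv.Perm.mem_alternatingGroup.2 (by decide +kernel)

theorem c0_cube : c0' * c0' * c0' = 1 := by decide +kernel

theorem c0_comm : c0' * t45 = t45 * c0' := by decide +kernel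

theorem c0_three : c0'.IsThreeCycle := (three_iff _).1 (by decide +kernel)

theorem comm_three : ∀ g : Equiv.Perm (Fin 6), g * g * g = 1 → g ≠ 1 → g * t45 = t45 * g → mv g = 3 := by
  decide +kernel

theorem eq_one_of_conj {g : Equiv.Perm (Fin 6)} (h : ∀ x : A6, g * x * g⁻¹ = (x : Equiv.Perm (Fin 6))) : g = 1 :=
  Cfsg.Agent.StandardComponent.AltAut.eq_one_of_centralizes (m := 4) (by norm_num) h

/-- automorphisms commuting with the transposition -/
theorem exists_perm {σ α : MulAut A6} (hσ : ∀ p : A6, (σ p : Equiv.Perm (Fin 6)) = t45 * p * t45⁻¹)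
    (h : α * σ = σ * α) : ∃ g ∈ M0, ∀ p : A6, (α p : Equiv.Perm (Fin 6)) = g * p * g⁻¹ := by
  have h1 : σ ⟨c0', c0_alt⟩ = ⟨c0', c0_alt⟩ := by
    apply Subtype.ext
    rw [hσ]
    change t45 * c0' * t45⁻¹ = c0'
    rw [← c0_comm, mul_inv_cancel_right]
  have h2 : σ (α ⟨c0', c0_alt⟩) = α ⟨c0', c0_alt⟩ := by
    rw [← MulAut.mul_apply, ← h, MulAut.mul_apply, h1]
  have h3 : (α ⟨c0', c0_alt⟩ : Equiv.Perm (Fin 6)) * t45 = t45 * (α ⟨c0', c0_alt⟩ : Equiv.Perm (Fin 6)) := by
    have h4 := congrArg (fun x : A6 => (x : Equiv.Perm (Fin 6))) h2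
    change (σ (α ⟨c0', c0_alt⟩) : Equiv.Perm (Fin 6)) = _ at h4
    rw [hσ] at h4
    exact (mul_inv_eq_iff_eq_mul.1 h4).symm
  have h5 : (⟨c0', c0_alt⟩ : A6) * ⟨c0', c0_alt⟩ * ⟨c0', c0_alt⟩ = 1 := Subtype.ext (by decide +kernel)
  have h6 : mv (α ⟨c0', c0_alt⟩ : Equiv.Perm (Fin 6)) = 3 := by
    apply comm_three _ _ _ h3
    · have h7 := congrArg (fun x : A6 => (α x : Equiv.Perm (Fin 6))) h5
      change (α (_ * _ * _) : Equiv.Perm (Fin 6)) = (α 1 : Equiv.Perm (Fin 6)) at h7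
      rw [map_mul, map_mul, map_one] at h7
      exact h7
    · intro h7
      have h8 : α ⟨c0', c0_alt⟩ = 1 := Subtype.ext h7
      rw [map_eq_one_iff α α.injective] at h8
      have h9 := congrArg Subtype.val h8
      revert h9
      decide +kernel
  obtain ⟨g, hg⟩ := ns_of_three (c := ⟨c0', c0_alt⟩) c0_three ((three_iff _).1 h6)
  refine ⟨g, ?_, hg⟩
  rw [mem_M0]
  have h7 : t45⁻¹ * g⁻¹ * t45 * g = 1 := by
    apply eq_one_of_conj
    intro x
    have h8 : ((σ (α x) : A6) : Equiv.Perm (Fin 6)) = α (σ x) := by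
      rw [← MulAut.mul_apply, ← h, MulAut.mul_apply]
    rw [hσ, hg, hg, hσ] at h8
    calc t45⁻¹ * g⁻¹ * t45 * g * x * (t45⁻¹ * g⁻¹ * t45 * g)⁻¹
        = t45⁻¹ * g⁻¹ * (t45 * (g * x * g⁻¹) * t45⁻¹) * g * t45 := by group
      _ = x := by rw [h8]; group
  calc g * t45 = g * t45 * (t45⁻¹ * g⁻¹ * t45 * g) := by rw [h7, mul_one]
    _ = t45 * g := by group

section act

universe u

variable {C : Type u} [Group C] [Finite C] (S : Act C (alternatingGroup (Fin 6))) {s : C}

omit [Finite C] in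
theorem exists_hom (hs : ∀ p : A6, ((S.φ s p : A6) : Equiv.Perm (Fin 6)) = t45 * p * t45⁻¹) :
    ∃ f : ↥(centralizer ({s} : Set C)) →* Equiv.Perm (Fin 6), (∀ g, f g ∈ M0) ∧
      ∀ (g : ↥(centralizer ({s} : Set C))) (p : A6), ((S.φ g p : A6) : Equiv.Perm (Fin 6)) = f g * p * (f g)⁻¹ := by
  have h1 : ∀ g : ↥(centralizer ({s} : Set C)), ∃ m ∈ M0,
      ∀ p : A6, ((S.φ g p : A6) : Equiv.Perm (Fin 6)) = m * p * m⁻¹ := by
    intro g
    apply exists_perm hs
    rw [← map_mul, ← map_mul, mem_centralizer_singleton_iff.1 g.2]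
  choose f hf1 hf2 using h1
  have key : ∀ m n : Equiv.Perm (Fin 6), (∀ p : A6, m * p * m⁻¹ = n * (p : Equiv.Perm (Fin 6)) * n⁻¹) → m = n := by
    intro m n h
    have h2 : n⁻¹ * m = 1 := by
      apply eq_one_of_conj
      intro x
      calc n⁻¹ * m * x * (n⁻¹ * m)⁻¹ = n⁻¹ * (m * x * m⁻¹) * n := by group
        _ = x := by rw [h]; group
    exact (inv_mul_eq_one.1 h2).symm
  refine ⟨MonoidHom.mk' f ?_, hf1, hf2⟩
  intro g h
  apply key
  intro p
  rw [← hf2, coe_mul, map_mul, MulAut.mul_apply, hf2, hf2]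
  group

omit [Finite C] in
/-- **`32` does not divide `|C_C(s)|`** -/
theorem not_32 (hs : ∀ p : A6, ((S.φ s p : A6) : Equiv.Perm (Fin 6)) = t45 * p * t45⁻¹) :
    ¬ 32 ∣ Nat.card ↥(centralizer ({s} : Set C)) := by
  intro h
  obtain ⟨f, hf1, hf2⟩ := exists_hom S hs
  have h1 : Odd (Nat.card ↥f.ker) := by
    let F : ↥f.ker →* ↥S.φ.ker :=
      { toFun := fun g => ⟨((g : ↥(centralizer ({s} : Set C))) : C), by
          rw [MonoidHom.mem_ker]
          ext p
          rw [hf2, MonoidHom.mem_ker.1 g.2, MulAut.one_apply]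
          simp⟩
        map_one' := rfl
        map_mul' := fun _ _ => rfl }
    have hF : Function.Injective F := by
      intro a b h
      exact Subtype.ext (Subtype.ext (congrArg (fun t : ↥S.φ.ker => (t : C)) h))
    exact S.odd.of_dvd_nat (card_dvd_of_injective F hF)
  have h2 : Nat.card ↥(centralizer ({s} : Set C)) = Nat.card ↥f.range * Nat.card ↥f.ker := by
    rw [← Nat.card_congr (QuotientGroup.quotientKerEquivRange f).toEquiv]
    exact card_eq_card_quotient_mul_card_subgroup f.ker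
  rw [h2] at h
  have h3 : (32 : ℕ).Coprime (Nat.card ↥f.ker) := by
    have h4 : (2 ^ 5).Coprime (Nat.card ↥f.ker) := (Nat.coprime_two_left.2 h1).pow_left 5
    exact h4
  have h4 := h3.dvd_of_dvd_mul_right h
  have h5 : f.range ≤ M0 := by
    rintro _ ⟨g, rfl⟩
    exact hf1 g
  have h6 := h4.trans (card_dvd_of_le h5)
  rw [card_M0] at h6
  norm_num at h6

/-- no subgroup of order divisible by 16 of the centralizer of the transposition is a 2-group normalised by an element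
of order three -/
theorem no_norm {R : Subgroup (Equiv.Perm (Fin 6))} (hR : R ≤ M0) (h16 : 16 ∣ Nat.card ↥R) (hp : IsPGroup 2 ↥R)
    (hn : ∀ r ∈ R, c0' * r * c0'⁻¹ ∈ R) : False := by
  have h48 := card_M0
  have hfin : Finite ↥R := inferInstance
  have hcR : Nat.card ↥R ∣ 48 := h48 ▸ card_dvd_of_le hR
  have hc16 : Nat.card ↥R = 16 := by
    obtain ⟨n, hn⟩ := (IsPGroup.iff_card (p := 2)).1 hp
    have h1 : Nat.card ↥R ≤ 48 := Nat.le_of_dvd (by norm_num) hcR
    have h2 : n < 6 := by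
      by_contra h
      push Not at h
      have h3 : 2 ^ 6 ≤ 2 ^ n := Nat.pow_le_pow_right (by norm_num) h
      omega
    interval_cases n <;> rw [hn] at h16 hcR ⊢ <;> revert h16 hcR <;> decide
  have hc0 : c0' ∈ normalizer (R : Set (Equiv.Perm (Fin 6))) := by
    rw [mem_normalizer_iff]
    intro r
    refine ⟨hn r, fun h => ?_⟩
    have h1 := hn _ (hn _ h)
    have h2 : c0' * (c0' * (c0' * r * c0'⁻¹) * c0'⁻¹) * c0'⁻¹ = c0' * c0' * c0' * r * (c0' * c0' * c0')⁻¹ := by group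
    rw [h2, c0_cube, one_mul, inv_one, mul_one] at h1
    exact h1
  set N := normalizer (R : Set (Equiv.Perm (Fin 6))) ⊓ M0 with hN
  have h1 : 48 ∣ Nat.card ↥N := by
    have h2 : 16 ∣ Nat.card ↥N := h16.trans (card_dvd_of_le (le_inf le_normalizer hR))
    have h3 : 3 ∣ Nat.card ↥N := by
      have h4 : orderOf c0' = 3 := c0_three.orderOf
      have h5 : zpowers c0' ≤ N := by
        rw [zpowers_le]
        exact ⟨hc0, mem_M0.2 c0_comm⟩
      have h6 := card_dvd_of_le h5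
      rwa [Nat.card_zpowers, h4] at h6
    exact Nat.Coprime.mul_dvd_of_dvd_of_dvd (by norm_num : Nat.Coprime 16 3) h2 h3
  have h2 : N = M0 := by
    apply SetLike.coe_injective
    apply Set.eq_of_subset_of_ncard_le inf_le_right _ (Set.toFinite _)
    rw [← Nat.card_coe_set_eq, ← Nat.card_coe_set_eq]
    change Nat.card ↥M0 ≤ Nat.card ↥N
    rw [h48]
    exact Nat.le_of_dvd Nat.card_pos h1
  have h3 : ∀ m ∈ M0, ∀ r ∈ R, m * r * m⁻¹ ∈ R := by
    intro m hm r hr
    rw [← h2] at hm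
    exact (mem_normalizer_iff.1 hm.1 r).1 hr
  have hnR : (R.subgroupOf M0).Normal := ⟨fun r hr m => h3 m m.2 r hr⟩
  have hidx : (R.subgroupOf M0).index = 3 := by
    have h4 := R.subgroupOf M0 |>.card_mul_index
    rw [Nat.card_congr (subgroupOfEquivOfLe hR).toEquiv, hc16, h48] at h4
    omega
  have hinv : ∀ m ∈ M0, m * m = 1 → m ∈ R := by
    intro m hm hmm
    have h5 : (⟨m, hm⟩ : ↥M0) ^ 3 ∈ R.subgroupOf M0 := by
      rw [← hidx]
      exact pow_index_mem (R.subgroupOf M0) _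
    have h6 : (⟨m, hm⟩ : ↥M0) ^ 3 = ⟨m, hm⟩ := by
      apply Subtype.ext
      change m ^ 3 = m
      rw [pow_succ, pow_two, hmm, one_mul]
    rw [h6] at h5
    exact h5
  have ha : Equiv.swap (0 : Fin 6) 1 ∈ R := hinv _ (mem_M0.2 (by decide +kernel)) (by decide +kernel)
  have hb : Equiv.swap (1 : Fin 6) 2 ∈ R := hinv _ (mem_M0.2 (by decide +kernel)) (by decide +kernel)
  have hc : c0' ∈ R := R.mul_mem ha hb
  have h7 : orderOf c0' = 3 := c0_three.orderOf
  have h8 : 3 ∣ 16 := by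
    rw [← hc16, ← h7, ← Nat.card_zpowers]
    exact card_dvd_of_le (by rw [zpowers_le]; exact hc)
  norm_num at h8

/-- **no normal 2-subgroup of order divisible by 16 in `C_C(s)`** -/
theorem not_16 (hss : s * s = 1) (hs : ∀ p : A6, ((S.φ s p : A6) : Equiv.Perm (Fin 6)) = t45 * p * t45⁻¹)
    (R : Subgroup C) (hR : ∀ r ∈ R, r * s = s * r) (hp : IsPGroup 2 ↥R)
    (hn : ∀ g : C, g * s = s * g → ∀ r ∈ R, g * r * g⁻¹ ∈ R) : ¬ 16 ∣ Nat.card ↥R := by
  intro h16
  obtain ⟨f, hf1, hf2⟩ := exists_hom S hs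
  have key : ∀ m n : Equiv.Perm (Fin 6), (∀ p : A6, m * p * m⁻¹ = n * (p : Equiv.Perm (Fin 6)) * n⁻¹) → m = n := by
    intro m n h
    have h2 : n⁻¹ * m = 1 := by
      apply eq_one_of_conj
      intro x
      calc n⁻¹ * m * x * (n⁻¹ * m)⁻¹ = n⁻¹ * (m * x * m⁻¹) * n := by group
        _ = x := by rw [h]; group
    exact (inv_mul_eq_one.1 h2).symm
  let ι : ↥R →* ↥(centralizer ({s} : Set C)) :=
    { toFun := fun r => ⟨r, mem_centralizer_singleton_iff.2 (hR r r.2)⟩
      map_one' := rfl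
      map_mul' := fun _ _ => rfl }
  have hinj : Function.Injective (f.comp ι) := by
    rw [injective_iff_map_eq_one]
    intro r hr
    obtain ⟨k, hk⟩ := hp r
    apply Subtype.ext
    apply S.eq_one (k := k)
    · ext p
      have h1 := hf2 (ι r) p
      change f (ι r) = 1 at hr
      rw [hr] at h1
      rw [MulAut.one_apply]
      change ((S.φ (r : C) p : A6) : Equiv.Perm (Fin 6)) = _ at h1
      rw [h1]
      simp
    · exact congrArg Subtype.val hk
  -- a lift of the three-cycle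
  have hz : IsPGroup 2 ↥(zpowers s) := by
    intro x
    refine ⟨1, ?_⟩
    obtain ⟨x, hx⟩ := x
    obtain ⟨n, rfl⟩ := hx
    apply Subtype.ext
    change (s ^ n) ^ 2 ^ 1 = 1
    rw [← zpow_natCast, ← zpow_mul, mul_comm, zpow_mul, zpow_natCast, pow_one, pow_two, hss, one_zpow]
  have hfix : S.φ s ⟨c0', c0_alt⟩ = ⟨c0', c0_alt⟩ := by
    apply Subtype.ext
    rw [hs]
    change t45 * c0' * t45⁻¹ = c0'
    rw [← c0_comm, mul_inv_cancel_right]
  obtain ⟨a, ha, hac⟩ := S.exists_fix (zpowers s) hz (p := ⟨c0', c0_alt⟩) (by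
    rintro _ ⟨n, rfl⟩
    have h1 : ∀ n : ℤ, (S.φ s ^ n) ⟨c0', c0_alt⟩ = ⟨c0', c0_alt⟩ := by
      intro n
      have h2 : S.φ s ∈ MulAction.stabilizer (MulAut A6) (⟨c0', c0_alt⟩ : A6) := hfix
      exact (MulAction.stabilizer (MulAut A6) (⟨c0', c0_alt⟩ : A6)).zpow_mem h2 n
    rw [map_zpow]
    exact h1 n)
  have has : (a : C) * s = s * a := (hac s (mem_zpowers s)).symm
  have hfa : f ⟨a, mem_centralizer_singleton_iff.2 has⟩ = c0' := by
    apply key
    intro p
    rw [← hf2]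
    change ((S.φ (a : C) p : A6) : Equiv.Perm (Fin 6)) = _
    rw [S.phi_coe, ha, MulAut.conj_apply]
    rfl
  apply no_norm (R := (f.comp ι).range)
  · rintro _ ⟨r, rfl⟩
    exact hf1 _
  · rwa [← Nat.card_congr (MonoidHom.ofInjective hinj).toEquiv]
  · exact hp.of_equiv (MonoidHom.ofInjective hinj)
  · rintro _ ⟨r, rfl⟩
    refine ⟨⟨a * r * (a : C)⁻¹, hn a has r r.2⟩, ?_⟩
    rw [← hfa, MonoidHom.comp_apply, MonoidHom.comp_apply, ← map_inv, ← map_mul, ← map_mul]
    rfl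

end act

end Cfsg.Agent.H815.SixTrans
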