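import Cfsg.Agent.H287.HNd
import Cfsg.Agent.KFacts.HN.Large
import Cfsg.Agent.H815.HnCent
import Cfsg.Agent.H815.SixTrans

/-!
# An involutory automorphism `x` of `HN`: the involutions of `C(x)` (helper815)

`outer_hn` : no group with odd kernel acting on `A₆` with a transposition is the centralizer in `HN` of an automorphism
of order at most two.
-/

set_option autoImplicit false

namespace Cfsg.Agent.H815.OuterHN

open Subgroup Cfsg

universe u v

/-- large 2-subgroups of `C(x)` commuting with `s` -/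
def Dich {X : Type u} [Group X] (x : MulAut X) (s : X) : Prop :=
  32 ∣ Nat.card ↥(fixedSubgroup x ⊓ centralizer ({s} : Set X)) ∨
    ∃ R : Subgroup X, R ≤ fixedSubgroup x ∧ (∀ r ∈ R, r * s = s * r) ∧ IsPGroup 2 ↥R ∧ 16 ∣ Nat.card ↥R ∧
      ∀ g : X, x g = g → g * s = s * g → ∀ r ∈ R, g * r * g⁻¹ ∈ R

theorem congr_apply {X : Type u} [Group X] {Y : Type v} [Group Y] (e : X ≃* Y) (x : MulAut X) (y : Y) :
    MulAut.congr e x y = e (x (e.symm y)) := rfl

theorem Dich.of_congr {X : Type u} [Group X] {Y : Type v} [Group Y] (e : X ≃* Y) {x : MulAut X} {s : X}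
    (h : Dich (MulAut.congr e x) (e s)) : Dich x s := by
  have hfix : ∀ a : X, MulAut.congr e x (e a) = e a ↔ x a = a := by
    intro a
    rw [congr_apply, e.symm_apply_apply]
    exact e.injective.eq_iff
  have hcomm : ∀ a : X, e a * e s = e s * e a ↔ a * s = s * a := by
    intro a
    rw [← map_mul, ← map_mul]
    exact e.injective.eq_iff
  rcases h with h | ⟨R, h1, h2, h3, h4, h5⟩
  · left
    have h6 : Nat.card ↥(fixedSubgroup x ⊓ centralizer ({s} : Set X)) =
        Nat.card ↥(fixedSubgroup (MulAut.congr e x) ⊓ centralizer ({e s} : Set Y)) := by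
      apply Nat.card_congr
      refine e.toEquiv.subtypeEquiv fun a => ?_
      change (x a = a ∧ a ∈ centralizer ({s} : Set X)) ↔
        (MulAut.congr e x (e a) = e a ∧ e a ∈ centralizer ({e s} : Set Y))
      rw [hfix, mem_centralizer_singleton_iff, mem_centralizer_singleton_iff, hcomm]
    rw [h6]
    exact h
  · right
    refine ⟨R.comap e.toMonoidHom, ?_, ?_, ?_, ?_, ?_⟩
    · intro a ha
      exact (hfix a).1 (h1 ha)
    · intro a ha
      exact (hcomm a).1 (h2 _ ha)
    · exact h3.comap_of_injective e.toMonoidHom e.injective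
    · have h6 : Nat.card ↥(R.comap e.toMonoidHom) = Nat.card ↥R :=
        Nat.card_congr (e.toEquiv.subtypeEquiv fun a => Iff.rfl)
      rw [h6]
      exact h4
    · intro g hg hgs r hr
      have h6 := h5 (e g) ((hfix g).2 hg) ((hcomm g).2 hgs) (e r) hr
      rw [← map_inv, ← map_mul, ← map_mul] at h6
      exact h6

section count

variable {X : Type u} [Group X]

/-- the values of `t r * r⁻¹` -/
theorem card_le (t : MulAut X) (H : Subgroup X) [Finite ↥H] (T : Set X) (hTf : T.Finite)
    (hT : ∀ r ∈ H, t r * r⁻¹ ∈ T) : Nat.card ↥H ≤ T.ncard * Nat.card ↥(H ⊓ fixedSubgroup t) := by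
  have : Finite T := hTf
  set F := (fixedSubgroup t).subgroupOf H with hF
  have h1 : F.index ≤ T.ncard := by
    rw [← Nat.card_coe_set_eq]
    change Nat.card (↥H ⧸ F) ≤ _
    apply Nat.card_le_card_of_injective (fun q : ↥H ⧸ F => (⟨t (q.out : ↥H) * ((q.out : ↥H) : X)⁻¹, hT _ (q.out : ↥H).2⟩ : T))
    intro p q hpq
    have h2 : t (p.out : ↥H) * ((p.out : ↥H) : X)⁻¹ = t (q.out : ↥H) * ((q.out : ↥H) : X)⁻¹ := congrArg Subtype.val hpq
    rw [← QuotientGroup.out_eq' p, ← QuotientGroup.out_eq' q, QuotientGroup.eq]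
    refine mem_subgroupOf.2 ?_
    change t (((p.out : ↥H) : X)⁻¹ * (q.out : ↥H)) = ((p.out : ↥H) : X)⁻¹ * (q.out : ↥H)
    rw [map_mul, map_inv]
    calc (t (p.out : ↥H))⁻¹ * t (q.out : ↥H)
        = (t (p.out : ↥H))⁻¹ * (t (q.out : ↥H) * ((q.out : ↥H) : X)⁻¹) * (q.out : ↥H) := by group
      _ = _ := by rw [← h2]; group
  have h2 : Nat.card ↥F = Nat.card ↥(H ⊓ fixedSubgroup t) := by
    rw [hF, ← inf_subgroupOf_left, Nat.card_congr (subgroupOfEquivOfLe inf_le_left).toEquiv]
  rw [← F.card_mul_index, h2, mul_comm]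
  exact Nat.mul_le_mul_right _ h1

end count

open Cfsg.Agent.HN Cfsg.Agent.HN.Pres Cfsg.Agent.HN.P1408 Cfsg.Agent.HN.H0Basic
open Cfsg.Agent.HN.HS100 (K K_normal)
open Cfsg.Agent.HN.XWords (W0)
open Cfsg.Agent.KFacts.HN Cfsg.Agent.Co2Type.Quad

theorem finite_HN : Finite Cfsg.Spor.HN := Cfsg.Agent.KFacts.HN.finite_HN

/-- the first class of involutions -/
theorem dich_τ {t : MulAut Cfsg.Spor.HN} (htt : t * t = 1) (ht : t (NormalH.ψ τ) = NormalH.ψ τ) :
    Dich t (NormalH.ψ τ) := by
  have hfin : Finite H0 := H0Basic.finite_H0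
  have hfin' : Finite Cfsg.Spor.HN := finite_HN
  obtain ⟨D⟩ := H287.OutHN.exists_D
  obtain ⟨h, hh⟩ := H287.OutHN.exists_h D ht
  have hK : K.Normal := K_normal
  have h2 : h ^ 2 = 1 ∨ h ^ 2 = τ := by
    rw [← D.au_ker]
    ext l : 1
    obtain ⟨k, rfl⟩ := D.surj l
    rw [D.au_π, MulAut.one_apply]
    congr 1
    apply Subtype.ext
    change h ^ 2 * (k : H0) * (h ^ 2)⁻¹ = k
    apply H287.OutHN.ψ_inj
    have h3 := DFunLike.congr_fun htt (NormalH.ψ (k : H0))
    change t (t (NormalH.ψ (k : H0))) = NormalH.ψ (k : H0) at h3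
    rw [hh k k.2, hh _ (hK.conj_mem k k.2 h)] at h3
    rw [← h3]
    congr 1
    rw [pow_two]; group
  left
  refine (HnCent.thirty_two h2).trans ?_
  let F : ↥(K ⊓ centralizer ({h} : Set H0)) →* ↥(fixedSubgroup t ⊓ centralizer ({NormalH.ψ τ} : Set Cfsg.Spor.HN)) :=
    { toFun := fun k => ⟨NormalH.ψ k, by
        change t (NormalH.ψ k) = NormalH.ψ k
        rw [hh k k.2.1]
        congr 1
        have h3 := mem_centralizer_singleton_iff.1 k.2.2
        rw [← h3, mul_inv_cancel_right], mem_centralizer_singleton_iff.2 (by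
          rw [← map_mul, ← map_mul, τ_comm])⟩
      map_one' := Subtype.ext (map_one _)
      map_mul' := fun a b => Subtype.ext (map_mul _ _ _) }
  have hF : Function.Injective F := by
    intro a b hab
    apply Subtype.ext
    exact H287.OutHN.ψ_inj (congrArg Subtype.val hab)
  exact card_dvd_of_injective F hF

/-- the second class of involutions -/
theorem dich_W0 {t : MulAut Cfsg.Spor.HN} (htt : t * t = 1) (ht : t W0 = W0) : Dich t W0 := by
  have hfin : Finite Cfsg.Spor.HN := finite_HN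
  have hL := Cfsg.Agent.KFacts.HN.large
  have hirr : Cfsg.Agent.KFacts.AutLarge.Irr RS W0 := by
    intro N hN hn
    exact Cfsg.Agent.KFacts.HN.irr hN fun u hu x hx => hn u (mem_PP.1 (MM_le_PP hu)) x hx
  have hmap : ∀ x ∈ RS, t x ∈ RS := fun x hx =>
    Cfsg.Agent.KFacts.AutLarge.map_mem hL hirr exists_noncentral ht hx
  have ht2 : ∀ y, t (t y) = y := fun y => DFunLike.congr_fun htt y
  -- the elements fixed modulo `W0`
  let F1 : Subgroup Cfsg.Spor.HN :=
    { carrier := {r | r ∈ RS ∧ (t r = r ∨ t r = r * W0)}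
      one_mem' := ⟨RS.one_mem, Or.inl (map_one t)⟩
      mul_mem' := fun {a b} ha hb => by
        refine ⟨RS.mul_mem ha.1 hb.1, ?_⟩
        have hbz := hL.comm_z b hb.1
        rcases ha.2 with h1 | h1 <;> rcases hb.2 with h2 | h2
        · left; rw [map_mul, h1, h2]
        · right; rw [map_mul, h1, h2, mul_assoc]
        · right
          rw [map_mul, h1, h2, mul_assoc, ← hbz, mul_assoc]
        · left
          rw [map_mul, h1, h2]
          calc a * W0 * (b * W0) = a * (W0 * b) * W0 := by group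
            _ = a * (b * W0) * W0 := by rw [hbz]
            _ = a * b * (W0 * W0) := by group
            _ = a * b := by rw [hL.z_sq, mul_one]
      inv_mem' := fun {a} ha => by
        refine ⟨RS.inv_mem ha.1, ?_⟩
        have haz := hL.comm_z _ (RS.inv_mem ha.1)
        rcases ha.2 with h1 | h1
        · left; rw [map_inv, h1]
        · right; rw [map_inv, h1, mul_inv_rev, hL.z_inv, haz] }
  have hF1 : ∀ {r : Cfsg.Spor.HN}, r ∈ F1 ↔ r ∈ RS ∧ (t r = r ∨ t r = r * W0) := Iff.rfl
  have c1 : Nat.card ↥RS ≤ Nat.card ↥F1 * Nat.card ↥(RS ⊓ fixedSubgroup t) := by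
    have h1 := card_le t RS (F1 : Set Cfsg.Spor.HN) (Set.toFinite _) (by
      intro r hr
      have hy : t r * r⁻¹ ∈ RS := RS.mul_mem (hmap r hr) (RS.inv_mem hr)
      refine ⟨hy, ?_⟩
      have h2 : t (t r * r⁻¹) = (t r * r⁻¹)⁻¹ := by
        rw [map_mul, map_inv, ht2, mul_inv_rev, inv_inv]
      rw [h2]
      rcases hL.sq _ hy with h3 | h3
      · left; exact inv_eq_of_mul_eq_one_left h3
      · right
        apply inv_eq_of_mul_eq_one_right
        rw [← mul_assoc, h3, hL.z_sq])
    rwa [← Nat.card_coe_set_eq] at h1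
  have c2 : Nat.card ↥F1 ≤ 2 * Nat.card ↥(RS ⊓ fixedSubgroup t) := by
    have h1 := card_le t F1 ({1, W0} : Set Cfsg.Spor.HN) (Set.toFinite _) (by
      intro r hr
      rcases hr.2 with h2 | h2
      · left; rw [h2, mul_inv_cancel]
      · right
        rw [Set.mem_singleton_iff, h2, hL.comm_z r hr.1, mul_inv_cancel_right])
    have h2 : F1 ⊓ fixedSubgroup t = RS ⊓ fixedSubgroup t := by
      ext r
      constructor
      · intro hr
        exact ⟨hr.1.1, hr.2⟩
      · intro hr
        exact ⟨⟨hr.1, Or.inl hr.2⟩, hr.2⟩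
    rw [h2] at h1
    refine h1.trans (Nat.mul_le_mul_right _ ?_)
    exact Set.ncard_insert_le _ _ |>.trans (by rw [Set.ncard_singleton])
  have hp : IsPGroup 2 ↥(RS ⊓ fixedSubgroup t) := RS_isPGroup.to_le inf_le_left
  have h16 : 16 ∣ Nat.card ↥(RS ⊓ fixedSubgroup t) := by
    obtain ⟨n, hn⟩ := (IsPGroup.iff_card (p := 2)).1 hp
    rw [card_RS] at c1
    rw [hn] at c1 c2 ⊢
    have h1 : 512 ≤ 2 * 2 ^ n * 2 ^ n := c1.trans (Nat.mul_le_mul_right _ c2)
    have h2 : 4 ≤ n := by
      by_contra h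
      push Not at h
      interval_cases n <;> norm_num at h1
    exact pow_dvd_pow 2 h2
  right
  refine ⟨RS ⊓ fixedSubgroup t, inf_le_right, fun r hr => hL.comm_z r hr.1, hp, h16, ?_⟩
  intro g hg hgz r hr
  refine ⟨hL.conj_mem g hgz r hr.1, ?_⟩
  change t (g * r * g⁻¹) = g * r * g⁻¹
  rw [map_mul, map_mul, map_inv, hg, show t r = r from hr.2]

/-- the involutions of `C(t)` -/
theorem dich_HN {t : MulAut Cfsg.Spor.HN} (htt : t * t = 1) {s : Cfsg.Spor.HN} (hs : orderOf s = 2) (hts : t s = s) :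
    Dich t s := by
  have key : ∀ (z : Cfsg.Spor.HN), IsConj s z →
      (∀ t' : MulAut Cfsg.Spor.HN, t' * t' = 1 → t' z = z → Dich t' z) → Dich t s := by
    intro z hz H
    obtain ⟨g, hg⟩ := isConj_iff.1 hz
    apply Dich.of_congr (MulAut.conj g)
    have h1 : (MulAut.conj g : Cfsg.Spor.HN ≃* Cfsg.Spor.HN) s = z := hg
    rw [h1]
    apply H
    · rw [← map_mul, htt, map_one]
    · rw [congr_apply]
      nth_rewrite 1 [← h1]
      rw [MulEquiv.symm_apply_apply, hts, h1]
  rcases Cfsg.Agent.KFacts.HN.Classes.inv_class hs with h | h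
  · exact key _ h fun t' h1 h2 => dich_τ h1 h2
  · exact key _ h fun t' h1 h2 => dich_W0 h1 h2

theorem dich {X : Type u} [Group X] (h : Spor.IsoHN X) {x : MulAut X} (hxx : x * x = 1) {s : X} (hs : orderOf s = 2)
    (hxs : x s = s) : Dich x s := by
  obtain ⟨e⟩ := h
  apply Dich.of_congr e
  apply dich_HN
  · rw [← map_mul, hxx, map_one]
  · rw [MulEquiv.orderOf_eq, hs]
  · rw [congr_apply, e.symm_apply_apply, hxs]

open Cfsg.Agent.H300.SporBase in
/-- `s` acts as a transposition on `A₆` : excluded by the two large 2-subgroups -/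
theorem no_act {X : Type u} [Group X] [Finite X] {x : MulAut X} (S : Act ↥(fixedSubgroup x) (alternatingGroup (Fin 6)))
    {s : ↥(fixedSubgroup x)} (hss : s * s = 1)
    (hs : ∀ p : alternatingGroup (Fin 6), ((S.φ s p : alternatingGroup (Fin 6)) : Equiv.Perm (Fin 6)) =
      Equiv.swap 4 5 * (p : Equiv.Perm (Fin 6)) * (Equiv.swap 4 5)⁻¹) (hD : Dich x (s : X)) : False := by
  rcases hD with h | ⟨R, h1, h2, h3, h4, h5⟩
  · apply SixTrans.not_32 S hs
    refine h.trans ?_
    let F : ↥(fixedSubgroup x ⊓ centralizer ({(s : X)} : Set X)) →* ↥(centralizer ({s} : Set ↥(fixedSubgroup x))) :=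
      { toFun := fun g => ⟨⟨g, g.2.1⟩, mem_centralizer_singleton_iff.2
          (Subtype.ext (mem_centralizer_singleton_iff.1 g.2.2))⟩
        map_one' := rfl
        map_mul' := fun _ _ => rfl }
    have hF : Function.Injective F := by
      intro a b hab
      apply Subtype.ext
      exact congrArg (fun z : ↥(centralizer ({s} : Set ↥(fixedSubgroup x))) => ((z : ↥(fixedSubgroup x)) : X)) hab
    exact card_dvd_of_injective F hF
  · apply SixTrans.not_16 S hss hs (R.subgroupOf (fixedSubgroup x))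
    · intro r hr
      exact Subtype.ext (h2 r hr)
    · exact h3.comap_of_injective _ (fixedSubgroup x).subtype_injective
    · intro g hg r hr
      exact h5 g g.2 (congrArg Subtype.val hg) r hr
    · rwa [Nat.card_congr (subgroupOfEquivOfLe h1).toEquiv]

open Cfsg.Agent.H300.SporBase in
/-- **The row `HN`.** -/
theorem outer_hn {X : Type u} [Group X] [Finite X] (h : Spor.IsoHN X) {x : MulAut X} (hxx : x * x = 1)
    (S : Act ↥(fixedSubgroup x) (alternatingGroup (Fin 6))) (s : ↥(fixedSubgroup x)) (hss : s * s = 1)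
    (hs : ∀ p : alternatingGroup (Fin 6), ((S.φ s p : alternatingGroup (Fin 6)) : Equiv.Perm (Fin 6)) =
      Equiv.swap 4 5 * (p : Equiv.Perm (Fin 6)) * (Equiv.swap 4 5)⁻¹) : False := by
  have hs1 : s ≠ 1 := by
    rintro rfl
    have h1 := hs ⟨Equiv.swap 3 4 * Equiv.swap 0 1, Equiv.Perm.mem_alternatingGroup.2 (by decide +kernel)⟩
    rw [map_one, MulAut.one_apply] at h1
    revert h1
    decide +kernel
  have hos : orderOf (s : X) = 2 := by
    rw [Subgroup.orderOf_coe]
    exact orderOf_eq_prime (by rw [pow_two, hss]) hs1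
  exact no_act S hss hs (dich h hxx hos s.2)

end Cfsg.Agent.H815.OuterHN
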