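import Mathlib
import Cfsg.Agent.H300.SporBase
import Cfsg.Agent.StdAlt.Six.AutLemmas
import Cfsg.Agent.H824.ProdLem
import Cfsg.Agent.GH.C2SevenTop
import Cfsg.Agent.H815.SixTrans

/-!
# Groups acting on `A₆` with odd kernel and an involution commuting with an element of order 5 (helper815)

* `solvable_cent` : the centralizer in `Aut A₆` of an involution fixing an element of order 5 is solvable;
* `no_perfect` : in a group `C` acting on `A₆` with odd kernel, the centralizer of an involution which commutes with an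
  element inducing an element of order 5 has no perfect section of even order.
-/

set_option autoImplicit false

namespace Cfsg.Agent.H815.SixFive

open Subgroup Cfsg Cfsg.Agent
open Cfsg.Agent.StdAlt.Six
open Cfsg.Agent.H300.SporBase

theorem cases_of_order {x : A6} (hx : orderOf x = 3) : mv (x : Equiv.Perm (Fin 6)) = 3 ∨
    (mv (x : Equiv.Perm (Fin 6)) = 6 ∧ ∃ w : A6, (w : Equiv.Perm (Fin 6)) * t0 = x * w) := by
  have h3 : x ^ 3 = 1 := by rw [← hx]; exact pow_orderOf_eq_one x
  have h1 : x ≠ 1 := by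
    rintro rfl
    rw [orderOf_one] at hx
    omega
  have h2 : (x : Equiv.Perm (Fin 6)) * x * x = 1 := by
    have := congrArg Subtype.val h3
    rw [pow_succ, pow_two] at this
    exact this
  rcases cube_cases x h2 (fun h => h1 (Subtype.ext h)) with h | ⟨h, w, hw1, hw2⟩
  · exact Or.inl h
  · exact Or.inr ⟨h, ⟨w, Equiv.Perm.mem_alternatingGroup.mpr hw1⟩, hw2⟩

/-- an automorphism of `A_6` fixing an element of order three is induced by a permutation -/
theorem ns_of_fix {α : MulAut A6} {x : A6} (hx : orderOf x = 3) (h : α x = x) : NS α := by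
  rcases cases_of_order hx with h3 | ⟨h6, w', hw'⟩
  · exact ns_of_three ((three_iff _).1 h3) (by rw [h]; exact (three_iff _).1 h3)
  obtain ⟨c, hc⟩ : ∃ c : A6, (c : Equiv.Perm (Fin 6)).IsThreeCycle :=
    ⟨⟨c0, c0_mem⟩, (three_iff c0).1 (by decide +kernel)⟩
  have hco : orderOf c = 3 := by
    rw [← Subgroup.orderOf_coe]
    exact hc.orderOf
  rcases cases_of_order (x := α c) (by rw [MulEquiv.orderOf_eq]; exact hco) with h7 | ⟨h7, w, hw⟩
  · exact ns_of_three hc ((three_iff _).1 h7)
  · exfalso
    have h1 : ((w * w'⁻¹ * x * (w * w'⁻¹)⁻¹ : A6) : Equiv.Perm (Fin 6)) = α c := by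
      push_cast
      have e1 : (x : Equiv.Perm (Fin 6)) = w' * t0 * (w' : Equiv.Perm (Fin 6))⁻¹ := by rw [hw']; group
      have e2 : (α c : Equiv.Perm (Fin 6)) = w * t0 * (w : Equiv.Perm (Fin 6))⁻¹ := by rw [hw]; group
      rw [e2]
      nth_rewrite 1 [e1]
      group
    have h2 : α c = w * w'⁻¹ * x * (w * w'⁻¹)⁻¹ := Subtype.ext h1.symm
    obtain ⟨g, hg⟩ := α.surjective (w * w'⁻¹)
    have h3 : c = g * x * g⁻¹ := by
      apply α.injective
      rw [map_mul, map_mul, map_inv, h, hg]
      exact h2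
    have h4 : mv (c : Equiv.Perm (Fin 6)) = mv (x : Equiv.Perm (Fin 6)) := by
      rw [h3]
      exact mv_conj _ _
    have h5 : mv (c : Equiv.Perm (Fin 6)) = 3 := (three_iff _).2 hc
    omega

/-- an involution of `S₆` does not commute with an element of order 5 -/
theorem comm_five {p r : Equiv.Perm (Fin 6)} (hp : orderOf p = 5) (hr : r * r = 1) (h : r * p = p * r) : r = 1 := by
  have hc : p.IsCycle := Equiv.Perm.isCycle_of_prime_order' (by rw [hp]; norm_num) (by rw [hp]; decide)
  have hs : p.support.card = 5 := by rw [← hc.orderOf, hp]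
  have hct : p.cycleType = {5} := by rw [hc.cycleType, hs]
  have h5 : Nat.card ↥(centralizer ({p} : Set (Equiv.Perm (Fin 6)))) = 5 := by
    rw [Equiv.Perm.nat_card_centralizer, hct]
    simp
  have h1 : (⟨r, mem_centralizer_singleton_iff.2 h⟩ : ↥(centralizer ({p} : Set (Equiv.Perm (Fin 6))))) ^ 5 = 1 := by
    rw [← h5]
    exact pow_card_eq_one'
  have h2 : r ^ 5 = 1 := congrArg Subtype.val h1
  have h3 : r ^ 5 = r := by
    have h4 : r ^ 5 = r * r * (r * r) * r := by simp only [pow_succ, pow_zero, one_mul, mul_assoc]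
    rw [h4, hr, one_mul, one_mul]
  rw [← h3, h2]

/-- **The centralizer of an involution fixing an element of order 5** is solvable. -/
theorem solvable_cent {α : MulAut A6} (hα : α * α = 1) (hα1 : α ≠ 1) {p : A6} (hp : orderOf p = 5) (h : α p = p) :
    Group.IsSolvable ↥(centralizer ({α} : Set (MulAut A6))) := by
  have hcard : Nat.card (MulAut A6) = 1440 := H824.ProdLem.card_aut_a6
  have hfin : Finite (MulAut A6) := Nat.finite_of_card_ne_zero (by rw [hcard]; norm_num)
  -- `α` is not induced by a permutation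
  have hns : ¬ NS α := by
    rintro ⟨r, hr⟩
    apply hα1
    have h1 : r * r = 1 := by
      apply SixTrans.eq_one_of_conj
      intro x
      have h2 := congrArg (fun β : MulAut A6 => ((β x : A6) : Equiv.Perm (Fin 6))) hα
      change ((α (α x) : A6) : Equiv.Perm (Fin 6)) = x at h2
      rw [hr, hr] at h2
      calc r * r * x * (r * r)⁻¹ = r * (r * x * r⁻¹) * r⁻¹ := by group
        _ = x := h2
    have h2 : r * (p : Equiv.Perm (Fin 6)) = p * r := by
      have h3 := hr p
      rw [h] at h3
      exact (mul_inv_eq_iff_eq_mul.1 h3.symm)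
    have h3 : r = 1 := comm_five (by rw [Subgroup.orderOf_coe, hp]) h1 h2
    ext x
    rw [hr, h3, MulAut.one_apply]
    simp
  have h3 : ¬ 3 ∣ Nat.card ↥(centralizer ({α} : Set (MulAut A6))) := by
    intro h3
    have hf : Fact (Nat.Prime 3) := ⟨Nat.prime_three⟩
    obtain ⟨b, hb⟩ := exists_prime_orderOf_dvd_card' 3 h3
    have hb3 : (b : MulAut A6) ^ 3 = 1 := by
      rw [← hb, ← Subgroup.orderOf_coe, pow_orderOf_eq_one]
    have hb1 : (b : MulAut A6) ≠ 1 := by
      intro h1
      have h2 : b = 1 := Subtype.ext h1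
      rw [h2, orderOf_one] at hb
      omega
    have hcomm := mem_centralizer_singleton_iff.1 b.2
    have hnb : NS (b : MulAut A6) := by
      by_contra hnb
      have h1 := NS.mul_of_not hnb hnb
      have h2 : (b : MulAut A6) = b * b * (b * b) := by
        have h4 : (b : MulAut A6) * b * (b * b) = b ^ 3 * b := by
          rw [pow_succ, pow_two]
          group
        rw [h4, hb3, one_mul]
      exact hnb (by rw [h2]; exact NS.mul h1 h1)
    obtain ⟨g, hg⟩ := hnb
    have hg3 : g ^ 3 = 1 := by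
      apply SixTrans.eq_one_of_conj
      intro x
      have h2 := congrArg (fun β : MulAut A6 => ((β x : A6) : Equiv.Perm (Fin 6))) hb3
      have h4 : ((b : MulAut A6) ^ 3) x = (b : MulAut A6) ((b : MulAut A6) ((b : MulAut A6) x)) := by
        rw [pow_succ, pow_two]
        rfl
      change (((b : MulAut A6) ^ 3) x : Equiv.Perm (Fin 6)) = x at h2
      rw [h4, hg, hg, hg] at h2
      calc g ^ 3 * x * (g ^ 3)⁻¹ = g * (g * (g * x * g⁻¹) * g⁻¹) * g⁻¹ := by rw [pow_succ, pow_two]; group
        _ = x := h2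
    have hg1 : g ≠ 1 := by
      rintro rfl
      apply hb1
      ext x
      rw [hg, MulAut.one_apply]
      simp
    have hgs : g ∈ alternatingGroup (Fin 6) := by
      rw [Equiv.Perm.mem_alternatingGroup]
      have h1 : Equiv.Perm.sign g ^ 3 = 1 := by rw [← map_pow, hg3, map_one]
      rcases Int.units_eq_one_or (Equiv.Perm.sign g) with h2 | h2
      · exact h2
      · rw [h2] at h1
        exact absurd h1 (by decide)
    have hbg : (b : MulAut A6) = MulAut.conj (⟨g, hgs⟩ : A6) := by
      ext x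
      rw [hg]
      rfl
    have hfix : α ⟨g, hgs⟩ = ⟨g, hgs⟩ := by
      have h1 : MulAut.conj (α ⟨g, hgs⟩) = MulAut.conj (⟨g, hgs⟩ : A6) := by
        have h2 : MulAut.conj (α ⟨g, hgs⟩) * α = α * MulAut.conj (⟨g, hgs⟩ : A6) := by
          ext x
          simp [MulAut.conj_apply]
        rw [← hbg, ← hcomm] at h2
        rw [← hbg]
        exact mul_right_cancel h2
      have h2 : (α ⟨g, hgs⟩)⁻¹ * ⟨g, hgs⟩ = (1 : A6) := by
        apply Subtype.ext
        apply SixTrans.eq_one_of_conj
        intro x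
        have h4 := congrArg (fun β : MulAut A6 => ((α ⟨g, hgs⟩)⁻¹ * (β x) * (α ⟨g, hgs⟩) : A6)) h1
        simp only [MulAut.conj_apply] at h4
        have h5 : (α ⟨g, hgs⟩)⁻¹ * ⟨g, hgs⟩ * x * ((α ⟨g, hgs⟩)⁻¹ * ⟨g, hgs⟩)⁻¹ = x := by
          calc (α ⟨g, hgs⟩)⁻¹ * ⟨g, hgs⟩ * x * ((α ⟨g, hgs⟩)⁻¹ * ⟨g, hgs⟩)⁻¹
              = (α ⟨g, hgs⟩)⁻¹ * (⟨g, hgs⟩ * x * ⟨g, hgs⟩⁻¹) * α ⟨g, hgs⟩ := by group
            _ = x := by rw [← h4]; group
        exact congrArg Subtype.val h5
      exact (inv_mul_eq_one.1 h2)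
    apply hns
    refine ns_of_fix (x := ⟨g, hgs⟩) ?_ hfix
    rw [← Subgroup.orderOf_coe]
    exact orderOf_eq_prime hg3 hg1
  apply GH.C2SevenTop.solvable_of_dvd Nat.prime_two Nat.prime_five (a := 5) (b := 1)
  have h1 : Nat.card ↥(centralizer ({α} : Set (MulAut A6))) ∣ 160 * 9 := by
    rw [show 160 * 9 = 1440 by norm_num, ← hcard]
    exact card_subgroup_dvd_card _
  have h2 : (Nat.card ↥(centralizer ({α} : Set (MulAut A6)))).Coprime 9 := by
    have h4 : (Nat.card ↥(centralizer ({α} : Set (MulAut A6)))).Coprime (3 ^ 2) :=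
      ((Nat.Prime.coprime_iff_not_dvd Nat.prime_three).2 h3).symm.pow_right 2
    exact h4
  exact h2.dvd_of_dvd_mul_right h1

section act

universe u v

variable {C : Type u} [Group C] [Finite C] (S : Act C (alternatingGroup (Fin 6)))

/-- **no perfect section of even order** -/
theorem no_perfect {u w : C} (huu : u * u = 1) (hu1 : u ≠ 1) (huw : u * w = w * u) {p : A6} (hp : orderOf p = 5)
    (hw : S.φ w = MulAut.conj p) (P : Subgroup C) (hP : ∀ g ∈ P, g * u = u * g) {D : Type v} [Group D]
    (ρ : ↥P →* D) (hρ : Function.Surjective ρ) (hD : _root_.commutator D = ⊤) (he : Even (Nat.card D)) : False := by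
  -- the automorphism induced by `u`
  have hφu : S.φ u * S.φ u = 1 := by rw [← map_mul, huu, map_one]
  have hφ1 : S.φ u ≠ 1 := fun h => hu1 (S.eq_one h (k := 1) (by rw [pow_one, pow_two, huu]))
  have hfix : S.φ u p = p := by
    have h1 : S.φ u * MulAut.conj p = MulAut.conj p * S.φ u := by
      rw [← hw, ← map_mul, ← map_mul, huw]
    have h2 : MulAut.conj (S.φ u p) = MulAut.conj p := by
      have h3 : MulAut.conj (S.φ u p) * S.φ u = S.φ u * MulAut.conj p := by
        ext x
        simp [MulAut.conj_apply]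
      rw [h1] at h3
      exact mul_right_cancel h3
    have h4 : (S.φ u p)⁻¹ * p = (1 : A6) := by
      apply Subtype.ext
      apply SixTrans.eq_one_of_conj
      intro x
      have h4 := congrArg (fun β : MulAut A6 => ((S.φ u p)⁻¹ * (β x) * (S.φ u p) : A6)) h2
      simp only [MulAut.conj_apply] at h4
      have h5 : (S.φ u p)⁻¹ * p * x * ((S.φ u p)⁻¹ * p)⁻¹ = x := by
        calc (S.φ u p)⁻¹ * p * x * ((S.φ u p)⁻¹ * p)⁻¹ = (S.φ u p)⁻¹ * (p * x * p⁻¹) * S.φ u p := by group
          _ = x := by rw [← h4]; group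
      exact congrArg Subtype.val h5
    exact inv_mul_eq_one.1 h4
  have hsol := solvable_cent hφu hφ1 hp hfix
  -- the map of `P` to the centralizer
  let f : ↥P →* ↥(centralizer ({S.φ u} : Set (MulAut A6))) :=
    { toFun := fun g => ⟨S.φ g, mem_centralizer_singleton_iff.2 (by rw [← map_mul, ← map_mul, hP g g.2])⟩
      map_one' := Subtype.ext (map_one _)
      map_mul' := fun a b => Subtype.ext (map_mul _ _ _) }
  have hker : Odd (Nat.card ↥f.ker) := by
    let F : ↥f.ker →* ↥S.φ.ker :=
      { toFun := fun g => ⟨((g : ↥P) : C), congrArg Subtype.val (MonoidHom.mem_ker.1 g.2)⟩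
        map_one' := rfl
        map_mul' := fun _ _ => rfl }
    have hF : Function.Injective F := by
      intro a b h
      exact Subtype.ext (Subtype.ext (congrArg (fun t : ↥S.φ.ker => (t : C)) h))
    exact S.odd.of_dvd_nat (card_dvd_of_injective F hF)
  obtain ⟨n, hn⟩ := (Group.isSolvable_def _).1 hsol
  have h1 : derivedSeries ↥P n ≤ f.ker := by
    have h2 := map_derivedSeries_le_derivedSeries f n
    rw [hn, le_bot_iff, Subgroup.map_eq_bot_iff] at h2
    exact h2
  have h2 : ∀ m, derivedSeries D m = ⊤ := by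
    intro m
    induction m with
    | zero => rfl
    | succ m ih => rw [derivedSeries_succ, ih]; exact hD
  have h3 : f.ker.map ρ = ⊤ := by
    rw [eq_top_iff, ← h2 n, ← map_derivedSeries_eq hρ n]
    exact map_mono h1
  have h4 : Nat.card D ∣ Nat.card ↥f.ker := by
    have h5 : Nat.card ↥(f.ker.map ρ) = Nat.card D := by rw [h3, card_top]
    rw [← h5]
    exact card_map_dvd _ _
  exact (Nat.not_even_iff_odd.2 (hker.of_dvd_nat h4)) he

end act

end Cfsg.Agent.H815.SixFive
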