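import Cfsg.Agent.H291.RowsF
import Cfsg.Agent.H997.OutHe2
import Cfsg.Agent.StdL3.OuterFacts
import Cfsg.Agent.H815.SixFive

/-!
# An involutory automorphism `x` of `He`: `C(x)` does not act on `A₆` with odd kernel (helper815)

* `fix_perfect` : the fixed points of an automorphism `t`, `t² = 1`, of `L₃(4)` fixing an element of order 5 form a perfect
  group of even order;
* `outer_he` : the row `He`.
-/

set_option autoImplicit false

namespace Cfsg.Agent.H815.OuterHe

open Subgroup Cfsg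
open scoped commutatorElement

universe u

/-! ### `L₃(4)` -/

open Cfsg.Agent.ONType.Psl in
/-- an elementary abelian group of order 9 is centralized by an element of order 5 normalizing it -/
theorem comm_of_nine {L : Type u} [Group L] {E : Subgroup L} (hE : Nat.card ↥E = 9) {w : L} (hw : w ^ 5 = 1)
    (hn : ∀ e ∈ E, w * e * w⁻¹ ∈ E) : ∀ e ∈ E, w * e = e * w := by
  classical
  have hp : Fact (Nat.Prime 5) := ⟨by norm_num⟩
  have hfin : Finite ↥E := Nat.finite_of_card_ne_zero (by rw [hE]; norm_num)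
  have hft : Fintype ↥E := Fintype.ofFinite _
  let f : Function.End ↥E := fun e => ⟨w * e * w⁻¹, hn e e.2⟩
  have hpow : ∀ (n : ℕ) (e : ↥E), ((f ^ n) e : L) = w ^ n * e * (w ^ n)⁻¹ := by
    intro n
    induction n with
    | zero =>
      intro e
      simp
      rfl
    | succ n ih =>
      intro e
      have h1 : (f ^ (n + 1)) e = (f ^ n) (f e) := by rw [pow_succ]; rfl
      rw [h1, ih]
      change w ^ n * (w * e * w⁻¹) * (w ^ n)⁻¹ = _
      rw [pow_succ]
      group
  have hf : f ^ 5 ^ 1 = 1 := by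
    funext e
    apply Subtype.ext
    rw [pow_one, hpow, hw]
    change 1 * (e : L) * 1⁻¹ = e
    group
  have h1 := Equiv.Perm.card_fixedPoints_modEq hf
  let E1 : Subgroup ↥E := (centralizer ({w} : Set L)).subgroupOf E
  have h2 : Fintype.card ↥(Function.fixedPoints f) = Nat.card ↥E1 := by
    rw [← Nat.card_eq_fintype_card]
    apply Nat.card_congr
    refine Equiv.subtypeEquivRight fun e => ?_
    rw [Function.mem_fixedPoints]
    change f e = e ↔ (e : L) ∈ centralizer ({w} : Set L)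
    rw [mem_centralizer_singleton_iff]
    constructor
    · intro h
      have h3 : w * (e : L) * w⁻¹ = e := congrArg Subtype.val h
      exact (mul_inv_eq_iff_eq_mul.1 h3).symm
    · intro h
      apply Subtype.ext
      change w * (e : L) * w⁻¹ = e
      rw [← h, mul_inv_cancel_right]
  have h3 : Nat.card ↥E1 ∣ 9 := hE ▸ card_subgroup_dvd_card E1
  rw [h2, ← Nat.card_eq_fintype_card, hE] at h1
  have h4 : Nat.card ↥E1 = 9 := by
    have h5 : Nat.card ↥E1 ≤ 9 := Nat.le_of_dvd (by norm_num) h3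
    rw [Nat.ModEq] at h1
    generalize Nat.card ↥E1 = m at *
    interval_cases m <;> first | rfl | (exfalso; revert h1 h3; decide)
  have h5 : E1 = ⊤ := by
    rw [← card_eq_iff_eq_top, h4, hE]
  intro e he
  have h6 : (⟨e, he⟩ : ↥E) ∈ E1 := by rw [h5]; trivial
  have h7 : e ∈ centralizer ({w} : Set L) := h6
  exact (mem_centralizer_singleton_iff.1 h7).symm

theorem card_psl {L : Type u} [Group L] (e : L ≃* Cfsg.Agent.ONType.Psl.PSL3) : Nat.card L = 20160 := by
  rw [Nat.card_congr e.toEquiv]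
  exact Cfsg.Agent.ONType.PslCard.card_PSL3

/-- the fixed points on `L₃(4)` -/
theorem fix_perfect {L : Type u} [Group L] (e : L ≃* Cfsg.Agent.ONType.Psl.PSL3) {t : MulAut L} (ht : t * t = 1)
    {w : L} (hw : orderOf w = 5) (htw : t w = w) :
    _root_.commutator ↥(fixedSubgroup t) = ⊤ ∧ Even (Nat.card ↥(fixedSubgroup t)) := by
  have hcard := card_psl e
  have hfin : Finite L := Nat.finite_of_card_ne_zero (by rw [hcard]; norm_num)
  have hs : IsSimpleGroup L := by
    have h := KFacts.He.TwoA.simple_PSL3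
    exact e.isSimpleGroup
  have hna : ∃ a b : L, a * b ≠ b * a := by
    by_contra h
    push Not at h
    have h1 : IsMulCommutative L := ⟨⟨h⟩⟩
    have h2 := KFacts.He.TwoA.simple_PSL3
    let _ : CommGroup L := { (inferInstance : Group L) with mul_comm := h }
    have hp := IsSimpleGroup.prime_card (α := L)
    rw [hcard] at hp
    exact absurd hp (by norm_num)
  have hcen : ∀ l : L, (∀ a, l * a = a * l) → l = 1 := by
    intro l hl
    have h1 : center L = ⊥ := by
      rcases hs.eq_bot_or_eq_top_of_normal (center L) inferInstance with h | h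
      · exact h
      · exfalso
        obtain ⟨a, b, hab⟩ := hna
        apply hab
        have h2 : a ∈ center L := by rw [h]; trivial
        exact (mem_center_iff.1 h2 b).symm
    have h2 : l ∈ center L := mem_center_iff.2 fun a => (hl a).symm
    rwa [h1, mem_bot] at h2
  by_cases hin : ∃ l, t = MulAut.conj l
  · obtain ⟨l, rfl⟩ := hin
    have h1 : l * l = 1 := by
      apply hcen
      intro a
      have h2 := DFunLike.congr_fun ht a
      change l * (l * a * l⁻¹) * l⁻¹ = a at h2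
      calc l * l * a = (l * (l * a * l⁻¹) * l⁻¹) * (l * l) := by group
        _ = a * (l * l) := by rw [h2]
    have h2 : l * w = w * l := mul_inv_eq_iff_eq_mul.1 htw
    have h3 : l = 1 := by
      obtain ⟨i, hi⟩ := CpAut.SmallP.PslFour.cent5 (x := e w) (by rw [MulEquiv.orderOf_eq, hw]) (e l) (by
        rw [← map_mul, ← map_mul, h2])
      have h4 : l = w ^ i := by
        apply e.injective
        rw [hi, map_zpow]
      have h5 : l ^ 5 = 1 := by
        rw [h4, ← zpow_natCast, ← zpow_mul, mul_comm, zpow_mul, zpow_natCast, ← hw, pow_orderOf_eq_one, one_zpow]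
      have h6 : l ^ 5 = l * l * (l * l) * l := by simp only [pow_succ, pow_zero, one_mul, mul_assoc]
      rw [h6, h1, one_mul, one_mul] at h5
      exact h5
    subst h3
    have htop : fixedSubgroup (MulAut.conj (1 : L)) = ⊤ := by
      rw [eq_top_iff]
      intro a _
      change 1 * a * 1⁻¹ = a
      group
    have hc : _root_.commutator L = ⊤ := by
      rcases hs.eq_bot_or_eq_top_of_normal (_root_.commutator L) inferInstance with h | h
      · exfalso
        obtain ⟨a, b, hab⟩ := hna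
        apply hab
        have h2 : ⁅a, b⁆ ∈ _root_.commutator L := by
          rw [_root_.commutator_def]
          exact commutator_mem_commutator (mem_top a) (mem_top b)
        rw [h, mem_bot, commutatorElement_eq_one_iff_mul_comm] at h2
        exact h2
      · exact h
    constructor
    · rw [htop]
      rw [_root_.commutator_def] at hc ⊢
      have h7 : (⁅(⊤ : Subgroup ↥(⊤ : Subgroup L)), (⊤ : Subgroup ↥(⊤ : Subgroup L))⁆).map (topEquiv : ↥(⊤ : Subgroup L) ≃* L).toMonoidHom = ⊤ := by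
        rw [map_commutator, map_top_of_surjective _ (topEquiv (G := L)).surjective, hc]
      rw [eq_top_iff]
      intro y _
      have h8 : (topEquiv (G := L)) y ∈ (⁅(⊤ : Subgroup ↥(⊤ : Subgroup L)), (⊤ : Subgroup ↥(⊤ : Subgroup L))⁆).map
          (topEquiv : ↥(⊤ : Subgroup L) ≃* L).toMonoidHom := by rw [h7]; trivial
      obtain ⟨y', hy', h9⟩ := h8
      have h10 : y' = y := (topEquiv (G := L)).injective h9
      rwa [← h10]
    · rw [htop, card_top, hcard]
      decide
  · push Not at hin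
    have hg := (StdL3.OuterFacts.facts_congr e.symm StdL3.OuterFacts.facts_PSL3).good t ht hin
    have hF : StdL3.OuterFix.Fix t = fixedSubgroup t := rfl
    rcases hg.fix with ⟨h1, -⟩ | ⟨E, h1, h2, h3, h4, h5, -, h7⟩
    · constructor
      · rw [hF] at h1
        have h8 : (_root_.commutator ↥(fixedSubgroup t)).map (fixedSubgroup t).subtype = fixedSubgroup t := by
          rw [_root_.commutator_def, map_commutator, ← MonoidHom.range_eq_map, range_subtype, h1]
        rw [eq_top_iff]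
        intro y _
        have h9 : (y : L) ∈ (_root_.commutator ↥(fixedSubgroup t)).map (fixedSubgroup t).subtype := by
          rw [h8]; exact y.2
        obtain ⟨y', hy', h10⟩ := h9
        have h11 : y' = y := Subtype.ext h10
        rwa [← h11]
      · obtain ⟨z, hz1, hzz, hzF, -⟩ := hg.inv
        have hzF' : z ∈ fixedSubgroup t := by
          have h8 : ⁅StdL3.OuterFix.Fix t, StdL3.OuterFix.Fix t⁆ ≤ StdL3.OuterFix.Fix t := commutator_le_self _
          exact h8 hzF
        have h8 : orderOf (⟨z, hzF'⟩ : ↥(fixedSubgroup t)) = 2 := by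
          rw [Subgroup.orderOf_mk]
          exact orderOf_eq_prime (by rw [pow_two, hzz]) hz1
        rw [even_iff_two_dvd, ← h8]
        exact orderOf_dvd_natCard _
    · exfalso
      have hw5 : w ^ 5 = 1 := by rw [← hw, pow_orderOf_eq_one]
      have h8 := comm_of_nine h3 hw5 (fun a ha => h2 w htw a ha)
      have h9 := h4 w (h7 w htw h8)
      have h10 := orderOf_dvd_of_pow_eq_one h9
      rw [hw] at h10
      norm_num at h10

/-! ### groups of type `L₃(4)` -/

open Cfsg.Agent.H300.SporBase Cfsg.Agent.H291.RowsF Cfsg.Agent.H291.RowsE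

/-- a 5-element outside of the kernel -/
theorem exists_five {C : Type u} [Group C] [Finite C] (S : Act C (alternatingGroup (Fin 6)))
    (h5 : ∀ (w : C) (k : ℕ), w ^ 5 ^ k = 1 → w ^ 5 = 1) :
    ∃ (w : C) (p : alternatingGroup (Fin 6)), orderOf w = 5 ∧ orderOf p = 5 ∧ S.φ w = MulAut.conj p := by
  have hp5 : Fact (Nat.Prime 5) := ⟨by norm_num⟩
  have hc : 5 ∣ Nat.card (alternatingGroup (Fin 6)) := by
    rw [H824.ProdLem.card_a6]
    norm_num
  obtain ⟨q, hq⟩ := exists_prime_orderOf_dvd_card' 5 hc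
  obtain ⟨a, ha⟩ := S.surj q
  obtain ⟨k, m, hm, hkm⟩ := Nat.exists_eq_pow_mul_and_not_dvd (n := orderOf a) (orderOf_pos a).ne' 5 (by norm_num)
  have h1 : (a ^ m) ^ 5 ^ k = 1 := by
    rw [← pow_mul, mul_comm, ← hkm, pow_orderOf_eq_one]
  have h2 : ((a ^ m : ↥S.A) : C) ^ 5 = 1 := h5 _ k (by
    rw [← coe_pow, h1]
    rfl)
  have h3 : orderOf (S.π (a ^ m)) = 5 := by
    rw [map_pow, ha]
    rw [Nat.Coprime.orderOf_pow, hq]
    rw [hq]
    exact (Nat.Prime.coprime_iff_not_dvd (by norm_num)).2 hm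
  refine ⟨((a ^ m : ↥S.A) : C), S.π (a ^ m), ?_, h3, S.phi_coe _⟩
  apply orderOf_eq_prime h2
  intro h4
  have h6 : (a ^ m : ↥S.A) = 1 := Subtype.ext h4
  rw [h6, map_one, orderOf_one] at h3
  norm_num at h3

/-- **groups of type `L₃(4)`** -/
theorem no_act {X : Type u} [Group X] [Finite X] (K : Kind X) (E : Ev5 X)
    (h25 : ∀ u : X, orderOf u = 2 → ¬ 25 ∣ Nat.card ↥(centralizer ({u} : Set X)))
    (h5 : ∀ (w : X) (k : ℕ), w ^ 5 ^ k = 1 → w ^ 5 = 1)
    {x : MulAut X} (hxx : x * x = 1) (S : Act ↥(fixedSubgroup x) (alternatingGroup (Fin 6))) : False := by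
  have hp5 : Fact (Nat.Prime 5) := ⟨by norm_num⟩
  obtain ⟨w, p, hw, hp, hφw⟩ := exists_five S fun w k hk => by
    have h := h5 (w : X) k (by
      have h1 := congrArg Subtype.val hk
      rwa [coe_pow] at h1)
    apply Subtype.ext
    rw [coe_pow]
    exact h
  have hw' : orderOf (w : X) = 5 := by rw [Subgroup.orderOf_coe, hw]
  obtain ⟨v, hv, hvw⟩ := E _ hw'
  have he : Even (Nat.card ↥(centralizer ({(w : X)} : Set X))) := by
    have h1 : orderOf (⟨v, mem_centralizer_singleton_iff.2 hvw⟩ : ↥(centralizer ({(w : X)} : Set X))) = 2 := by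
      rw [Subgroup.orderOf_mk, hv]
    rw [even_iff_two_dvd, ← h1]
    exact orderOf_dvd_natCard _
  obtain ⟨u, hu, hxu, huw⟩ := H291.Parity.exists_comm_invo x hxx (w := (w : X)) w.2 he
  have h5u : 5 ∣ Nat.card ↥(centralizer ({u} : Set X)) := by
    have h4 : orderOf (⟨_, mem_centralizer_singleton_iff.2 huw.symm⟩ : ↥(centralizer ({u} : Set X))) = 5 := by
      rw [Subgroup.orderOf_mk, hw']
    rw [← h4]
    exact orderOf_dvd_natCard _
  obtain ⟨N, T, ⟨e⟩⟩ := K u hu h5u
  have hcL := card_psl e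
  have h25u := h25 u hu
  -- `w ∈ N`
  have hNn : ∀ g ∈ centralizer ({u} : Set X), ∀ n ∈ N, g * n * g⁻¹ ∈ N := by
    intro g hg n hn
    have h1 : (MulAut.conj g) u = u := by
      rw [MulAut.conj_apply, mem_centralizer_singleton_iff.1 hg, mul_inv_cancel_right]
    exact map_mem h1 T hn
  have hnorm : (N.subgroupOf (centralizer ({u} : Set X))).Normal :=
    ⟨fun n hn g => hNn g g.2 n hn⟩
  have hcN : 20160 ∣ Nat.card ↥N := by
    rw [← hcL]
    exact card_quotient_dvd_card _
  have hidx : ¬ 5 ∣ (N.subgroupOf (centralizer ({u} : Set X))).index := by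
    intro h
    apply h25u
    have h1 := (N.subgroupOf (centralizer ({u} : Set X))).card_mul_index
    rw [Nat.card_congr (subgroupOfEquivOfLe T.le).toEquiv] at h1
    rw [← h1]
    exact Nat.mul_dvd_mul ((show 5 ∣ 20160 by norm_num).trans hcN) h
  have hwN : (w : X) ∈ N := by
    have hwc : (w : X) ∈ centralizer ({u} : Set X) := mem_centralizer_singleton_iff.2 huw.symm
    have h1 : ((QuotientGroup.mk' (N.subgroupOf (centralizer ({u} : Set X)))) ⟨w, hwc⟩) ^ 5 = 1 := by
      rw [← map_pow]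
      have h2 : (⟨(w : X), hwc⟩ : ↥(centralizer ({u} : Set X))) ^ 5 = 1 := by
        apply Subtype.ext
        rw [coe_pow]
        change (w : X) ^ 5 = 1
        rw [← hw', pow_orderOf_eq_one]
      rw [h2, map_one]
    have h2 : (QuotientGroup.mk' (N.subgroupOf (centralizer ({u} : Set X)))) ⟨w, hwc⟩ = 1 := by
      by_contra h3
      have h4 := orderOf_eq_prime h1 h3
      apply hidx
      rw [← h4]
      exact orderOf_dvd_natCard _
    have h3 := (QuotientGroup.eq_one_iff _).1 h2
    exact h3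
  -- the automorphism of `N / Z(N)`
  have hxN : ∀ n ∈ N, x n ∈ N := fun n hn => map_mem hxu T hn
  set τ : MulAut ↥N := tau hxx hxN with hτ
  have hττ : τ * τ = 1 := by
    ext n
    exact DFunLike.congr_fun hxx (n : X)
  have hbb : bar τ * bar τ = 1 := by
    ext q
    obtain ⟨n, rfl⟩ := QuotientGroup.mk'_surjective _ q
    rw [MulAut.mul_apply, bar_mk, bar_mk, MulAut.one_apply]
    congr 1
    exact DFunLike.congr_fun hττ n
  set wb : ↥N ⧸ center ↥N := QuotientGroup.mk' _ ⟨w, hwN⟩ with hwb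
  have hwb5 : wb ^ 5 = 1 := by
    rw [hwb, ← map_pow]
    have h2 : (⟨(w : X), hwN⟩ : ↥N) ^ 5 = 1 := by
      apply Subtype.ext
      rw [coe_pow]
      change (w : X) ^ 5 = 1
      rw [← hw', pow_orderOf_eq_one]
    rw [h2, map_one]
  have hwb1 : wb ≠ 1 := by
    intro h1
    have h2 : (⟨(w : X), hwN⟩ : ↥N) ∈ center ↥N := (QuotientGroup.eq_one_iff _).1 h1
    have h3 : 5 ∣ Nat.card ↥(center ↥N) := by
      have h4 : orderOf (⟨_, h2⟩ : ↥(center ↥N)) = 5 := by
        rw [Subgroup.orderOf_mk, Subgroup.orderOf_mk, hw']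
      rw [← h4]
      exact orderOf_dvd_natCard _
    apply h25u
    have h4 : Nat.card ↥N ∣ Nat.card ↥(centralizer ({u} : Set X)) := card_dvd_of_le T.le
    refine Nat.dvd_trans ?_ h4
    rw [card_eq_card_quotient_mul_card_subgroup (center ↥N), hcL]
    exact Nat.mul_dvd_mul (show 5 ∣ 20160 by norm_num) h3
  have hwbo : orderOf wb = 5 := orderOf_eq_prime hwb5 hwb1
  have hbw : bar τ wb = wb := by
    rw [hwb, bar_mk]
    congr 1
    apply Subtype.ext
    exact w.2
  obtain ⟨hD, hev⟩ := fix_perfect e hbb hwbo hbw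
  -- the map
  let P : Subgroup ↥(fixedSubgroup x) := N.subgroupOf (fixedSubgroup x)
  let ρ : ↥P →* ↥(fixedSubgroup (bar τ)) :=
    { toFun := fun g => ⟨QuotientGroup.mk' _ (⟨((g : ↥(fixedSubgroup x)) : X), g.2⟩ : ↥N), by
        change bar τ (QuotientGroup.mk' _ _) = _
        rw [bar_mk]
        congr 1
        apply Subtype.ext
        exact (g : ↥(fixedSubgroup x)).2⟩
      map_one' := rfl
      map_mul' := fun _ _ => rfl }
  have hρ : Function.Surjective ρ := by
    rw [← MonoidHom.range_eq_top, eq_top_iff, ← hD, _root_.commutator_def, commutator_le]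
    rintro ⟨a, ha⟩ - ⟨b, hb⟩ -
    obtain ⟨a, rfl⟩ := QuotientGroup.mk'_surjective _ a
    obtain ⟨b, rfl⟩ := QuotientGroup.mk'_surjective _ b
    have key : ∀ n : ↥N, bar τ (QuotientGroup.mk' _ n) = QuotientGroup.mk' _ n → ∃ c ∈ center ↥N, τ n = n * c := by
      intro n hn
      rw [bar_mk] at hn
      exact ⟨n⁻¹ * τ n, QuotientGroup.eq.1 hn.symm, by group⟩
    obtain ⟨c, hc, hac⟩ := key a ha
    obtain ⟨d, hd, hbd⟩ := key b hb
    rw [mem_center_iff] at hc hd
    have h1 : τ ⁅a, b⁆ = ⁅a, b⁆ := by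
      rw [commutatorElement_def, map_mul, map_mul, map_mul, map_inv, map_inv, hac, hbd, mul_inv_rev, mul_inv_rev]
      calc a * c * (b * d) * (c⁻¹ * a⁻¹) * (d⁻¹ * b⁻¹) = a * (c * (b * d)) * (c⁻¹ * a⁻¹) * (d⁻¹ * b⁻¹) := by group
        _ = a * ((b * d) * c) * (c⁻¹ * a⁻¹) * (d⁻¹ * b⁻¹) := by rw [hc (b * d)]
        _ = a * b * (d * a⁻¹) * d⁻¹ * b⁻¹ := by group
        _ = a * b * (a⁻¹ * d) * d⁻¹ * b⁻¹ := by rw [← hd a⁻¹]
        _ = a * b * a⁻¹ * b⁻¹ := by group
    have h2 : x (⁅a, b⁆ : ↥N) = (⁅a, b⁆ : ↥N) := congrArg Subtype.val h1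
    refine ⟨⟨⟨(⁅a, b⁆ : ↥N), h2⟩, (⁅a, b⁆ : ↥N).2⟩, ?_⟩
    apply Subtype.ext
    change QuotientGroup.mk' _ (⁅a, b⁆ : ↥N) = _
    rw [map_commutatorElement]
    rfl
  have huX : x u = u := hxu
  have huu : u * u = 1 := by rw [← pow_two, ← hu, pow_orderOf_eq_one]
  have hu1 : u ≠ 1 := by
    rintro rfl
    rw [orderOf_one] at hu
    norm_num at hu
  refine SixFive.no_perfect S (u := ⟨u, huX⟩) (w := w) (Subtype.ext huu) (fun h => hu1 (congrArg Subtype.val h))
    (Subtype.ext huw) hp hφw P ?_ ρ hρ hD hev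
  intro g hg
  apply Subtype.ext
  exact mem_centralizer_singleton_iff.1 (T.le hg)

/-! ### `He` -/

theorem card_He : Nat.card Spor.He = 4030387200 := Cfsg.Agent.FixBN.HeStab.card_he

theorem h25_he {u : Spor.He} (hu : orderOf u = 2) : ¬ 25 ∣ Nat.card ↥(centralizer ({u} : Set Spor.He)) := by
  intro h
  have huu : u * u = 1 := by rw [← pow_two, ← hu, pow_orderOf_eq_one]
  have hu1 : u ≠ 1 := by rintro rfl; rw [orderOf_one] at hu; norm_num at hu
  rcases CTwoTab.He.classes huu hu1 with h1 | h1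
  · obtain ⟨g, rfl⟩ := conj_cent h1
    rw [H291.RowsB.card_cent_equiv] at h
    have := h.trans card_cent_z
    norm_num at this
  · obtain ⟨g, rfl⟩ := conj_cent h1
    rw [H291.RowsB.card_cent_equiv] at h
    have := h.trans H997.OutHe.card_cent_a
    norm_num at this

theorem exp5_he (w : Spor.He) (k : ℕ) (hw : w ^ 5 ^ k = 1) : w ^ 5 = 1 := by
  have hf5 : Fact (Nat.Prime 5) := ⟨by norm_num⟩
  have hfin : Finite Spor.He := Nat.finite_of_card_ne_zero (by rw [card_He]; norm_num)
  have hf : (Nat.card Cfsg.Spor.He).factorization 5 = 2 := by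
    rw [card_He, show (4030387200 : ℕ) = 5 ^ 2 * 161215488 by norm_num, Nat.factorization_mul (by norm_num) (by norm_num),
      Nat.Prime.factorization_pow (by norm_num)]
    simp [Nat.factorization_eq_zero_of_not_dvd (show ¬ 5 ∣ 161215488 by norm_num)]
  have hcard : Nat.card ↥H291.HeFive.P0 = 5 ^ (Nat.card Cfsg.Spor.He).factorization 5 := by
    rw [hf]
    obtain ⟨k, hk⟩ := IsPGroup.iff_card.1 H291.HeFive.isPGroup_P0
    have h1 : Nat.card ↥H291.HeFive.P0 ∣ Nat.card Cfsg.Spor.He := card_subgroup_dvd_card _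
    rw [hk] at h1 ⊢
    have h2 : k ≤ 2 := by
      by_contra h3
      have h4 : 5 ^ 3 ∣ Nat.card Cfsg.Spor.He := (pow_dvd_pow 5 (by omega)).trans h1
      rw [card_He] at h4
      norm_num at h4
    have h3 : 2 ≤ k := by
      have h4 := H291.HeFive.dvd_P0
      rw [hk, show (25 : ℕ) = 5 ^ 2 by norm_num] at h4
      exact (Nat.pow_dvd_pow_iff_le_right (by norm_num)).1 h4
    rw [show k = 2 by omega]
  let P : Sylow 5 Cfsg.Spor.He := Sylow.ofCard H291.HeFive.P0 hcard
  have h1 : IsPGroup 5 ↥(zpowers w) := by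
    rw [IsPGroup.iff_card, Nat.card_zpowers]
    exact (Nat.dvd_prime_pow (by norm_num)).1 (orderOf_dvd_of_pow_eq_one hw) |>.imp fun _ h => h.2
  obtain ⟨Q, hQ⟩ := h1.exists_le_sylow
  obtain ⟨g, hg⟩ := MulAction.exists_smul_eq Cfsg.Spor.He Q P
  have h2 : g * w * g⁻¹ ∈ H291.HeFive.P0 := by
    have h3 : g * w * g⁻¹ ∈ ((g • Q : Sylow 5 Cfsg.Spor.He) : Subgroup Cfsg.Spor.He) := by
      rw [Sylow.coe_subgroup_smul]
      exact ⟨w, hQ (mem_zpowers w), rfl⟩
    rw [hg] at h3
    exact h3
  have h3 : (g * w * g⁻¹) ^ 5 = 1 := by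
    obtain ⟨e1, e2, e3, -, -⟩ := H291.HeFive.rel
    obtain ⟨i, j, hij⟩ := h2
    rw [hij, (Commute.pow_pow e3 i j : Commute _ _).mul_pow, ← pow_mul, ← pow_mul, mul_comm i, mul_comm j,
      pow_mul, pow_mul, e1, e2, one_pow, one_pow, mul_one]
  rw [conj_pow] at h3
  have h4 : w ^ 5 = g⁻¹ * (g * w ^ 5 * g⁻¹) * g := by group
  rw [h4, h3]
  group

theorem exp5_of {X : Type u} [Group X] (e : X ≃* Spor.He) (w : X) (k : ℕ) (hw : w ^ 5 ^ k = 1) : w ^ 5 = 1 := by
  apply e.injective
  rw [map_pow, map_one]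
  exact exp5_he _ k (by rw [← map_pow, hw, map_one])

/-- **The row `He`.** -/
theorem outer_he {X : Type u} [Group X] [Finite X] (h : Spor.IsoHe X) {x : MulAut X} (hxx : x * x = 1)
    (S : Act ↥(fixedSubgroup x) (alternatingGroup (Fin 6))) : False := by
  obtain ⟨e⟩ := h
  refine no_act (kind_he.congr e.symm) (ev5_he.congr e.symm) (fun u hu => ?_) (exp5_of e) hxx S
  have h1 := h25_he (u := e u) (by rw [MulEquiv.orderOf_eq, hu])
  rwa [H291.LThreeFix.card_cent_equiv] at h1

end Cfsg.Agent.H815.OuterHe
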