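import Cfsg.Agent.H284.RankFix
import Cfsg.Agent.LieRecognition.PSUThreeSylow
import Cfsg.Agent.GH.LowRankLie
import Cfsg.Agent.ClassicalGeometry.GUBasic
import Cfsg.Agent.LieClassical.HermBasic

/-!
# Sectional 2-rank of `L₂(q)`, `L₃(q)`, `U₃(q)`, `q` odd  (helper815)

* `rank_psl_three`, `rank_psl_two`, `rank_psu_three` : `SectionalPRankLE 2 4`, from `H284.RankFix.rank_fix` for the
  inverse transpose automorphism of `SL₃(q)`, `SU₃(q)` and the four-group of diagonal matrices with entries `±1`.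
-/

set_option autoImplicit false

namespace Cfsg.Agent.H815.RankL3

open Matrix Cfsg Cfsg.Agent Subgroup

universe u

variable {F : Type u} [Field F]

/-- `SL₃` -/
abbrev SL3 (F : Type*) [Field F] := SpecialLinearGroup (Fin 3) F

/-- transpose -/
def tr (g : SL3 F) : SL3 F := ⟨g.1ᵀ, by rw [det_transpose]; exact g.2⟩

theorem tr_mul (a b : SL3 F) : tr (a * b) = tr b * tr a := by
  apply Subtype.ext
  exact transpose_mul a.1 b.1

theorem tr_tr (a : SL3 F) : tr (tr a) = a := rfl

theorem tr_one : tr (1 : SL3 F) = 1 := Subtype.ext transpose_one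

theorem tr_inv (a : SL3 F) : tr a⁻¹ = (tr a)⁻¹ := by
  apply eq_inv_of_mul_eq_one_left
  rw [← tr_mul, mul_inv_cancel, tr_one]

/-- inverse transpose -/
def iT (F : Type u) [Field F] : SL3 F ≃* SL3 F where
  toFun g := tr g⁻¹
  invFun g := tr g⁻¹
  left_inv g := by
    change tr (tr g⁻¹)⁻¹ = g
    rw [tr_inv, tr_tr, inv_inv]
  right_inv g := by
    change tr (tr g⁻¹)⁻¹ = g
    rw [tr_inv, tr_tr, inv_inv]
  map_mul' a b := by
    rw [_root_.mul_inv_rev, tr_mul]

theorem iT_iT (g : SL3 F) : iT F (iT F g) = g := (iT F).left_inv g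

theorem iT_fix {g : SL3 F} (h : iT F g = g) : g.1 * g.1ᵀ = 1 := by
  have h1 : tr g⁻¹ = g := h
  rw [tr_inv, inv_eq_iff_mul_eq_one] at h1
  have h2 := congrArg Subtype.val h1
  have h3 : g.1ᵀ * g.1 = 1 := h2
  exact mul_eq_one_comm.1 h3

/-- diagonal matrices with entries `±1` -/
def dsg (F : Type u) [Field F] : ℤˣ × ℤˣ →* SL3 F where
  toFun u := ⟨diagonal ![((u.1 : ℤ) : F), ((u.2 : ℤ) : F), (((u.1 * u.2 : ℤˣ) : ℤ) : F)], by
    rw [det_diagonal, Fin.prod_univ_three]
    change ((u.1 : ℤ) : F) * ((u.2 : ℤ) : F) * (((u.1 * u.2 : ℤˣ) : ℤ) : F) = 1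
    rw [← Int.cast_mul, ← Int.cast_mul, ← Units.val_mul, ← Units.val_mul, Int.units_mul_self]
    simp⟩
  map_one' := by
    apply Subtype.ext
    change diagonal _ = _
    ext i j
    fin_cases i <;> fin_cases j <;> simp [diagonal]
  map_mul' u v := by
    apply Subtype.ext
    change diagonal _ = diagonal _ * diagonal _
    rw [diagonal_mul_diagonal]
    congr 1
    ext i
    fin_cases i <;> simp [mul_mul_mul_comm]

theorem dsg_val (u : ℤˣ × ℤˣ) : (dsg F u).1 =
    diagonal ![((u.1 : ℤ) : F), ((u.2 : ℤ) : F), (((u.1 * u.2 : ℤˣ) : ℤ) : F)] := rfl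

theorem sg_inj (h2 : (2 : F) ≠ 0) {a b : ℤˣ} (h : ((a : ℤ) : F) = ((b : ℤ) : F)) : a = b := by
  rcases Int.units_eq_one_or a with rfl | rfl <;> rcases Int.units_eq_one_or b with rfl | rfl
  · rfl
  · exfalso; apply h2
    simp only [Units.val_one, Int.cast_one, Units.val_neg, Int.cast_neg] at h
    linear_combination h
  · exfalso; apply h2
    simp only [Units.val_one, Int.cast_one, Units.val_neg, Int.cast_neg] at h
    linear_combination -h
  · rfl

theorem dsg_injective (h2 : (2 : F) ≠ 0) : Function.Injective (dsg F) := by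
  intro u v h
  have h1 := congrArg Subtype.val h
  rw [dsg_val, dsg_val] at h1
  have h3 := diagonal_injective h1
  exact Prod.ext (sg_inj h2 (congrFun h3 0)) (sg_inj h2 (congrFun h3 1))

theorem iT_dsg (u : ℤˣ × ℤˣ) : iT F (dsg F u) = dsg F u := by
  change tr (dsg F u)⁻¹ = _
  have h1 : (dsg F u)⁻¹ = dsg F u := by
    rw [← map_inv]
    congr 1
    exact Prod.ext (Int.units_inv_eq_self _) (Int.units_inv_eq_self _)
  rw [h1]
  apply Subtype.ext
  exact diagonal_transpose _

/-- a matrix commuting with the four-group is diagonal -/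
theorem offdiag (h2 : (2 : F) ≠ 0) {g : SL3 F} (h : ∀ u, g * dsg F u = dsg F u * g) (i j : Fin 3) (hij : i ≠ j) :
    g.1 i j = 0 := by
  have h1 : ∀ u : ℤˣ × ℤˣ, g.1 i j * (![((u.1 : ℤ) : F), ((u.2 : ℤ) : F), (((u.1 * u.2 : ℤˣ) : ℤ) : F)] j) =
      (![((u.1 : ℤ) : F), ((u.2 : ℤ) : F), (((u.1 * u.2 : ℤˣ) : ℤ) : F)] i) * g.1 i j := by
    intro u
    have h3 : g.1 * (dsg F u).1 = (dsg F u).1 * g.1 := congrArg Subtype.val (h u)
    rw [dsg_val] at h3
    have h4 := congrFun (congrFun h3 i) j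
    rwa [mul_diagonal, diagonal_mul] at h4
  have ha := h1 (-1, 1)
  have hb := h1 (1, -1)
  have hc := h1 (-1, -1)
  have key : ∀ x : F, x * 1 = (-1) * x → x = 0 := by
    intro x hx
    have : 2 * x = 0 := by linear_combination hx
    exact (mul_eq_zero.1 this).resolve_left h2
  have key' : ∀ x : F, x * (-1) = 1 * x → x = 0 := by
    intro x hx
    have : 2 * x = 0 := by linear_combination -hx
    exact (mul_eq_zero.1 this).resolve_left h2
  fin_cases i <;> fin_cases j
  · exact absurd rfl hij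
  · apply key; simpa using ha
  · apply key'; simpa using hb
  · apply key'; simpa using ha
  · exact absurd rfl hij
  · apply key'; simpa using ha
  · apply key; simpa using hb
  · apply key; simpa using ha
  · exact absurd rfl hij

theorem rank_sub [Finite F] (h2 : (2 : F) ≠ 0) (G : Subgroup (SL3 F)) (hG : ∀ g ∈ G, iT F g ∈ G)
    (hd : ∀ u, dsg F u ∈ G) (h1 : ∃ g ∈ G, iT F g ≠ g) : SectionalPRankLE 2 4 ↥G := by
  have : Finite (SL3 F) := inferInstance
  let x : MulAut ↥G :=
    { toFun := fun g => ⟨iT F g.1, hG _ g.2⟩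
      invFun := fun g => ⟨iT F g.1, hG _ g.2⟩
      left_inv := fun g => Subtype.ext (iT_iT _)
      right_inv := fun g => Subtype.ext (iT_iT _)
      map_mul' := fun a b => Subtype.ext (map_mul (iT F) _ _) }
  let φ : ℤˣ × ℤˣ →* ↥G := (dsg F).codRestrict G hd
  have hφ : Function.Injective φ := fun a b h => dsg_injective h2 (congrArg Subtype.val h)
  refine H284.RankFix.rank_fix (x := x) ?_ ?_ φ.range ?_ ?_ ?_ ?_ ?_
  · ext g : 1
    exact Subtype.ext (iT_iT _)
  · intro hx
    obtain ⟨g, hg, hne⟩ := h1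
    apply hne
    have := congrArg (fun y : MulAut ↥G => y ⟨g, hg⟩) hx
    exact congrArg Subtype.val this
  · rintro _ ⟨u, rfl⟩
    exact Subtype.ext (iT_dsg u)
  · rintro _ ⟨u, rfl⟩ _ ⟨v, rfl⟩
    rw [← map_mul, ← map_mul, mul_comm]
  · rintro _ ⟨u, rfl⟩
    rw [← map_mul, show u * u = 1 from Prod.ext (Int.units_mul_self _) (Int.units_mul_self _), map_one]
  · rw [← Nat.card_congr (MonoidHom.ofInjective hφ).toEquiv, Nat.card_prod, Nat.card_eq_fintype_card]
    rfl
  · intro g hg hc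
    have hfix : iT F g.1 = g.1 := congrArg Subtype.val (show x g = g from hg)
    have hgg := iT_fix hfix
    have hoff : ∀ i j, i ≠ j → g.1.1 i j = 0 := offdiag h2 (fun u => congrArg Subtype.val (hc (φ u) ⟨u, rfl⟩))
    have hdiag : ∀ i, g.1.1 i i = 1 ∨ g.1.1 i i = -1 := by
      intro i
      have h3 := congrFun (congrFun hgg i) i
      rw [mul_apply, Finset.sum_eq_single i, transpose_apply, one_apply_eq] at h3
      · exact mul_self_eq_one_iff.1 h3
      · intro j _ hj
        rw [hoff i j (Ne.symm hj), zero_mul]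
      · intro h; exact absurd (Finset.mem_univ _) h
    have hu : ∀ i, ∃ a : ℤˣ, g.1.1 i i = ((a : ℤ) : F) := by
      intro i
      rcases hdiag i with h | h
      · exact ⟨1, by simpa using h⟩
      · exact ⟨-1, by simpa using h⟩
    obtain ⟨a, ha⟩ := hu 0
    obtain ⟨b, hb⟩ := hu 1
    refine ⟨(a, b), ?_⟩
    apply Subtype.ext
    apply Subtype.ext
    change (dsg F (a, b)).1 = g.1.1
    rw [dsg_val]
    have hmat : g.1.1 = diagonal ![((a : ℤ) : F), ((b : ℤ) : F), g.1.1 2 2] := by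
      ext i j
      by_cases hij : i = j
      · subst hij
        rw [diagonal_apply_eq]
        fin_cases i
        · exact ha
        · exact hb
        · rfl
      · rw [diagonal_apply_ne _ hij]
        exact hoff i j hij
    have hdet := g.1.2
    rw [hmat, det_diagonal, Fin.prod_univ_three] at hdet
    change ((a : ℤ) : F) * ((b : ℤ) : F) * g.1.1 2 2 = 1 at hdet
    rw [hmat]
    congr 1
    ext i
    fin_cases i
    · rfl
    · rfl
    · change (((a * b : ℤˣ) : ℤ) : F) = g.1.1 2 2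
      rcases Int.units_eq_one_or a with rfl | rfl <;> rcases Int.units_eq_one_or b with rfl | rfl <;>
        simp at hdet ⊢ <;> first | exact hdet.symm | linear_combination -hdet | linear_combination hdet

/-- **`SL₃(q)`, `q` odd.** -/
theorem rank_sl_three [Finite F] (h2 : (2 : F) ≠ 0) : SectionalPRankLE 2 4 (SL3 F) := by
  refine GH.Rank.of_equiv (rank_sub h2 ⊤ (fun _ _ => mem_top _) (fun _ => mem_top _) ?_) topEquiv
  refine ⟨⟨!![1, 1, 0; 0, 1, 0; 0, 0, 1], by simp [det_fin_three]⟩, mem_top _, ?_⟩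
  intro h
  have h1 := congrFun (congrFun (iT_fix h) 0) 0
  rw [mul_apply, Fin.sum_univ_three, one_apply_eq] at h1
  simp at h1

/-- **`PSL₃(q)`, `q` odd.** -/
theorem rank_psl_three [Finite F] (h2 : (2 : F) ≠ 0) :
    SectionalPRankLE 2 4 (ProjectiveSpecialLinearGroup (Fin 3) F) :=
  GH.Rank.of_quotient (rank_sl_three h2) _

/-- `SL₂ → SL₃` -/
def blk (F : Type u) [Field F] : SpecialLinearGroup (Fin 2) F →* SL3 F where
  toFun g := ⟨!![g.1 0 0, g.1 0 1, 0; g.1 1 0, g.1 1 1, 0; 0, 0, 1], by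
    have h := g.2
    rw [det_fin_two] at h
    simp [det_fin_three, h]⟩
  map_one' := by
    apply Subtype.ext
    ext i j
    fin_cases i <;> fin_cases j <;> simp
  map_mul' a b := by
    apply Subtype.ext
    change _ = _ * _
    ext i j
    fin_cases i <;> fin_cases j <;> simp [mul_apply, Fin.sum_univ_two, Fin.sum_univ_three]

theorem blk_injective (F : Type u) [Field F] : Function.Injective (blk F) := by
  intro a b h
  have h1 := congrArg Subtype.val h
  have h2 : !![a.1 0 0, a.1 0 1, 0; a.1 1 0, a.1 1 1, 0; 0, 0, 1] =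
    !![b.1 0 0, b.1 0 1, 0; b.1 1 0, b.1 1 1, 0; 0, 0, 1] := h1
  apply Subtype.ext
  ext i j
  fin_cases i <;> fin_cases j
  · exact congrFun (congrFun h2 0) 0
  · exact congrFun (congrFun h2 0) 1
  · exact congrFun (congrFun h2 1) 0
  · exact congrFun (congrFun h2 1) 1

/-- **`SL₂(q)`, `q` odd.** -/
theorem rank_sl_two [Finite F] (h2 : (2 : F) ≠ 0) : SectionalPRankLE 2 4 (SpecialLinearGroup (Fin 2) F) :=
  GH.Rank.of_injective (rank_sl_three h2) (blk F) (blk_injective F)

/-- **`PSL₂(q)`, `q` odd.** -/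
theorem rank_psl_two [Finite F] (h2 : (2 : F) ≠ 0) :
    SectionalPRankLE 2 4 (ProjectiveSpecialLinearGroup (Fin 2) F) :=
  GH.Rank.of_quotient (rank_sl_two h2) _

/-! ### The unitary groups -/

section Unitary

variable [Fintype F] {q : ℕ}

theorem two_ne_zero_of_odd (hF : Fintype.card F = q ^ 2) (hq : Odd q) : (2 : F) ≠ 0 :=
  GH.LowRankLie.two_ne_zero_of_odd (by rw [hF]; exact hq.pow)

theorem iT_mem_SU (hF : Fintype.card F = q ^ 2) {g : SL3 F} (hg : g ∈ SU 3 F q) : iT F g ∈ SU 3 F q := by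
  obtain ⟨σ, hσ⟩ := ClassicalGeometry.GUBasic.exists_powHom hF
  have hσσ : ∀ x, σ (σ x) = x := by
    intro x
    rw [hσ, hσ, ← pow_mul, ← pow_two, ← hF, FiniteField.pow_card]
  have h1 := (LieRecognition.PSUThreeSylow.mem_SU_iff hσ g).1 hg
  rw [LieRecognition.PSUThreeSylow.mem_SU_iff hσ]
  -- `gᵀ σ(g) = 1`, hence `σ(g) = (g⁻¹)ᵀ`
  have h3 : g.1.map σ = (iT F g).1 := by
    have h4 : (tr g) * (iT F g) = 1 := by
      change tr g * tr g⁻¹ = 1
      rw [tr_inv, mul_inv_cancel]
    have h5 : g.1ᵀ * (iT F g).1 = 1 := congrArg Subtype.val h4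
    have h6 : (iT F g).1 * g.1ᵀ = 1 := mul_eq_one_comm.1 h5
    calc g.1.map σ = (iT F g).1 * g.1ᵀ * g.1.map σ := by rw [h6, one_mul]
      _ = (iT F g).1 := by rw [mul_assoc, h1, mul_one]
  change (iT F g).1ᵀ * (iT F g).1.map σ = 1
  rw [← h3, map_map]
  have h7 : g.1.map (σ ∘ σ) = g.1 := by
    ext i j
    exact hσσ _
  rw [h7, h3]
  change (tr g⁻¹).1ᵀ * g.1 = 1
  exact congrArg Subtype.val (inv_mul_cancel g)

theorem dsg_mem_SU (hF : Fintype.card F = q ^ 2) (u : ℤˣ × ℤˣ) : dsg F u ∈ SU 3 F q := by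
  obtain ⟨σ, hσ⟩ := ClassicalGeometry.GUBasic.exists_powHom hF
  rw [LieRecognition.PSUThreeSylow.mem_SU_iff hσ]
  have h1 : (dsg F u).1.map σ = (dsg F u).1 := by
    rw [dsg_val, diagonal_map (map_zero σ)]
    congr 1
    ext i
    fin_cases i <;> simp
  rw [h1, dsg_val, diagonal_transpose, ← dsg_val]
  have h2 : dsg F u * dsg F u = 1 := by
    rw [← map_mul, show u * u = 1 from Prod.ext (Int.units_mul_self _) (Int.units_mul_self _), map_one]
  exact congrArg Subtype.val h2

/-- a norm one element that is not `±1` -/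
theorem exists_norm_one (hF : Fintype.card F = q ^ 2) (hodd : Odd q) :
    ∃ a : F, a * a ^ q = 1 ∧ a * a ≠ 1 := by
  classical
  by_contra hcon
  push Not at hcon
  have h1 := LieClassical.HermBasic.card_norm_eq_one hF
  have h2 := LieClassical.HermBasic.two_le hF
  have h3 : Nat.card {x : F // x * x ^ q = 1} ≤ Nat.card ℤˣ := by
    refine Nat.card_le_card_of_injective (fun x => if x.1 = 1 then (1 : ℤˣ) else -1) ?_
    intro x y h
    have hx := mul_self_eq_one_iff.1 (hcon x.1 x.2)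
    have hy := mul_self_eq_one_iff.1 (hcon y.1 y.2)
    apply Subtype.ext
    simp only at h
    by_cases hx1 : x.1 = 1 <;> by_cases hy1 : y.1 = 1
    · rw [hx1, hy1]
    · rw [if_pos hx1, if_neg hy1] at h
      exact absurd h (by decide)
    · rw [if_neg hx1, if_pos hy1] at h
      exact absurd h (by decide)
    · rw [hx.resolve_left hx1, hy.resolve_left hy1]
  rw [h1, Nat.card_eq_fintype_card, show Fintype.card ℤˣ = 2 from rfl] at h3
  obtain ⟨k, hk⟩ := hodd
  omega

theorem rank_su_three (hF : Fintype.card F = q ^ 2) (hq : Odd q) : SectionalPRankLE 2 4 ↥(SU 3 F q) := by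
  have h2 := two_ne_zero_of_odd hF hq
  refine rank_sub h2 (SU 3 F q) (fun g hg => iT_mem_SU hF hg) (dsg_mem_SU hF) ?_
  obtain ⟨a, ha, ha2⟩ := exists_norm_one hF hq
  obtain ⟨σ, hσ⟩ := ClassicalGeometry.GUBasic.exists_powHom hF
  have ha' : a * σ a = 1 := by rw [hσ]; exact ha
  have ha0 : a ≠ 0 := left_ne_zero_of_mul_eq_one ha
  have hdet : (diagonal ![a, a⁻¹, 1]).det = 1 := by
    rw [det_diagonal, Fin.prod_univ_three]
    change a * a⁻¹ * 1 = 1
    rw [mul_inv_cancel₀ ha0, one_mul]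
  let g₀ : SL3 F := ⟨diagonal ![a, a⁻¹, 1], hdet⟩
  refine ⟨g₀, ?_, ?_⟩
  · refine (LieRecognition.PSUThreeSylow.mem_SU_iff hσ g₀).2 ?_
    change (diagonal ![a, a⁻¹, 1])ᵀ * (diagonal ![a, a⁻¹, 1]).map σ = 1
    rw [diagonal_transpose, diagonal_map (map_zero σ), diagonal_mul_diagonal, ← diagonal_one]
    congr 1
    ext i
    fin_cases i
    · exact ha'
    · change a⁻¹ * σ a⁻¹ = 1
      rw [map_inv₀, ← mul_inv, ha', inv_one]
    · change (1 : F) * σ 1 = 1
      rw [map_one, one_mul]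
  · intro h
    have h3 := iT_fix h
    apply ha2
    change diagonal ![a, a⁻¹, 1] * (diagonal ![a, a⁻¹, 1])ᵀ = 1 at h3
    rw [diagonal_transpose, diagonal_mul_diagonal, ← diagonal_one] at h3
    exact congrFun (diagonal_injective h3) 0

theorem rank_psu_three (hF : Fintype.card F = q ^ 2) (hq : Odd q) : SectionalPRankLE 2 4 (PSU 3 F q) :=
  GH.Rank.of_quotient (rank_su_three hF hq) _

end Unitary

end Cfsg.Agent.H815.RankL3
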