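import Cfsg.Agent.H815.RankL4
import Cfsg.Agent.LieClassical.GUOrder
import Cfsg.Agent.LieClassical.SUBasic
import Cfsg.Agent.LieClassical.HermBasic
import Cfsg.Agent.GH.LowRankLie

/-!
# Sectional 2-rank of `L₄(q)` and `U₄(q)`: the instances  (helper815)

* `rank_psl_four` : `PSL₄(q)`, `q` odd, `q ≢ 1 (mod 8)`;
* `rank_psu_four` : `PSU₄(q)`, `q` odd, `q ≢ 7 (mod 8)`.
-/

set_option autoImplicit false

namespace Cfsg.Agent.H815.RankL4

open Matrix Cfsg Cfsg.Agent Subgroup Cfsg.Agent.GH.LowRankQ8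
open Cfsg.Agent.LieClassical.GUOrder (frob frob_apply mul_map_eq_one_iff)

variable {F : Type*} [Field F]

theorem sum_two_squares [Fintype F] (h2 : (2 : F) ≠ 0) (c : F) : ∃ p r : F, p ^ 2 + r ^ 2 = c := by
  have hodd : Fintype.card F % 2 = 1 := by
    rcases Nat.mod_two_eq_zero_or_one (Fintype.card F) with h | h
    · exfalso
      have h3 := (FiniteField.even_card_iff_char_two (F := F)).2 h
      have h4 : CharP F 2 := (ringChar.eq_iff (R := F)).1 h3
      exact h2 (by exact_mod_cast CharP.cast_eq_zero F 2)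
    · exact h
  obtain ⟨a, b, hab⟩ := FiniteField.exists_root_sum_quadratic (f := (Polynomial.X ^ 2 : Polynomial F))
    (g := (Polynomial.X ^ 2 - Polynomial.C c : Polynomial F)) (by simp)
    (by rw [Polynomial.degree_X_pow_sub_C (by norm_num)]; rfl) hodd
  simp at hab
  exact ⟨a, b, by linear_combination hab⟩

theorem det_jm : (jm F).det = 1 := by
  simp [jm, det_succ_row_zero, Fin.sum_univ_succ]
  rfl

theorem det_jm' : (jm' F).det = 1 := by
  simp [jm', det_succ_row_zero, Fin.sum_univ_succ]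

theorem det_xm {p r : F} (h : p ^ 2 + r ^ 2 = -1) : (xm p r).det = 1 := by
  simp [xm, det_succ_row_zero, Fin.sum_univ_succ]
  have e : (![0, 0, 0, 1] : Fin 4 → F) (Fin.succAbove 1 2) = 1 := rfl
  rw [e]
  linear_combination -h

theorem det_xm' {p r : F} (h : p ^ 2 + r ^ 2 = -1) : (xm' p r).det = 1 := by
  simp [xm', det_succ_row_zero, Fin.sum_univ_succ]
  linear_combination -h

/-- **`PSL₄(q)`, `q` odd, `q ≢ 1 (mod 8)`.** -/
theorem rank_psl_four [Fintype F] (hF : Odd (Fintype.card F)) (h8 : Fintype.card F % 8 ≠ 1) :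
    SectionalPRankLE 2 4 (ProjectiveSpecialLinearGroup (Fin 4) F) := by
  have h2 : (2 : F) ≠ 0 := GH.LowRankLie.two_ne_zero_of_odd hF
  obtain ⟨p, r, hpr⟩ := sum_two_squares h2 (-1 : F)
  refine rank_four (MonoidHom.id (SpecialLinearGroup (Fin 4) F)) Function.injective_id h2 ?_ hpr
    (x₁ := ⟨jm F, det_jm⟩) (y₁ := ⟨xm p r, det_xm hpr⟩) (x₂ := ⟨jm' F, det_jm'⟩) (y₂ := ⟨xm' p r, det_xm' hpr⟩)
    rfl rfl rfl rfl (N := Fintype.card F - 1) ?_ ?_
  · intro z hz
    obtain ⟨c, -, hc⟩ := Matrix.SpecialLinearGroup.mem_center_iff.1 hz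
    exact ⟨c, by rw [MonoidHom.id_apply, ← hc]; rfl⟩
  · intro h
    have := Fintype.one_lt_card (α := F)
    omega
  · intro g a d hg
    have hdet : a * a * d * d = 1 := by
      have h3 : ((MonoidHom.id _) g : SpecialLinearGroup (Fin 4) F).1.det = 1 := g.2
      rw [hg, det_diagonal, Fin.prod_univ_four] at h3
      exact h3
    have ha0 : a ≠ 0 := by
      rintro rfl
      rw [zero_mul, zero_mul, zero_mul] at hdet
      exact zero_ne_one hdet
    have hd0 : d ≠ 0 := by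
      rintro rfl
      rw [mul_zero] at hdet
      exact zero_ne_one hdet
    exact ⟨FiniteField.pow_card_sub_one_eq_one a ha0, FiniteField.pow_card_sub_one_eq_one d hd0⟩

/-! ### The unitary groups -/

section Unitary

variable [Fintype F] {q : ℕ}

theorem mem_SU_iff' (hF : Fintype.card F = q ^ 2) (M : SpecialLinearGroup (Fin 4) F) :
    M ∈ SU 4 F q ↔ M.1ᵀ * M.1.map (frob hF) = 1 :=
  (LieClassical.SUBasic.mem_SU_iff M).trans (mul_map_eq_one_iff hF M.1)

/-- `p, r` with `p^q = -p`, `r^q = -r`, `p² + r² = -1` -/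
theorem exists_skew (hF : Fintype.card F = q ^ 2) (hq : Odd q) :
    ∃ p r : F, p ^ q = -p ∧ r ^ q = -r ∧ p ^ 2 + r ^ 2 = -1 := by
  classical
  have h2 : (2 : F) ≠ 0 := GH.LowRankLie.two_ne_zero_of_odd (by rw [hF]; exact hq.pow)
  obtain ⟨x, hx⟩ := LieClassical.HermBasic.exists_not_fixed hF
  set φ := frob hF with hφ
  have hφa : ∀ y : F, φ y = y ^ q := fun y => rfl
  have hφφ : ∀ y : F, φ (φ y) = y := by
    intro y
    rw [hφa, hφa, ← pow_mul, ← pow_two, ← hF, FiniteField.pow_card]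
  -- a skew element
  set e := x - φ x with he
  have he0 : e ≠ 0 := fun h => hx (sub_eq_zero.1 h).symm
  have hee : φ e = -e := by rw [he, map_sub, hφφ]; ring
  let L : Subfield F := RingHom.eqLocusField (φ : F →+* F) (RingHom.id F)
  have hL : ∀ y : F, y ∈ L ↔ φ y = y := fun y => Iff.rfl
  have hc : -(e ^ 2)⁻¹ ∈ L := by
    rw [hL, map_neg, map_inv₀, map_pow, hee, neg_sq]
  have h2L : (2 : L) ≠ 0 := by
    intro h
    apply h2
    have h3 : L.subtype 2 = 2 := map_ofNat L.subtype 2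
    rw [← h3, h, map_zero]
  obtain ⟨a, b, hab⟩ := sum_two_squares h2L (⟨_, hc⟩ : L)
  have hab' : (a : F) ^ 2 + (b : F) ^ 2 = -(e ^ 2)⁻¹ := congrArg Subtype.val hab
  refine ⟨e * a, e * b, ?_, ?_, ?_⟩
  · rw [← hφa, map_mul, hee, (hL a).1 a.2]; ring
  · rw [← hφa, map_mul, hee, (hL b).1 b.2]; ring
  · have : (e * (a : F)) ^ 2 + (e * b) ^ 2 = e ^ 2 * ((a : F) ^ 2 + (b : F) ^ 2) := by ring
    rw [this, hab', mul_neg, mul_inv_cancel₀ (pow_ne_zero _ he0)]

theorem jm_mem (hF : Fintype.card F = q ^ 2) : (⟨jm F, det_jm⟩ : SpecialLinearGroup (Fin 4) F) ∈ SU 4 F q := by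
  refine (mem_SU_iff' hF _).2 ?_
  ext i j
  fin_cases i <;> fin_cases j <;> simp [jm, mul_apply, Fin.sum_univ_four]

theorem jm'_mem (hF : Fintype.card F = q ^ 2) : (⟨jm' F, det_jm'⟩ : SpecialLinearGroup (Fin 4) F) ∈ SU 4 F q := by
  refine (mem_SU_iff' hF _).2 ?_
  ext i j
  fin_cases i <;> fin_cases j <;> simp [jm', mul_apply, Fin.sum_univ_four]

theorem xm_mem (hF : Fintype.card F = q ^ 2) {p r : F} (hp : p ^ q = -p) (hr : r ^ q = -r) (h : p ^ 2 + r ^ 2 = -1) :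
    (⟨xm p r, det_xm h⟩ : SpecialLinearGroup (Fin 4) F) ∈ SU 4 F q := by
  refine (mem_SU_iff' hF _).2 ?_
  have hp' : frob hF p = -p := hp
  have hr' : frob hF r = -r := hr
  have h1 : -(p * p) + -(r * r) = 1 := by linear_combination -h
  have h2 : -(r * r) + -(p * p) = 1 := by linear_combination -h
  ext i j
  fin_cases i <;> fin_cases j <;> simp [xm, mul_apply, Fin.sum_univ_four, hp', hr', h1, h2] <;> ring

theorem xm'_mem (hF : Fintype.card F = q ^ 2) {p r : F} (hp : p ^ q = -p) (hr : r ^ q = -r) (h : p ^ 2 + r ^ 2 = -1) :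
    (⟨xm' p r, det_xm' h⟩ : SpecialLinearGroup (Fin 4) F) ∈ SU 4 F q := by
  refine (mem_SU_iff' hF _).2 ?_
  have hp' : frob hF p = -p := hp
  have hr' : frob hF r = -r := hr
  have h1 : -(p * p) + -(r * r) = 1 := by linear_combination -h
  have h2 : -(r * r) + -(p * p) = 1 := by linear_combination -h
  ext i j
  fin_cases i <;> fin_cases j <;> simp [xm', mul_apply, Fin.sum_univ_four, hp', hr', h1, h2] <;> ring

/-- **`PSU₄(q)`, `q` odd, `q ≢ 7 (mod 8)`.** -/
theorem rank_psu_four (hF : Fintype.card F = q ^ 2) (hq : Odd q) (h8 : q % 8 ≠ 7) :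
    SectionalPRankLE 2 4 (PSU 4 F q) := by
  have h2 : (2 : F) ≠ 0 := GH.LowRankLie.two_ne_zero_of_odd (by rw [hF]; exact hq.pow)
  obtain ⟨p, r, hp, hr, hpr⟩ := exists_skew hF hq
  refine rank_four (SU 4 F q).subtype Subtype.coe_injective h2 ?_ hpr
    (x₁ := ⟨⟨jm F, det_jm⟩, jm_mem hF⟩) (y₁ := ⟨⟨xm p r, det_xm hpr⟩, xm_mem hF hp hr hpr⟩)
    (x₂ := ⟨⟨jm' F, det_jm'⟩, jm'_mem hF⟩) (y₂ := ⟨⟨xm' p r, det_xm' hpr⟩, xm'_mem hF hp hr hpr⟩)
    rfl rfl rfl rfl (N := q + 1) ?_ ?_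
  · intro z hz
    obtain ⟨c, hcn, hcq, hc⟩ := (LieClassical.SUBasic.mem_center_SU_iff hF (by norm_num) z).1 hz
    exact ⟨c, by rw [hc]; rfl⟩
  · intro h
    omega
  · intro g a d hg
    have h1 := (mem_SU_iff' hF g.1).1 g.2
    change (((SU 4 F q).subtype g).1)ᵀ * (((SU 4 F q).subtype g).1).map (frob hF) = 1 at h1
    rw [hg, diagonal_transpose, diagonal_map (map_zero _), diagonal_mul_diagonal, ← diagonal_one] at h1
    have h3 := congrFun (diagonal_injective h1) 0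
    have h4 := congrFun (diagonal_injective h1) 2
    refine ⟨?_, ?_⟩
    · rw [pow_succ']; exact h3
    · rw [pow_succ']; exact h4

end Unitary

end Cfsg.Agent.H815.RankL4
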