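import Cfsg.Agent.ClassicalGeometry.GUBasic
import Cfsg.Agent.ClassicalGeometry.PSUAutBasic
import Cfsg.Agent.S0242
import Cfsg.Agent.S0243
import Cfsg.Agent.S0278
import Cfsg.Agent.S0280

/-!
# The element `diag(1, 1, 1, ω, ω, ω)` of `L_6(q)` and `U_6(q)` (helper815)

* `exists_psl` : `q = 1 mod 3`: an element `z` of order three of `PSL_6(q)` with
  `gcd(6, q - 1) |C(z)| = (q - 1) |SL_3(q)|^2`;
* `exists_psu` : `q = 2 mod 3`: an element `z` of order three of `PSU_6(q)` with
  `gcd(6, q + 1) |C(z)| = (q + 1) |SU_3(q)|^2`.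
-/

set_option autoImplicit false

namespace Cfsg.Agent.H815.SixCentral

open Matrix Cfsg

/-! ### general -/

/-- centralizers modulo the center -/
theorem card_cent_mk {Γ : Type*} [Group Γ] [Finite Γ] (z : Γ)
    (h : ∀ g : Γ, g * z * g⁻¹ * z⁻¹ ∈ Subgroup.center Γ → g * z = z * g) :
    Nat.card (Subgroup.center Γ) *
      Nat.card (Subgroup.centralizer ({(QuotientGroup.mk z : Γ ⧸ Subgroup.center Γ)} : Set (Γ ⧸ Subgroup.center Γ))) =
    Nat.card (Subgroup.centralizer ({z} : Set Γ)) := by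
  set C := Subgroup.centralizer ({(QuotientGroup.mk z : Γ ⧸ Subgroup.center Γ)} : Set (Γ ⧸ Subgroup.center Γ)) with hC
  have h1 : C.comap (QuotientGroup.mk' (Subgroup.center Γ)) = Subgroup.centralizer ({z} : Set Γ) := by
    ext g
    rw [Subgroup.mem_comap, hC, Subgroup.mem_centralizer_singleton_iff, Subgroup.mem_centralizer_singleton_iff]
    constructor
    · intro hg
      refine h g ?_
      rw [← QuotientGroup.eq_one_iff]
      have h2 : (QuotientGroup.mk g : Γ ⧸ Subgroup.center Γ) * QuotientGroup.mk z =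
        QuotientGroup.mk z * QuotientGroup.mk g := hg
      rw [QuotientGroup.mk_mul, QuotientGroup.mk_mul, QuotientGroup.mk_mul, h2, QuotientGroup.mk_inv,
        QuotientGroup.mk_inv]
      group
    · intro hg
      change (QuotientGroup.mk g : Γ ⧸ Subgroup.center Γ) * QuotientGroup.mk z =
        QuotientGroup.mk z * QuotientGroup.mk g
      rw [← QuotientGroup.mk_mul, hg, QuotientGroup.mk_mul]
  have h2 := Subgroup.index_comap_of_surjective C (QuotientGroup.mk'_surjective (Subgroup.center Γ))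
  have h3 := Subgroup.card_mul_index C
  have h4 := Subgroup.card_mul_index (Subgroup.centralizer ({z} : Set Γ))
  have h5 := Subgroup.card_eq_card_quotient_mul_card_subgroup (Subgroup.center Γ)
  rw [h1] at h2
  rw [h2, h5, ← h3] at h4
  have h6 : 0 < C.index := Nat.pos_of_ne_zero Subgroup.index_ne_zero_of_finite
  apply Nat.eq_of_mul_eq_mul_right h6
  rw [h4]
  ring

/-- pairs with opposite values -/
theorem card_pairs {U D : Type*} [Group U] [Finite U] [CommGroup D] (d : U →* D) (hd : Function.Surjective d) :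
    Nat.card {p : U × U // d p.1 * d p.2 = 1} = Nat.card D * Nat.card d.ker ^ 2 := by
  have h1 : Nat.card {p : U × U // d p.1 * d p.2 = 1} = Nat.card (U × d.ker) := by
    apply Nat.card_congr
    exact
      { toFun := fun p => (p.1.1, ⟨p.1.2 * p.1.1, by rw [MonoidHom.mem_ker, map_mul, mul_comm]; exact p.2⟩)
        invFun := fun p => ⟨(p.1, p.2.1 * p.1⁻¹), by
          have h := p.2.2
          rw [MonoidHom.mem_ker] at h
          rw [map_mul, h, one_mul, map_inv, mul_inv_cancel]⟩
        left_inv := fun p => by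
          apply Subtype.ext
          simp
        right_inv := fun p => by
          ext <;> simp }
  have h2 : Nat.card U = Nat.card D * Nat.card d.ker := by
    have e := Nat.card_congr (QuotientGroup.quotientKerEquivOfSurjective d hd).toEquiv
    rw [← e]
    exact Subgroup.card_eq_card_quotient_mul_card_subgroup _
  rw [h1, Nat.card_prod, h2]
  ring

/-! ### block matrices -/

section Blk

variable {F : Type*} [Field F]

/-- the indices -/
def e6 : Fin 3 ⊕ Fin 3 ≃ Fin 6 := finSumFinEquiv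

/-- block diagonal matrices -/
def blk (A B : Matrix (Fin 3) (Fin 3) F) : Matrix (Fin 6) (Fin 6) F :=
  Matrix.reindexAlgEquiv F F e6 (fromBlocks A 0 0 B)

theorem blk_mul (A B A' B' : Matrix (Fin 3) (Fin 3) F) : blk A B * blk A' B' = blk (A * A') (B * B') := by
  rw [blk, blk, ← map_mul, fromBlocks_multiply]
  simp [blk]

theorem blk_one : blk (1 : Matrix (Fin 3) (Fin 3) F) 1 = 1 := by
  rw [blk, fromBlocks_one, map_one]

theorem blk_smul (c : F) (A B : Matrix (Fin 3) (Fin 3) F) : c • blk A B = blk (c • A) (c • B) := by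
  rw [blk, ← map_smul, fromBlocks_smul]
  simp [blk]

theorem blk_sub (A B A' B' : Matrix (Fin 3) (Fin 3) F) : blk A B - blk A' B' = blk (A - A') (B - B') := by
  rw [blk, blk, ← map_sub, blk]
  congr 1
  ext i j
  rcases i with i | i <;> rcases j with j | j <;> simp

theorem blk_zero : blk (0 : Matrix (Fin 3) (Fin 3) F) 0 = 0 := by
  rw [blk, fromBlocks_zero, map_zero]

theorem blk_det (A B : Matrix (Fin 3) (Fin 3) F) : (blk A B).det = A.det * B.det := by
  rw [blk, det_reindexAlgEquiv, det_fromBlocks_zero₂₁]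

theorem blk_inj {A B A' B' : Matrix (Fin 3) (Fin 3) F} (h : blk A B = blk A' B') : A = A' ∧ B = B' := by
  have h1 := (Matrix.reindexAlgEquiv F F e6).injective h
  rw [fromBlocks_inj] at h1
  exact ⟨h1.1, h1.2.2.2⟩

theorem exists_blk {w : F} (hw : w ≠ 1) {M : Matrix (Fin 6) (Fin 6) F} (h : M * blk 1 (w • 1) = blk 1 (w • 1) * M) :
    ∃ A B, M = blk A B := by
  obtain ⟨N, rfl⟩ := (Matrix.reindexAlgEquiv F F e6).surjective M
  rw [blk, ← map_mul, ← map_mul] at h
  have h1 := (Matrix.reindexAlgEquiv F F e6).injective h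
  rw [← fromBlocks_toBlocks N, fromBlocks_multiply, fromBlocks_multiply, fromBlocks_inj] at h1
  refine ⟨N.toBlocks₁₁, N.toBlocks₂₂, ?_⟩
  rw [blk]
  congr 1
  obtain ⟨-, h2, h3, -⟩ := h1
  simp only [mul_zero, zero_mul, smul_mul, zero_add, add_zero, mul_one, one_mul] at h2 h3
  have h4 : N.toBlocks₁₂ = 0 := by
    rw [Matrix.mul_smul, mul_one] at h2
    have h5 : (w - 1) • N.toBlocks₁₂ = 0 := by rw [sub_smul, one_smul, h2, sub_self]
    exact (smul_eq_zero.1 h5).resolve_left (sub_ne_zero.2 hw)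
  have h5 : N.toBlocks₂₁ = 0 := by
    have h5 : (w - 1) • N.toBlocks₂₁ = 0 := by rw [sub_smul, one_smul, ← h3, sub_self]
    exact (smul_eq_zero.1 h5).resolve_left (sub_ne_zero.2 hw)
  conv_lhs => rw [← fromBlocks_toBlocks N, h4, h5]

end Blk

/-! ### the element -/

/-- the data -/
structure Ctx {F : Type*} [Field F] {Γ U D : Type*} [Group Γ] [Group U] [CommGroup D]
    (ι : Γ →* Matrix (Fin 6) (Fin 6) F) (m : U →* Matrix (Fin 3) (Fin 3) F) (d : U →* D) : Prop where
  inj : Function.Injective ι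
  minj : Function.Injective m
  dsurj : Function.Surjective d
  mkb : ∀ A B : U, d A * d B = 1 → ∃ g, ι g = blk (m A) (m B)
  ex : ∀ g A B, ι g = blk A B → ∃ A' B' : U, m A' = A ∧ m B' = B ∧ d A' * d B' = 1
  cen : ∀ g ∈ Subgroup.center Γ, ∃ c : F, ι g = c • 1
  sc : ∀ c : F, c ^ 3 = 1 → ∃ u : U, m u = c • 1 ∧ d u = 1

theorem Ctx.exists_elt {F : Type*} [Field F] {Γ U D : Type*} [Group Γ] [Group U] [CommGroup D] [Finite Γ] [Finite U]
    {ι : Γ →* Matrix (Fin 6) (Fin 6) F} {m : U →* Matrix (Fin 3) (Fin 3) F} {d : U →* D} (X : Ctx ι m d)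
    {w : F} (hw3 : w ^ 3 = 1) (hw : w ≠ 1) :
    ∃ z : Γ ⧸ Subgroup.center Γ, orderOf z = 3 ∧
      Nat.card (Subgroup.center Γ) * Nat.card (Subgroup.centralizer ({z} : Set (Γ ⧸ Subgroup.center Γ))) =
        Nat.card D * Nat.card d.ker ^ 2 := by
  classical
  obtain ⟨u, hu, hu1⟩ := X.sc w hw3
  obtain ⟨z, hz⟩ := X.mkb 1 u (by rw [map_one, hu1, mul_one])
  rw [map_one, hu] at hz
  -- no scalar multiples
  have hns : ∀ c : F, blk (1 : Matrix (Fin 3) (Fin 3) F) (w • 1) ≠ c • 1 := by
    intro c h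
    rw [← blk_one, blk_smul] at h
    obtain ⟨h1, h2⟩ := blk_inj h
    have h3 := congrFun (congrFun h1 0) 0
    have h4 := congrFun (congrFun h2 0) 0
    simp only [Matrix.one_apply_eq, Matrix.smul_apply, smul_eq_mul, mul_one] at h3 h4
    exact hw (h4.trans h3.symm)
  have hcom : ∀ g : Γ, g * z * g⁻¹ * z⁻¹ ∈ Subgroup.center Γ → g * z = z * g := by
    intro g hg
    obtain ⟨c, hc⟩ := X.cen _ hg
    -- `g z = c z g`
    have h1 : ι g * ι z = c • (ι z * ι g) := by
      rw [← map_mul, ← map_mul]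
      have h2 : g * z = (g * z * g⁻¹ * z⁻¹) * (z * g) := by group
      rw [h2, map_mul, hc, smul_mul, one_mul]
    -- the eigenvalues
    have h3 : (ι z - 1) * (ι z - w • 1) = 0 := by
      rw [hz, ← blk_one, blk_smul, blk_sub, blk_sub, blk_mul]
      simp only [sub_self, zero_mul, mul_zero]
      exact blk_zero
    have h4 : (c • ι z - 1) * (c • ι z - w • 1) = 0 := by
      have h5 : ((c • ι z - 1) * (c • ι z - w • 1)) * ι g = 0 := by
        have e1 : (c • ι z - w • 1) * ι g = ι g * (ι z - w • 1) := by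
          rw [sub_mul, mul_sub, smul_mul, ← h1, smul_mul, one_mul, Matrix.mul_smul, mul_one]
        have e2 : (c • ι z - 1) * ι g = ι g * (ι z - 1) := by
          rw [sub_mul, mul_sub, smul_mul, ← h1, one_mul, mul_one]
        rw [mul_assoc, e1, ← mul_assoc, e2, mul_assoc, h3, mul_zero]
      have h6 : ι g * ι g⁻¹ = 1 := by rw [← map_mul, mul_inv_cancel, map_one]
      have h7 := congrArg (· * ι g⁻¹) h5
      simp only [zero_mul] at h7
      rwa [mul_assoc, h6, mul_one] at h7
    rw [hz, ← blk_one, blk_smul, blk_smul, blk_sub, blk_sub, blk_mul] at h4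
    have h5 : blk (0 : Matrix (Fin 3) (Fin 3) F) 0 = 0 := blk_zero
    rw [← h5] at h4
    obtain ⟨h6, h7⟩ := blk_inj h4
    have h8 := congrFun (congrFun h6 0) 0
    have h9 := congrFun (congrFun h7 0) 0
    have e : ∀ a b : F, ((a • (1 : Matrix (Fin 3) (Fin 3) F) - 1) * (a • 1 - b • 1)) = ((a - 1) * (a - b)) • 1 := by
      intro a b
      have e1 : (a • (1 : Matrix (Fin 3) (Fin 3) F) - 1) = (a - 1) • 1 := by rw [sub_smul, one_smul]
      rw [e1, ← sub_smul, smul_mul, Matrix.mul_smul, mul_one, smul_smul]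
    rw [e, Matrix.smul_apply, Matrix.one_apply_eq, Matrix.zero_apply, smul_eq_mul, mul_one] at h8
    rw [smul_smul, e, Matrix.smul_apply, Matrix.one_apply_eq, Matrix.zero_apply, smul_eq_mul, mul_one] at h9
    have hc1 : c = 1 := by
      rcases mul_eq_zero.1 h8 with h | h
      · exact sub_eq_zero.1 h
      · have hcw := sub_eq_zero.1 h
        rw [hcw] at h9
        exfalso
        have hw0 : w ≠ 0 := by
          rintro rfl
          simp at hw3
        rcases mul_eq_zero.1 h9 with h | h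
        · apply hw
          have h2 : w * w = 1 := sub_eq_zero.1 h
          calc w = w * (w * w) := by rw [h2, mul_one]
            _ = w ^ 3 := by ring
            _ = 1 := hw3
        · apply hw
          have h2 : w * w = w := sub_eq_zero.1 h
          exact mul_left_cancel₀ hw0 (h2.trans (mul_one w).symm)
    apply X.inj
    rw [map_mul, map_mul, h1, hc1, one_smul]
  have hzc : z ∉ Subgroup.center Γ := by
    intro h
    obtain ⟨c, hc⟩ := X.cen z h
    rw [hz] at hc
    exact hns c hc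
  refine ⟨QuotientGroup.mk z, ?_, ?_⟩
  · refine orderOf_eq_prime ?_ ?_
    · rw [← QuotientGroup.mk_pow]
      have h1 : z ^ 3 = 1 := by
        apply X.inj
        rw [map_pow, map_one, hz, pow_succ, pow_two, blk_mul, blk_mul, ← blk_one]
        congr 1
        · simp
        · have : w * (w * w) = 1 := by rw [← hw3]; ring
          simp only [smul_mul, one_mul, smul_smul, mul_assoc, this, one_smul]
      rw [h1, QuotientGroup.mk_one]
    · intro h
      exact hzc ((QuotientGroup.eq_one_iff z).1 h)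
  · rw [card_cent_mk z hcom, ← card_pairs d X.dsurj]
    symm
    -- the bijection
    have hf : ∀ p : {p : U × U // d p.1 * d p.2 = 1}, ∃ g : Subgroup.centralizer ({z} : Set Γ),
        ι g = blk (m p.1.1) (m p.1.2) := by
      intro p
      obtain ⟨g, hg⟩ := X.mkb p.1.1 p.1.2 p.2
      refine ⟨⟨g, ?_⟩, hg⟩
      rw [Subgroup.mem_centralizer_singleton_iff]
      apply X.inj
      rw [map_mul, map_mul, hz, hg, blk_mul, blk_mul, mul_one, one_mul, Matrix.mul_smul, mul_one, smul_mul, one_mul]
    choose f hf using hf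
    refine Nat.card_congr (Equiv.ofBijective f ⟨?_, ?_⟩)
    · intro p p' h
      have h1 := hf p
      rw [h, hf p'] at h1
      obtain ⟨h2, h3⟩ := blk_inj h1
      apply Subtype.ext
      exact Prod.ext (X.minj h2.symm) (X.minj h3.symm)
    · rintro ⟨g, hg⟩
      rw [Subgroup.mem_centralizer_singleton_iff] at hg
      have h1 : ι g * blk 1 (w • 1) = blk 1 (w • 1) * ι g := by rw [← hz, ← map_mul, ← map_mul, hg]
      obtain ⟨A, B, hAB⟩ := exists_blk hw h1
      obtain ⟨A', B', hA, hB, hd⟩ := X.ex g A B hAB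
      refine ⟨⟨(A', B'), hd⟩, ?_⟩
      apply Subtype.ext
      apply X.inj
      rw [hf, hA, hB, hAB]

/-! ### linear groups -/

section PSL

variable {F : Type*} [Field F] [Fintype F]

omit [Fintype F] in
theorem ctx_psl : Ctx (Γ := SpecialLinearGroup (Fin 6) F) (slToMat 6 F) (Units.coeHom (Matrix (Fin 3) (Fin 3) F))
    (GeneralLinearGroup.det (n := Fin 3) (R := F)) where
  inj := fun a b h => Subtype.ext h
  minj := fun a b h => Units.ext h
  dsurj := by
    intro c
    refine ⟨GeneralLinearGroup.mkOfDetNeZero (diagonal (fun i : Fin 3 => if i = 0 then (c : F) else 1)) ?_, ?_⟩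
    · rw [det_diagonal]
      simp
    · apply Units.ext
      change (diagonal (fun i : Fin 3 => if i = 0 then (c : F) else 1)).det = c
      rw [det_diagonal]
      simp
  mkb := by
    intro A B h
    refine ⟨⟨blk A.1 B.1, ?_⟩, rfl⟩
    rw [blk_det]
    exact congrArg Units.val h
  ex := by
    intro g A B h
    have h1 : A.det * B.det = 1 := by
      rw [← blk_det, ← h]
      exact g.2
    refine ⟨GeneralLinearGroup.mkOfDetNeZero A (left_ne_zero_of_mul_eq_one h1),
      GeneralLinearGroup.mkOfDetNeZero B (right_ne_zero_of_mul_eq_one h1), rfl, rfl, ?_⟩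
    apply Units.ext
    exact h1
  cen := by
    intro g hg
    obtain ⟨r, -, hr⟩ := Matrix.SpecialLinearGroup.mem_center_iff.1 hg
    refine ⟨r, ?_⟩
    change g.1 = _
    rw [← hr, scalar_apply, smul_one_eq_diagonal]
  sc := by
    intro c hc
    have h1 : (c • (1 : Matrix (Fin 3) (Fin 3) F)).det = 1 := by
      rw [det_smul, det_one, mul_one, Fintype.card_fin, hc]
    refine ⟨GeneralLinearGroup.mkOfDetNeZero (c • 1) (by rw [h1]; exact one_ne_zero), rfl, ?_⟩
    apply Units.ext
    exact h1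

end PSL

/-! ### unitary groups -/

section PSU

variable {F : Type*} [Field F] [Fintype F]

/-- the first block of a vector -/
def vl (v : Fin 6 → F) : Fin 3 → F := fun i => v (e6 (.inl i))

/-- the second block of a vector -/
def vr (v : Fin 6 → F) : Fin 3 → F := fun i => v (e6 (.inr i))

omit [Fintype F] in
theorem herm_split (q : ℕ) (u v : Fin 6 → F) :
    hermForm 6 F q u v = hermForm 3 F q (vl u) (vl v) + hermForm 3 F q (vr u) (vr v) := by
  unfold hermForm
  rw [← Equiv.sum_comp e6, Fintype.sum_sum_type]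
  rfl

omit [Fintype F] in
theorem blk_mulVec (A B : Matrix (Fin 3) (Fin 3) F) (v : Fin 6 → F) :
    vl (blk A B *ᵥ v) = A *ᵥ vl v ∧ vr (blk A B *ᵥ v) = B *ᵥ vr v := by
  have h : (blk A B *ᵥ v) ∘ e6 = fromBlocks A 0 0 B *ᵥ (v ∘ e6) := by
    funext i
    rw [blk]
    simp only [Function.comp, mulVec, dotProduct]
    rw [← Equiv.sum_comp e6]
    refine Finset.sum_congr rfl fun j _ => ?_
    simp
  rw [fromBlocks_mulVec] at h
  constructor
  · funext i
    have h1 := congrFun h (.inl i)
    simp only [Function.comp, Sum.elim_inl, zero_mulVec, add_zero] at h1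
    exact h1
  · funext i
    have h1 := congrFun h (.inr i)
    simp only [Function.comp, Sum.elim_inr, zero_mulVec, zero_add] at h1
    exact h1

/-- vectors in the two blocks -/
def mkv (a b : Fin 3 → F) : Fin 6 → F := fun i => Sum.elim a b (e6.symm i)

omit [Field F] [Fintype F] in
theorem vl_mkv (a b : Fin 3 → F) : vl (mkv a b) = a := by
  funext i
  simp [vl, mkv]

omit [Field F] [Fintype F] in
theorem vr_mkv (a b : Fin 3 → F) : vr (mkv a b) = b := by
  funext i
  simp [vr, mkv]

omit [Fintype F] in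
theorem hermForm_zero (q : ℕ) (v : Fin 3 → F) : hermForm 3 F q 0 v = 0 := by
  simp [hermForm]

open ClassicalGeometry.GUBasic

theorem ctx_psu {q : ℕ} (hF : Fintype.card F = q ^ 2) (h3 : 3 ∣ q + 1) :
    Ctx (Γ := SU 6 F q) ((slToMat 6 F).comp (SU 6 F q).subtype)
      ((Units.coeHom (Matrix (Fin 3) (Fin 3) F)).comp (GU 3 F q).subtype) (detHom 3 hF) where
  inj := fun a b h => Subtype.ext (Subtype.ext h)
  minj := fun a b h => Subtype.ext (Units.ext h)
  dsurj := detHom_surjective (by norm_num) hF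
  mkb := by
    intro A B h
    have hd : (blk A.1.1 B.1.1).det = 1 := by
      rw [blk_det]
      exact congrArg (fun x : rootsOfUnity (q + 1) F => ((x : Fˣ) : F)) h
    refine ⟨⟨⟨blk A.1.1 B.1.1, hd⟩, ?_⟩, rfl⟩
    intro u v
    change hermForm 6 F q (blk A.1.1 B.1.1 *ᵥ u) (blk A.1.1 B.1.1 *ᵥ v) = _
    rw [herm_split, herm_split, (blk_mulVec _ _ _).1, (blk_mulVec _ _ _).1, (blk_mulVec _ _ _).2, (blk_mulVec _ _ _).2]
    exact congrArg₂ (· + ·) (A.2 _ _) (B.2 _ _)
  ex := by
    intro g A B h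
    have h1 : A.det * B.det = 1 := by
      rw [← blk_det, ← h]
      exact g.1.2
    have hg : ∀ u v, hermForm 6 F q (blk A B *ᵥ u) (blk A B *ᵥ v) = hermForm 6 F q u v := by
      rw [← h]
      exact g.2
    have hA : ∀ u v, hermForm 3 F q (A *ᵥ u) (A *ᵥ v) = hermForm 3 F q u v := by
      intro u v
      have h2 := hg (mkv u 0) (mkv v 0)
      rw [herm_split, herm_split, (blk_mulVec _ _ _).1, (blk_mulVec _ _ _).1, (blk_mulVec _ _ _).2,
        (blk_mulVec _ _ _).2, vl_mkv, vl_mkv, vr_mkv, vr_mkv, mulVec_zero, hermForm_zero, add_zero, add_zero] at h2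
      exact h2
    have hB : ∀ u v, hermForm 3 F q (B *ᵥ u) (B *ᵥ v) = hermForm 3 F q u v := by
      intro u v
      have h2 := hg (mkv 0 u) (mkv 0 v)
      rw [herm_split, herm_split, (blk_mulVec _ _ _).1, (blk_mulVec _ _ _).1, (blk_mulVec _ _ _).2,
        (blk_mulVec _ _ _).2, vl_mkv, vl_mkv, vr_mkv, vr_mkv, mulVec_zero, hermForm_zero, zero_add, zero_add] at h2
      exact h2
    refine ⟨⟨GeneralLinearGroup.mkOfDetNeZero A (left_ne_zero_of_mul_eq_one h1), hA⟩,
      ⟨GeneralLinearGroup.mkOfDetNeZero B (right_ne_zero_of_mul_eq_one h1), hB⟩, rfl, rfl, ?_⟩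
    apply Subtype.ext
    apply Units.ext
    exact h1
  cen := by
    intro g hg
    obtain ⟨c, -, -, hc⟩ := ClassicalGeometry.PSUAutBasic.exists_scalar_of_mem_center hF (by norm_num) hg
    refine ⟨c, ?_⟩
    apply Matrix.ext_of_mulVec_single
    intro i
    rw [smul_mulVec, one_mulVec]
    exact hc _
  sc := by
    intro c hc
    have h1 : (c • (1 : Matrix (Fin 3) (Fin 3) F)).det = 1 := by
      rw [det_smul, det_one, mul_one, Fintype.card_fin, hc]
    have h2 : c ^ (q + 1) = 1 := by
      obtain ⟨k, hk⟩ := h3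
      rw [hk, pow_mul, hc, one_pow]
    refine ⟨guDiag q (fun _ => c) (fun _ => h2), ?_, ?_⟩
    · change diagonal (fun _ => c) = _
      rw [smul_one_eq_diagonal]
    · apply Subtype.ext
      apply Units.ext
      rw [detHom_guDiag]
      simp [hc]

end PSU

/-! ### the orders -/

section Final

variable {F : Type*} [Field F] [Fintype F]

theorem exists_cube_root (h : 3 ∣ Fintype.card F - 1) : ∃ w : F, w ^ 3 = 1 ∧ w ≠ 1 := by
  classical
  have : Fact (Nat.Prime 3) := ⟨Nat.prime_three⟩
  obtain ⟨w, hw⟩ := exists_prime_orderOf_dvd_card' (G := Fˣ) 3 (by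
    rw [Nat.card_eq_fintype_card, Fintype.card_units]; exact h)
  refine ⟨w, ?_, ?_⟩
  · rw [← Units.val_pow_eq_pow_val, ← hw, pow_orderOf_eq_one, Units.val_one]
  · intro h1
    have h2 : w = 1 := Units.ext h1
    rw [h2, orderOf_one] at hw
    omega

omit [Fintype F] in
theorem card_ker_det : Nat.card (GeneralLinearGroup.det (n := Fin 3) (R := F)).ker =
    Nat.card (SpecialLinearGroup (Fin 3) F) := by
  apply Nat.card_congr
  exact
    { toFun := fun A => ⟨A.1.1, congrArg Units.val A.2⟩
      invFun := fun A => ⟨A, by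
        rw [MonoidHom.mem_ker]
        apply Units.ext
        exact A.2⟩
      left_inv := fun A => by
        apply Subtype.ext
        apply Units.ext
        rfl
      right_inv := fun A => rfl }

theorem card_ker_detHom {q : ℕ} (hF : Fintype.card F = q ^ 2) :
    Nat.card (ClassicalGeometry.GUBasic.detHom 3 hF).ker = Nat.card (SU 3 F q) := by
  apply Nat.card_congr
  exact
    { toFun := fun A => ⟨⟨A.1.1.1, congrArg (fun x : rootsOfUnity (q + 1) F => ((x : Fˣ) : F)) A.2⟩, A.1.2⟩
      invFun := fun A => ⟨⟨(A.1 : GeneralLinearGroup (Fin 3) F), A.2⟩, by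
        rw [MonoidHom.mem_ker]
        apply Subtype.ext
        apply Units.ext
        exact A.1.2⟩
      left_inv := fun A => by
        apply Subtype.ext
        apply Subtype.ext
        apply Units.ext
        rfl
      right_inv := fun A => rfl }

/-- **The element `diag(1, 1, 1, ω, ω, ω)` of `PSL_6(q)`.** -/
theorem exists_psl {q : ℕ} (hF : Fintype.card F = q) (h3 : 3 ∣ q - 1) :
    ∃ z : ProjectiveSpecialLinearGroup (Fin 6) F, orderOf z = 3 ∧
      Nat.gcd 6 (q - 1) *
        Nat.card (Subgroup.centralizer ({z} : Set (ProjectiveSpecialLinearGroup (Fin 6) F))) =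
      (q - 1) * (q ^ 3 * (q ^ 2 - 1) * (q ^ 3 - 1)) ^ 2 := by
  have hq : 2 ≤ q := by
    rw [← hF]
    exact Fintype.one_lt_card
  obtain ⟨w, hw3, hw⟩ := exists_cube_root (F := F) (by rw [hF]; exact h3)
  obtain ⟨z, hz, hc⟩ := (ctx_psl (F := F)).exists_elt hw3 hw
  refine ⟨z, hz, ?_⟩
  have h1 := S0242.result hF 6 (by norm_num)
  have h2 := S0243.result hF 6 (by norm_num)
  have h3 := Subgroup.card_eq_card_quotient_mul_card_subgroup (Subgroup.center (SpecialLinearGroup (Fin 6) F))
  have h4 : Nat.card (Subgroup.center (SpecialLinearGroup (Fin 6) F)) = Nat.gcd 6 (q - 1) := by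
    have hp : 0 < (q - 1) * Nat.card (ProjectiveSpecialLinearGroup (Fin 6) F) :=
      Nat.mul_pos (by omega) Nat.card_pos
    apply Nat.eq_of_mul_eq_mul_right hp
    rw [h2, ← h1, h3]
    ring
  have h5 : Nat.card (SpecialLinearGroup (Fin 3) F) = q ^ 3 * (q ^ 2 - 1) * (q ^ 3 - 1) := by
    have h6 := S0242.result hF 3 (by norm_num)
    simp only [Fin.prod_univ_three, Fin.val_zero, Fin.val_one, Fin.val_two, pow_zero, pow_one] at h6
    apply Nat.eq_of_mul_eq_mul_left (show 0 < q - 1 by omega)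
    rw [h6]
    obtain ⟨r, rfl⟩ : ∃ r, q = r + 1 := ⟨q - 1, by omega⟩
    have e1 : (r + 1) ^ 3 - (r + 1) = (r + 1) * ((r + 1) ^ 2 - 1) := by
      rw [Nat.mul_sub, mul_one]
      ring_nf
    have e2 : (r + 1) ^ 3 - (r + 1) ^ 2 = (r + 1) ^ 2 * (r + 1 - 1) := by
      rw [Nat.mul_sub, mul_one]
      ring_nf
    rw [e1, e2]
    ring
  classical
  rw [← h4, hc, card_ker_det, h5, Nat.card_eq_fintype_card, Fintype.card_units, hF]

/-- **The element `diag(1, 1, 1, ω, ω, ω)` of `PSU_6(q)`.** -/
theorem exists_psu {q : ℕ} (hF : Fintype.card F = q ^ 2) (h3 : 3 ∣ q + 1) :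
    ∃ z : PSU 6 F q, orderOf z = 3 ∧
      Nat.gcd 6 (q + 1) * Nat.card (Subgroup.centralizer ({z} : Set (PSU 6 F q))) =
      (q + 1) * (q ^ 3 * (q ^ 2 - 1) * (q ^ 3 + 1)) ^ 2 := by
  have hq := ClassicalGeometry.GUBasic.two_le hF
  have hq2 : q ^ 2 - 1 = (q + 1) * (q - 1) := by
    have := Nat.sq_sub_sq q 1
    simpa using this
  obtain ⟨w, hw3, hw⟩ := exists_cube_root (F := F) (by rw [hF, hq2]; exact h3.mul_right _)
  obtain ⟨z, hz, hc⟩ := (ctx_psu hF h3).exists_elt hw3 hw
  refine ⟨z, hz, ?_⟩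
  have h1 := S0278.result hF 6 (by norm_num)
  have h2 := S0280.result hF 6 (by norm_num)
  have h3 := Subgroup.card_eq_card_quotient_mul_card_subgroup (Subgroup.center (SU 6 F q))
  have h4 : Nat.card (Subgroup.center (SU 6 F q)) = Nat.gcd 6 (q + 1) := by
    have hp : 0 < (q + 1) * Nat.card (PSU 6 F q) := Nat.mul_pos (by omega) Nat.card_pos
    apply Nat.eq_of_mul_eq_mul_right hp
    rw [h2, ← h1, h3]
    ring
  have h5 : Nat.card (SU 3 F q) = q ^ 3 * (q ^ 2 - 1) * (q ^ 3 + 1) := by
    have h6 := S0278.result hF 3 (by norm_num)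
    simp [Finset.prod_range_succ, Nat.even_iff] at h6
    apply Nat.eq_of_mul_eq_mul_left (show 0 < q + 1 by omega)
    rw [h6]
    ring
  rw [← h4, hc, card_ker_detHom, h5, ClassicalGeometry.GUBasic.card_rootsOfUnity_eq hF]

end Final

end Cfsg.Agent.H815.SixCentral
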