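import Cfsg.Agent.H904.McLCent

/-!
# `McL`, `Co₂`, `Co₃` have elements of order 9 (helper815, for helper385, S3666)
-/

set_option autoImplicit false

namespace Cfsg.Agent.H815.SpMcL

open Cfsg Cfsg.Agent.SporadicA.PermTab Cfsg.Agent.McLType.X275 Cfsg.Agent.McLType.Gens Cfsg.Agent.H904.McLCent
open Equiv

universe u

/-- a word of order 9 -/
def wL : List ℕ := [e_a, e_w, e_g, e_x, e_g]

theorem wL_nine : allB (fun i => Nat.beq ((ev wL)^[9] i) i) 275 = true := by decide +kernel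

theorem wL_three : ¬ ((ev wL)^[3] 0 = 0 ∧ (ev wL)^[3] 1 = 1 ∧ (ev wL)^[3] 2 = 2) := by decide +kernel

theorem mcl_nine {X : Type*} [Group X] (h : Cfsg.Spor.IsoMcL X) : ∃ x : X, orderOf x = 9 := by
  obtain ⟨θ, R⟩ := exists_rep h
  obtain ⟨q, hq, hqi⟩ := exists_ev wL (fun P hP => inAll P (by
    simp only [wL, List.mem_cons, List.not_mem_nil, or_false] at hP
    simp only [e7, List.mem_cons, List.not_mem_nil, or_false]
    tauto))
  rw [← R.range] at hq
  obtain ⟨l, rfl⟩ := hq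
  have hpow : ∀ (k : ℕ) (i : Fin 275), (((θ l ^ k) i : Fin 275) : ℕ) = (ev wL)^[k] i := by
    intro k
    induction k with
    | zero => intro i; rfl
    | succ k ih =>
      intro i
      rw [pow_succ, Perm.mul_apply, ih, hqi, Function.iterate_succ_apply]
  refine ⟨l, ?_⟩
  have h9 : l ^ 9 = 1 := by
    apply R.inj
    rw [map_pow, map_one]
    refine Equiv.ext fun i => Fin.ext ?_
    rw [hpow, Perm.one_apply]
    exact Nat.eq_of_beq_eq_true ((allB_iff _ _).1 wL_nine i i.2)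
  have h3 : l ^ 3 ≠ 1 := by
    intro h3
    apply wL_three
    have h4 : ∀ i : Fin 275, (ev wL)^[3] i = i := by
      intro i
      rw [← hpow, ← map_pow, h3, map_one, Perm.one_apply]
    exact ⟨h4 0, h4 1, h4 2⟩
  have := orderOf_eq_prime_pow (p := 3) (n := 1) (hp := ⟨Nat.prime_three⟩) (x := l) (by rw [pow_one]; exact h3)
    (by norm_num; exact h9)
  simpa using this

/-- in the model -/
theorem exists_nine : ∃ x : Spor.McL, orderOf x = 9 := mcl_nine ⟨MulEquiv.refl _⟩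

theorem mcl_le_co3 : (Spor.McL : Subgroup (Equiv.Perm leechLattice)) ≤ Spor.Co3 := fun _ hg => hg.1

theorem mcl_le_co2 : (Spor.McL : Subgroup (Equiv.Perm leechLattice)) ≤ Spor.Co2 := fun _ hg => ⟨hg.1.1, hg.2⟩

theorem co3_nine {X : Type*} [Group X] (h : Cfsg.Spor.IsoCo3 X) : ∃ x : X, orderOf x = 9 := by
  obtain ⟨e⟩ := h
  obtain ⟨x, hx⟩ := exists_nine
  refine ⟨e.symm (Subgroup.inclusion mcl_le_co3 x), ?_⟩
  rw [MulEquiv.orderOf_eq, orderOf_injective _ (Subgroup.inclusion_injective _), hx]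

theorem co2_nine {X : Type*} [Group X] (h : Cfsg.Spor.IsoCo2 X) : ∃ x : X, orderOf x = 9 := by
  obtain ⟨e⟩ := h
  obtain ⟨x, hx⟩ := exists_nine
  refine ⟨e.symm (Subgroup.inclusion mcl_le_co2 x), ?_⟩
  rw [MulEquiv.orderOf_eq, orderOf_injective _ (Subgroup.inclusion_injective _), hx]

end Cfsg.Agent.H815.SpMcL
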