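import Mathlib
import Cfsg.Agent.KFacts.Co1D4.Base
import Cfsg.Agent.CoOneType.CoOneE
import Cfsg.Agent.CoOneType.Identify

set_option autoImplicit false

/-!
# The normaliser of the elementary abelian subgroup `2^11` of `Co1`

`E` is the image of the sign changes.  Its normaliser is `E : M24` (split), with two orbits on the
non-identity elements.
-/

namespace Cfsg.Agent.H815.CoE

open Cfsg
open Cfsg.Agent.SporadicA.Co0Mono Cfsg.Agent.SporadicA.Co1Simple
open Cfsg.Agent.CoOneType.CoOneE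
open Cfsg.Agent.CoOneType.SignFacts
open scoped Pointwise

/-- the permutation part -/
noncomputable def pm : M24 →* Spor.Co1 := pr.comp permCo0

theorem pm_apply (σ : M24) : pm σ = pr (permCo0 σ) := rfl

theorem exists_octad : ∃ o : golayCode, wt o = 8 := by
  have h1 := Cfsg.Agent.S0360.result
  obtain ⟨x, hx⟩ : octads.Nonempty := by
    rw [Set.nonempty_iff_ne_empty]
    intro h0
    rw [h0, Set.ncard_empty] at h1
    norm_num at h1
  obtain ⟨w, hw, hwx⟩ := hx.1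
  exact ⟨⟨w, hw⟩, by unfold wt sup; rw [hwx]; exact hx.2⟩

theorem eq_one_of_pm_mem {σ : M24} (h : pm σ ∈ E) : σ = 1 := by
  obtain ⟨c, hc⟩ := h
  rw [pm_apply, pr_eq_iff] at hc
  rcases hc with hc | hc
  · apply perm_eq_one (d := c)
    rw [← hc, signCo0_mul_self]
  · have h1 : permCo0 σ = signCo0 (c + allOne) := by
      rw [signCo0_add, hc, mul_assoc, signCo0_mul_self, mul_one]
    apply perm_eq_one (d := c + allOne)
    rw [h1, signCo0_mul_self]

theorem pm_conj (σ : M24) (c : golayCode) :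
    pm σ * pr (signCo0 c) * (pm σ)⁻¹ = pr (signCo0 (wordPerm σ c)) := by
  rw [pm_apply, ← map_inv, ← map_mul, ← map_mul, perm_mul_sign_mul_inv]

theorem pm_mem (σ : M24) {a : Spor.Co1} (ha : a ∈ E) : pm σ * a * (pm σ)⁻¹ ∈ E := by
  obtain ⟨c, rfl⟩ := ha
  exact ⟨_, pm_conj σ c⟩

/-- transitivity on the sign changes of one weight -/
theorem exists_pm {c d : golayCode} (h : (wt c = 8 ∧ wt d = 8) ∨ (wt c = 12 ∧ wt d = 12)) :
    ∃ σ : M24, pm σ * pr (signCo0 c) * (pm σ)⁻¹ = pr (signCo0 d) := by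
  have h1 : ∃ σ : M24, σ • sup c = sup d := by
    rcases h with ⟨h1, h2⟩ | ⟨h1, h2⟩
    · exact Cfsg.Agent.S0367.result _ _ ((sup_mem_octads c).2 h1) ((sup_mem_octads d).2 h2)
    · exact Cfsg.Agent.S0368.result _ _ ((sup_mem_dodecads c).2 h1) ((sup_mem_dodecads d).2 h2)
  obtain ⟨σ, hσ⟩ := h1
  rw [← sup_wordPerm] at hσ
  exact ⟨σ, by rw [pm_conj, sup_inj hσ]⟩

theorem exists_dodecad : ∃ d : golayCode, wt d = 12 := by
  by_contra hcon
  push Not at hcon
  obtain ⟨o, ho⟩ := exists_octad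
  -- then every element of `E` is `1` or conjugate to the octad element, and there are only 760
  have h1 := card_octadClass o ho
  have h2 : ∀ x : Spor.Co1, x ∈ E → x = 1 ∨ (x ∈ E ∧ x ∈ {x | IsConj (pr (signCo0 o)) x}) := by
    intro x hx
    by_cases hx1 : x = 1
    · exact Or.inl hx1
    · obtain ⟨c, rfl⟩ := hx
      right
      refine ⟨⟨c, rfl⟩, ?_⟩
      by_contra hc
      exact hcon c (wt_of_not o c ho hx1 hc)
  haveI : Finite Spor.Co1 := Nat.finite_of_card_ne_zero (by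
    rw [Cfsg.Agent.CoOneType.Identify.card_co1]; norm_num)
  have h3 : Nat.card E ≤ 1 + 759 := by
    have h4 : (E : Set Spor.Co1) ⊆ {1} ∪ {x : Spor.Co1 | x ∈ E ∧ x ∈ {x | IsConj (pr (signCo0 o)) x}} := by
      intro x hx
      rcases h2 x hx with h | h
      · exact Or.inl h
      · exact Or.inr h
    have h5 := Set.ncard_le_ncard h4 (Set.toFinite _)
    have h6 := Set.ncard_union_le {(1 : Spor.Co1)}
      {x : Spor.Co1 | x ∈ E ∧ x ∈ {x | IsConj (pr (signCo0 o)) x}}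
    rw [Set.ncard_singleton] at h6
    have h7 : ({x : Spor.Co1 | x ∈ E ∧ x ∈ {x | IsConj (pr (signCo0 o)) x}}).ncard = 759 := h1
    have h8 : (E : Set Spor.Co1).ncard = Nat.card E := rfl
    omega
  rw [card_E] at h3
  omega

/-- **The normaliser of `E`.** -/
theorem mem_of_normalizer {g : Spor.Co1} (hg : g ∈ Subgroup.normalizer (E : Set Spor.Co1)) :
    ∃ a ∈ E, ∃ σ : M24, g = a * pm σ := by
  obtain ⟨o, ho⟩ := exists_octad
  obtain ⟨d, hd⟩ := exists_dodecad
  have hd1 : pr (signCo0 d) ≠ 1 := by rw [Ne, pr_sign_eq_one_iff]; omega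
  have hdz : ¬ IsConj (pr (signCo0 o)) (pr (signCo0 d)) := by
    rw [isConj_octad_iff o d ho]; omega
  obtain ⟨x, hx, rfl⟩ := E_fusion o ho _ ⟨d, rfl⟩ hd1 hdz g
    ((Subgroup.mem_normalizer_iff.1 hg _).1 ⟨d, rfl⟩)
  obtain ⟨a, σ, rfl⟩ := exists_sign_perm hx
  exact ⟨pr (signCo0 a), ⟨a, rfl⟩, σ, by rw [map_mul, pm_apply]⟩

/-- two orbits -/
theorem orbits {o d : golayCode} (ho : wt o = 8) (hd : wt d = 12) {x : Spor.Co1} (hx : x ∈ E)
    (hx1 : x ≠ 1) : ∃ σ : M24, pm σ * x * (pm σ)⁻¹ = pr (signCo0 o) ∨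
      pm σ * x * (pm σ)⁻¹ = pr (signCo0 d) := by
  obtain ⟨c, rfl⟩ := hx
  rcases wt_cases c with h | h | h | h | h
  · exact absurd ((pr_sign_eq_one_iff c).2 (Or.inl h)) hx1
  · obtain ⟨σ, hσ⟩ := exists_pm (c := c) (d := o) (Or.inl ⟨h, ho⟩)
    exact ⟨σ, Or.inl hσ⟩
  · obtain ⟨σ, hσ⟩ := exists_pm (c := c) (d := d) (Or.inr ⟨h, hd⟩)
    exact ⟨σ, Or.inr hσ⟩
  · have h1 := wt_add_allOne c
    obtain ⟨σ, hσ⟩ := exists_pm (c := c + allOne) (d := o) (Or.inl ⟨by omega, ho⟩)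
    rw [pr_sign_add_allOne] at hσ
    exact ⟨σ, Or.inl hσ⟩
  · exact absurd ((pr_sign_eq_one_iff c).2 (Or.inr h)) hx1

/-- the two orbits are different -/
theorem not_isConj {o d : golayCode} (ho : wt o = 8) (hd : wt d = 12) :
    ¬ IsConj (pr (signCo0 o)) (pr (signCo0 d)) := by
  rw [isConj_octad_iff o d ho]
  omega

/-- **The local subgroup**, in a group isomorphic to `Co1`. -/
theorem local_of_iso {G : Type*} [Group G] (e : Spor.Co1 ≃* G) (A : Subgroup G)
    (hA : A = E.map e.toMonoidHom) :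
    Cfsg.IsElementaryAbelian 2 A ∧ Nat.card A = 2 ^ 11 ∧
    ∃ _ : (A.subgroupOf (Subgroup.normalizer (A : Set G))).Normal,
      Nonempty (↥(Subgroup.normalizer (A : Set G)) ⧸ A.subgroupOf (Subgroup.normalizer (A : Set G)) ≃*
        ↥Cfsg.M24) ∧
      (∃ K : Subgroup ↥(Subgroup.normalizer (A : Set G)),
        (A.subgroupOf (Subgroup.normalizer (A : Set G))).IsComplement' K) ∧
      ∃ a ∈ A, ∃ b ∈ A, a ≠ 1 ∧ b ≠ 1 ∧ (∀ n ∈ Subgroup.normalizer (A : Set G), n * a * n⁻¹ ≠ b) ∧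
        ∀ c ∈ A, c ≠ 1 → ∃ n ∈ Subgroup.normalizer (A : Set G),
          n * c * n⁻¹ = a ∨ n * c * n⁻¹ = b := by
  classical
  subst hA
  set A := E.map e.toMonoidHom with hA
  have memA : ∀ {x : Spor.Co1}, e x ∈ A ↔ x ∈ E := by
    intro x
    constructor
    · rintro ⟨y, hy, hyx⟩
      have : y = x := e.injective hyx
      rwa [← this]
    · intro hx; exact ⟨x, hx, rfl⟩
  have ofA : ∀ {y : G}, y ∈ A → ∃ x ∈ E, e x = y := by
    rintro y ⟨x, hx, rfl⟩
    exact ⟨x, hx, rfl⟩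
  set ψ : M24 →* G := e.toMonoidHom.comp pm with hψ
  have ψa : ∀ σ, ψ σ = e (pm σ) := fun σ => rfl
  have hsq : ∀ a ∈ A, a * a = 1 := by
    intro a ha
    obtain ⟨x, hx, rfl⟩ := ofA ha
    rw [← map_mul, E_sq x hx, map_one]
  have hψA : ∀ σ, ∀ a ∈ A, ψ σ * a * (ψ σ)⁻¹ ∈ A := by
    intro σ a ha
    obtain ⟨x, hx, rfl⟩ := ofA ha
    rw [ψa, ← map_inv, ← map_mul, ← map_mul, memA]
    exact pm_mem σ hx
  have hψN : ∀ σ, ψ σ ∈ Subgroup.normalizer (A : Set G) := by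
    intro σ
    rw [Subgroup.mem_normalizer_iff]
    intro a
    constructor
    · exact hψA σ a
    · intro h
      have h1 := hψA σ⁻¹ _ h
      have h2 : ψ σ⁻¹ * (ψ σ * a * (ψ σ)⁻¹) * (ψ σ⁻¹)⁻¹ = a := by
        rw [map_inv]; group
      rwa [h2] at h1
  have hN : ∀ g ∈ Subgroup.normalizer (A : Set G), ∃ a ∈ A, ∃ σ, g = a * ψ σ := by
    intro g hg
    obtain ⟨x, rfl⟩ := e.surjective g
    have hx : x ∈ Subgroup.normalizer (E : Set Spor.Co1) := by
      rw [Subgroup.mem_normalizer_iff] at hg ⊢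
      intro y
      have h1 := hg (e y)
      rwa [memA, ← map_inv, ← map_mul, ← map_mul, memA] at h1
    obtain ⟨a, ha, σ, hσ⟩ := mem_of_normalizer hx
    exact ⟨e a, memA.2 ha, σ, by rw [hσ, map_mul, ψa]⟩
  have hψ1 : ∀ σ, ψ σ ∈ A → σ = 1 := by
    intro σ h
    rw [ψa, memA] at h
    exact eq_one_of_pm_mem h
  have hcard : Nat.card A = 2 ^ 11 := by
    have h1 : Nat.card A = Nat.card E :=
      (Nat.card_congr (E.equivMapOfInjective e.toMonoidHom e.injective).toEquiv).symm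
    rw [h1, card_E]
    norm_num
  have hnormal : (A.subgroupOf (Subgroup.normalizer (A : Set G))).Normal := by
    constructor
    rintro ⟨a, _⟩ ha ⟨g, hg⟩
    exact (Subgroup.mem_normalizer_iff.1 hg a).1 ha
  refine ⟨⟨⟨⟨?_⟩⟩, ?_⟩, hcard, hnormal, ?_, ?_, ?_⟩
  · rintro ⟨a, ha⟩ ⟨b, hb⟩
    apply Subtype.ext
    show a * b = b * a
    have h1 := hsq _ (A.mul_mem ha hb)
    have h2 := hsq a ha
    have h3 := hsq b hb
    calc a * b = a * (a * b * (a * b)) * b := by rw [h1, mul_one]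
      _ = (a * a) * (b * a) * (b * b) := by simp only [mul_assoc]
      _ = b * a := by rw [h2, h3, one_mul, mul_one]
  · intro a ha
    rw [pow_two]
    exact hsq a ha
  · -- the quotient
    let q : M24 →* ↥(Subgroup.normalizer (A : Set G)) ⧸ A.subgroupOf (Subgroup.normalizer (A : Set G)) :=
      (QuotientGroup.mk' _).comp (ψ.codRestrict (Subgroup.normalizer (A : Set G)) hψN)
    have hq : ∀ σ, q σ = QuotientGroup.mk (⟨ψ σ, hψN σ⟩ : ↥(Subgroup.normalizer (A : Set G))) :=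
      fun σ => rfl
    have hinj : Function.Injective q := by
      rw [injective_iff_map_eq_one]
      intro σ h
      rw [hq, QuotientGroup.eq_one_iff] at h
      exact hψ1 σ h
    have hsurj : Function.Surjective q := by
      intro y
      obtain ⟨⟨g, hg⟩, rfl⟩ := QuotientGroup.mk_surjective y
      obtain ⟨a, ha, σ, rfl⟩ := hN g hg
      refine ⟨σ, ?_⟩
      rw [hq, QuotientGroup.eq, Subgroup.mem_subgroupOf]
      show (ψ σ)⁻¹ * (a * ψ σ) ∈ A
      have h1 := hψA σ⁻¹ a ha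
      rw [map_inv, inv_inv] at h1
      rwa [← mul_assoc]
    exact ⟨(MulEquiv.ofBijective q ⟨hinj, hsurj⟩).symm⟩
  · -- the complement
    refine ⟨(ψ.codRestrict (Subgroup.normalizer (A : Set G)) hψN).range, ?_⟩
    apply Subgroup.isComplement'_of_disjoint_and_mul_eq_univ
    · rw [Subgroup.disjoint_def]
      rintro x hx ⟨σ, rfl⟩
      have : σ = 1 := hψ1 σ hx
      rw [this, map_one]
    · rw [Set.eq_univ_iff_forall]
      rintro ⟨g, hg⟩
      obtain ⟨a, ha, σ, rfl⟩ := hN g hg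
      have ha' : a ∈ Subgroup.normalizer (A : Set G) := Subgroup.le_normalizer ha
      exact Set.mem_mul.2 ⟨⟨a, ha'⟩, ha, ⟨ψ σ, hψN σ⟩, ⟨σ, rfl⟩, rfl⟩
  · -- the orbits
    obtain ⟨o, ho⟩ := exists_octad
    obtain ⟨d, hd⟩ := exists_dodecad
    have hne : ∀ c : golayCode, wt c ≠ 0 → wt c ≠ 24 → e (pr (signCo0 c)) ≠ 1 := by
      intro c h1 h2 h
      rw [EmbeddingLike.map_eq_one_iff, pr_sign_eq_one_iff] at h
      omega
    refine ⟨e (pr (signCo0 o)), memA.2 ⟨o, rfl⟩, e (pr (signCo0 d)), memA.2 ⟨d, rfl⟩,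
      hne o (by omega) (by omega), hne d (by omega) (by omega), ?_, ?_⟩
    · intro n _ h
      obtain ⟨n, rfl⟩ := e.surjective n
      rw [← map_inv, ← map_mul, ← map_mul] at h
      exact not_isConj ho hd (isConj_iff.2 ⟨n, e.injective h⟩)
    · intro c hc hc1
      obtain ⟨x, hx, rfl⟩ := ofA hc
      have hx1 : x ≠ 1 := by
        rintro rfl
        exact hc1 (map_one e)
      obtain ⟨σ, hσ⟩ := orbits ho hd hx hx1
      refine ⟨ψ σ, hψN σ, ?_⟩
      rw [ψa, ← map_inv, ← map_mul, ← map_mul]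
      rcases hσ with h | h
      · left; rw [h]
      · right; rw [h]

end Cfsg.Agent.H815.CoE
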