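import Cfsg.Agent.H815.FxU3C
import Cfsg.Agent.H127.PSUThreeEx
import Cfsg.Agent.H488.PsuTwo
import Cfsg.Agent.H418.SUEig

/-!
# Fixity 4: `PSU_3(q)`, odd point stabilizers, the primes `r ≥ 5` (helper815, for helper254)

* `noTI_of3` : the criterion;
* `not_succ`, `kill_pred`, `kill_sing`, `not_char` : `r ∣ q + 1`, `r ∣ q - 1`, `r ∣ q ^ 2 - q + 1`, `r ∣ q`.
-/

set_option autoImplicit false
set_option linter.unusedSectionVars false
set_option linter.style.haveILetI false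

namespace Cfsg.Agent.H815.FxU3

open Matrix Subgroup Cfsg Cfsg.Agent.H254.Fx Cfsg.Agent.H254.Ev Cfsg.Agent.H372.FxU
open Cfsg.Agent.LieClassical.HermBasic Cfsg.Agent.LieClassical.HermSiegel
open Cfsg.Agent.ClassicalGeometry.PSUAutBasic (pr pr_surjective pr_eq_one_iff exists_scalar_of_mem_center)
open Cfsg.Agent.Phan (ext ext_injective ext_comm emb emb_injective sh sh_injective extM extM_mulVec_of_notMem)

/-- **The criterion.** -/
theorem noTI_of3 {G : Type*} [Group G] [Finite G] {k : ℕ} (hb : ∀ D : Subgroup G, OddTI k D → ¬ 3 ∣ Nat.card D)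
    (hk : ∀ r : ℕ, r.Prime → 5 ≤ r → r ∣ Nat.card G → Kill k r G ∨ Kill9 r G ∨
      ∀ D : Subgroup G, OddTI k D → ¬ r ∣ Nat.card D) : NoTI k G := by
  intro D h
  have h3 : ¬ 3 ∣ Nat.card D := hb D h
  have hne : Nat.card D ≠ 1 := by
    intro h1
    exact h.ne (Subgroup.eq_bot_of_card_eq D h1)
  have h5 : ∀ s : ℕ, s.Prime → s ∣ Nat.card D → 5 ≤ s := by
    intro s hs hsd
    by_contra hlt
    have h12 : s = 2 ∨ s = 3 ∨ s = 4 := by have := hs.two_le; omega
    rcases h12 with h12 | h12 | h12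
    · have h4 := h.odd
      rw [← Nat.not_even_iff_odd, even_iff_two_dvd] at h4
      exact h4 (h12 ▸ hsd)
    · exact h3 (h12 ▸ hsd)
    · rw [h12] at hs; revert hs; decide
  have hmin := Nat.minFac_prime hne
  have hle : ∀ s : ℕ, s.Prime → 5 ≤ s → s ∣ Nat.card D → (Nat.card D).minFac ≤ s := fun t ht _ htd =>
    Nat.minFac_le_of_dvd ht.two_le htd
  rcases hk _ hmin (h5 _ hmin (Nat.minFac_dvd _)) ((Nat.minFac_dvd _).trans (card_subgroup_dvd_card D)) with
    h6 | h6 | h6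
  · exact h.not_kill h3 hmin (h5 _ hmin (Nat.minFac_dvd _)) (Nat.minFac_dvd _) hle h6
  · exact not_kill9 h h3 hmin (h5 _ hmin (Nat.minFac_dvd _)) (Nat.minFac_dvd _) hle h6
  · exact h6 D h (Nat.minFac_dvd _)

variable {F : Type} [Field F] [Fintype F] {q : ℕ}

theorem card_psu3 (hF : Fintype.card F = q ^ 2) :
    Nat.card (PSU 3 F q) * Nat.gcd 3 (q + 1) = q ^ 3 * ((q ^ 2 - 1) * (q ^ 3 + 1)) := by
  rw [card_psu hF le_rfl, card_three hF]

theorem gcd_cases (q : ℕ) : Nat.gcd 3 (q + 1) = 1 ∨ Nat.gcd 3 (q + 1) = 3 := by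
  have h := Nat.gcd_dvd_left 3 (q + 1)
  exact (Nat.dvd_prime Nat.prime_three).1 h

theorem two_dvd_psu (hF : Fintype.card F = q ^ 2) : 2 ∣ Nat.card (PSU 3 F q) := by
  obtain ⟨a, ha⟩ := exists_inv hF
  rw [← ha]
  exact orderOf_dvd_natCard _

/-- a divisor prime to 3 of the order of `SU_3(q)` -/
theorem dvd_of_coprime (hF : Fintype.card F = q ^ 2) {N : ℕ} (hN : Nat.Coprime N 3)
    (h : N ∣ q ^ 3 * ((q ^ 2 - 1) * (q ^ 3 + 1))) : N ∣ Nat.card (PSU 3 F q) := by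
  rw [← card_psu3 hF] at h
  exact (Nat.Coprime.coprime_dvd_right (Nat.gcd_dvd_left 3 (q + 1)) hN).dvd_of_dvd_mul_right h

/-- `r ∣ q + 1` -/
theorem not_succ (hF : Fintype.card F = q ^ 2) (h4 : 4 ≤ q) {r : ℕ} (hr : r.Prime) (h5 : 5 ≤ r) (hd : r ∣ q + 1)
    {k : ℕ} (D : Subgroup (PSU 3 F q)) (h : OddTI k D) : ¬ r ∣ Nat.card D := by
  intro h1
  haveI := simple_psu hF h4
  exact oddTI_false_of_noSP h (two_dvd_psu hF) hr h5 h1 (noSP_succ hF h4 hr h5 hd)

/-- `q` even, `4 ≤ q`: a prime `≥ 5` divides `q + 1` or `9 ∣ q + 1` -/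
theorem succ_cases (he : Even q) (h4 : 4 ≤ q) : (∃ s, s.Prime ∧ 5 ≤ s ∧ s ∣ q + 1) ∨ 9 ∣ q + 1 := by
  rcases num_cases (m := q + 1) (by omega) with h | h | ⟨a, ha⟩
  · obtain ⟨m, hm⟩ := h
    rcases num_cases (m := m) (by rintro rfl; omega) with h | ⟨s, hs, hs5, h⟩ | ⟨a, ha⟩
    · right
      obtain ⟨l, rfl⟩ := h
      exact ⟨l, by rw [hm]; ring⟩
    · exact Or.inl ⟨s, hs, hs5, by rw [hm]; exact Dvd.dvd.mul_left h _⟩
    · exfalso
      rcases Nat.eq_zero_or_pos a with h0 | h0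
      · subst h0
        rw [pow_zero] at ha
        omega
      · have : 2 ∣ m := by rw [ha]; exact dvd_pow_self 2 (by omega)
        obtain ⟨v, hv⟩ := he
        omega
  · exact Or.inl h
  · exfalso
    rcases Nat.eq_zero_or_pos a with h0 | h0
    · subst h0
      rw [pow_zero] at ha
      omega
    · have : 2 ∣ q + 1 := by rw [ha]; exact dvd_pow_self 2 (by omega)
      obtain ⟨v, hv⟩ := he
      omega

/-- **the torus of order `(q ^ 2 - 1) / d`, `q` odd** -/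
theorem bad_torus (hF : Fintype.card F = q ^ 2) (ho : Odd q) {r : ℕ} (hr : r.Prime)
    (hd : r ∣ (q ^ 2 - 1) / Nat.gcd 3 (q + 1)) : ∃ x : PSU 3 F q, orderOf x = r ∧ Bad x := by
  have hq2 := two_le hF
  obtain ⟨N, hN⟩ : ∃ N, N = (q ^ 2 - 1) / Nat.gcd 3 (q + 1) := ⟨_, rfl⟩
  have hd3 : Nat.gcd 3 (q + 1) ∣ q ^ 2 - 1 := by
    rw [sq_sub hF]
    exact Dvd.dvd.mul_left (Nat.gcd_dvd_right _ _) _
  have hNe : N * Nat.gcd 3 (q + 1) = q ^ 2 - 1 := by rw [hN]; exact Nat.div_mul_cancel hd3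
  rw [← hN] at hd
  have hq1 : 0 < q ^ 2 - 1 := by
    have : 2 ^ 2 ≤ q ^ 2 := Nat.pow_le_pow_left hq2 2
    omega
  have hN0 : 0 < N := by
    rcases Nat.eq_zero_or_pos N with h | h
    · rw [h, zero_mul] at hNe; omega
    · exact h
  have h8 : 8 ∣ N := by
    have h1 : 8 ∣ N * Nat.gcd 3 (q + 1) := by rw [hNe]; exact eight_dvd ho
    have h2 : Nat.Coprime 8 (Nat.gcd 3 (q + 1)) := by
      rcases gcd_cases q with h | h <;> rw [h] <;> norm_num
    exact h2.dvd_of_dvd_mul_right h1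
  obtain ⟨z, hz⟩ := H127.PSUThreeEx.ex_three hF N (by rw [hN])
  obtain ⟨m, hm⟩ := hd
  have hm0 : m ≠ 0 := by
    rintro rfl
    omega
  refine ⟨z ^ m, ?_, ?_⟩
  · rw [orderOf_pow_of_dvd hm0 (by rw [hz, hm]; exact dvd_mul_left _ _), hz, hm,
      Nat.mul_div_cancel _ (Nat.pos_of_ne_zero hm0)]
  · refine bad_of_comm_eight (Y := zpowers z) ?_ (by rw [Nat.card_zpowers, hz]; exact h8)
    intro y hy
    obtain ⟨i, rfl⟩ := mem_zpowers_iff.1 hy
    exact (((Commute.refl z).zpow_left i).pow_right m).eq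

/-- the block: elements of order `r ∣ q - 1` -/
theorem exists_b (hF : Fintype.card F = q ^ 2) {r : ℕ} (hr : r.Prime) (hd : r ∣ q - 1) :
    ∃ b : ↥(SU 2 F q), orderOf b = r ∧ orderOf (blk hF b) = r := by
  obtain ⟨b, hb⟩ := exists_emb (F := F) (q := q) hr (m := 2) (by
    rw [card_two hF, sq_sub hF]
    exact Dvd.dvd.mul_left (Dvd.dvd.mul_right hd _) _)
  exact ⟨b, hb, by rw [orderOf_injective _ (blk_injective hF), hb]⟩

theorem killAll_of_y (hF : Fintype.card F = q ^ 2) (h4 : 4 ≤ q) {s : ℕ} (hs : s.Prime) (hs5 : 5 ≤ s)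
    (hsd : s ∣ q + 1) {r : ℕ} {b : ↥(SU 2 F q)} (hb : orderOf (blk hF b) = r) : KillAll r (PSU 3 F q) := by
  obtain ⟨y, hy, hyc, hyb⟩ := exists_y hF h4 hs hs5 hsd
  refine ⟨_, hb, Or.inr (Or.inr (Or.inr (Or.inr ⟨y, ?_, ?_, ?_, hyb⟩)))⟩
  · exact mem_normalizer_of_comm (hyc b).symm
  · intro h2
    rw [h2, orderOf_one] at hy
    omega
  · rw [hy]
    exact coprime_six_of_prime hs hs5

/-- `r ∣ q - 1` -/
theorem kill_pred (hF : Fintype.card F = q ^ 2) (h4 : 4 ≤ q) {r : ℕ} (hr : r.Prime) (h5 : 5 ≤ r) (hd : r ∣ q - 1) :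
    KillAll r (PSU 3 F q) ∨ Kill9 r (PSU 3 F q) := by
  haveI : Fact r.Prime := ⟨hr⟩
  rcases Nat.even_or_odd q with he | ho
  · obtain ⟨b, hb, hb'⟩ := exists_b hF hr hd
    rcases succ_cases he h4 with ⟨s, hs, hs5, hsd⟩ | h9
    · exact Or.inl (killAll_of_y hF h4 hs hs5 hsd hb')
    · right
      obtain ⟨z, hz, hzc, -⟩ := exists_y3 hF h4 h9
      have hrq : ¬ r ∣ q := by
        intro h
        have h1 : r ∣ q - (q - 1) := Nat.dvd_sub h hd
        have h2 : q - (q - 1) = 1 := by omega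
        rw [h2] at h1
        have := Nat.le_of_dvd (by norm_num) h1
        omega
      obtain ⟨u, j, hj, hu⟩ := conj_negq hF hr (cast_ne_zero hr hF hrq) (x := b)
        (by rw [← hb, pow_orderOf_eq_one]) (by
          intro h
          rw [h, orderOf_one] at hb
          omega)
      have hq1 : ((q : ℕ) : ZMod r) = 1 := by
        have h1 : ((q - 1 : ℕ) : ZMod r) = 0 := (ZMod.natCast_eq_zero_iff _ _).2 hd
        rw [Nat.cast_sub (by omega), Nat.cast_one, sub_eq_zero] at h1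
        exact h1
      rw [pow_eq_inv (r := r) (by rw [← hb, pow_orderOf_eq_one]) (by rw [hj, hq1])] at hu
      have hu' : blk hF u * blk hF b * (blk hF u)⁻¹ = (blk hF b)⁻¹ := by
        rw [← map_inv, ← map_mul, ← map_mul, hu, map_inv]
      refine ⟨blk hF b, blk hF u, z, hb', ?_, (hzc b).symm, hzc u, hz, ?_⟩
      · refine mem_normalizer_of_conj (j := r - 1) ?_
        rw [hu']
        rw [pow_eq_inv (r := r) (by rw [← hb', pow_orderOf_eq_one])]
        rw [Nat.cast_sub hr.one_le, Nat.cast_one, ZMod.natCast_self, zero_sub]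
      · intro h
        rw [h, mul_inv_cancel_right] at hu'
        have h1 : blk hF b ^ 2 = 1 := by
          rw [pow_two]
          nth_rewrite 1 [hu']
          exact inv_mul_cancel _
        have h2 := Nat.le_of_dvd (by norm_num) (orderOf_dvd_of_pow_eq_one h1)
        rw [hb'] at h2
        omega
  · left
    obtain ⟨x, hx, hbx⟩ := bad_torus hF ho hr (by
      have h1 : r ∣ (q ^ 2 - 1) / Nat.gcd 3 (q + 1) * Nat.gcd 3 (q + 1) := by
        rw [Nat.div_mul_cancel (by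
          rw [sq_sub hF]
          exact Dvd.dvd.mul_left (Nat.gcd_dvd_right _ _) _), sq_sub hF]
        exact Dvd.dvd.mul_right hd _
      have h2 : Nat.Coprime r (Nat.gcd 3 (q + 1)) := by
        rw [hr.coprime_iff_not_dvd]
        intro h3
        have := Nat.le_of_dvd (by norm_num) (h3.trans (Nat.gcd_dvd_left 3 (q + 1)))
        omega
      exact h2.dvd_of_dvd_mul_right h1)
    exact killAll_of_bad hx hbx

/-- lifts of elements of prime order `r ≠ 3` -/
theorem exists_lift (hF : Fintype.card F = q ^ 2) {r : ℕ} (hr : r.Prime) (h3 : r ≠ 3) {x : PSU 3 F q}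
    (hx : orderOf x = r) : ∃ g : ↥(SU 3 F q), pr 3 F q g = x ∧ g ^ r = 1 := by
  obtain ⟨g, hg⟩ := pr_surjective (n := 3) (F := F) (q := q) x
  have h1 : g ^ r ∈ center ↥(SU 3 F q) := by
    rw [← pr_eq_one_iff, map_pow, hg, ← hx, pow_orderOf_eq_one]
  have h2 : Nat.card (center ↥(SU 3 F q)) ∣ 3 := by
    rw [S0279.result hF 3 le_rfl]
    exact Nat.gcd_dvd_left _ _
  have h4 : (g ^ r) ^ 3 = 1 := by
    exact orderOf_dvd_iff_pow_eq_one.1 ((orderOf_dvd_card_of_mem h1).trans h2)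
  -- `3 m ≡ 1` modulo `r`
  have hcop : Nat.Coprime 3 r := (Nat.coprime_primes Nat.prime_three hr).2 (Ne.symm h3)
  obtain ⟨m, hm⟩ := Nat.exists_mul_mod_eq_one_of_coprime hcop hr.one_lt
  refine ⟨g ^ (3 * m), ?_, ?_⟩
  · rw [map_pow, hg]
    have h5 : x ^ (3 * m) = x ^ 1 := by
      rw [pow_eq_pow_iff_modEq, hx]
      unfold Nat.ModEq
      rw [hm.2, Nat.mod_eq_of_lt hr.one_lt]
    rw [h5, pow_one]
  · rw [← pow_mul]
    have h5 : 3 * m * r = r * 3 * m := by ring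
    rw [h5, pow_mul, pow_mul, h4, one_pow]

/-- `r ∣ q ^ 2 - q + 1` -/
theorem kill_sing (hF : Fintype.card F = q ^ 2) (h4 : 4 ≤ q) {r : ℕ} (hr : r.Prime) (h5 : 5 ≤ r)
    (hd : r ∣ q ^ 2 - q + 1) (hG : r ∣ Nat.card (PSU 3 F q)) : Kill 4 r (PSU 3 F q) := by
  haveI : Fact r.Prime := ⟨hr⟩
  have hqq : q ≤ q ^ 2 := Nat.le_self_pow (by norm_num) q
  have hz : (q : ZMod r) ^ 2 - q + 1 = 0 := by
    have h1 := (ZMod.natCast_eq_zero_iff _ _).2 hd
    rw [Nat.cast_add, Nat.cast_sub hqq, Nat.cast_pow, Nat.cast_one] at h1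
    exact h1
  have hsmall : ∀ n : ℕ, 0 < n → n < 5 → (n : ZMod r) ≠ 0 := by
    intro n hn hn5 h
    have := Nat.le_of_dvd hn ((ZMod.natCast_eq_zero_iff _ _).1 h)
    omega
  have hrq : ¬ r ∣ q := by
    intro h
    have h1 : (q : ZMod r) = 0 := (ZMod.natCast_eq_zero_iff _ _).2 h
    rw [h1] at hz
    apply hsmall 1 (by norm_num) (by norm_num)
    rw [Nat.cast_one]
    linear_combination hz
  by_cases hinv : ∃ y t : PSU 3 F q, orderOf y = r ∧ t * y * t⁻¹ = y⁻¹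
  · refine KillAll.kill ?_ 4
    obtain ⟨y, t, hy, ht⟩ := hinv
    obtain ⟨g, hg, hgr⟩ := exists_lift hF hr (by omega) hy
    obtain ⟨u, j, hj, hu⟩ := conj_negq hF hr (cast_ne_zero hr hF hrq) hgr (by
      rintro rfl
      rw [map_one] at hg
      rw [← hg, orderOf_one] at hy
      omega)
    have hu' : pr 3 F q u * y * (pr 3 F q u)⁻¹ = y ^ j := by
      rw [← hg, ← map_inv, ← map_mul, ← map_mul, hu, map_pow]
    have hyr : y ^ r = 1 := by rw [← hy, pow_orderOf_eq_one]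
    have hj' : ((j * (r - 1) : ℕ) : ZMod r) = q := by
      rw [Nat.cast_mul, hj, Nat.cast_sub hr.one_le, Nat.cast_one, ZMod.natCast_self]
      ring
    have hconj : (t * pr 3 F q u) * y * (t * pr 3 F q u)⁻¹ = y ^ (j * (r - 1)) := by
      have e1 : (t * pr 3 F q u) * y * (t * pr 3 F q u)⁻¹ =
          t * (pr 3 F q u * y * (pr 3 F q u)⁻¹) * t⁻¹ := by group
      rw [e1, hu', ← conj_pow, ht, mul_comm j, pow_mul]
      congr 1
      symm
      exact pow_eq_inv hyr (by rw [Nat.cast_sub hr.one_le, Nat.cast_one, ZMod.natCast_self, zero_sub])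
    refine killAll_of_conj hy hconj ?_ ?_
    · intro h
      have h1 := (ZMod.natCast_eq_natCast_iff _ _ _).2 h
      rw [Nat.cast_pow, hj', Nat.cast_one] at h1
      apply hsmall 2 (by norm_num) (by norm_num)
      rw [Nat.cast_ofNat]
      linear_combination ((q : ZMod r) + 1) * hz - h1
    · intro h
      have h1 := (ZMod.natCast_eq_natCast_iff _ _ _).2 h
      rw [Nat.cast_pow, hj', Nat.cast_one] at h1
      have h2 : (q : ZMod r) = -1 := by
        linear_combination -h1 + ((q : ZMod r) ^ 2 + q) * hz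
      rw [h2] at hz
      apply hsmall 3 (by norm_num) (by norm_num)
      rw [Nat.cast_ofNat]
      linear_combination hz
  · right
    obtain ⟨P, hP⟩ : ∃ P : Sylow r (PSU 3 F q), P = default := ⟨_, rfl⟩
    refine ⟨P, ?_⟩
    intro h4'
    haveI : Fact (Nat.Prime 2) := ⟨Nat.prime_two⟩
    obtain ⟨t, ht⟩ := exists_prime_orderOf_dvd_card' (G := normalizer ((P : Subgroup (PSU 3 F q)) : Set (PSU 3 F q))) 2
      (dvd_trans (by norm_num) h4')
    have ht2 : orderOf (t : PSU 3 F q) = 2 := by rw [Subgroup.orderOf_coe]; exact ht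
    have htt : (t : PSU 3 F q) * t = 1 := by rw [← pow_two, ← ht2, pow_orderOf_eq_one]
    have hti : (t : PSU 3 F q)⁻¹ = t := inv_eq_of_mul_eq_one_left htt
    have hcent : ∀ g ∈ (P : Subgroup (PSU 3 F q)), (t : PSU 3 F q) * g * (t : PSU 3 F q)⁻¹ * g⁻¹ = 1 := by
      intro g hg
      by_contra hne
      obtain ⟨y, hy⟩ : ∃ y, y = (t : PSU 3 F q) * g * (t : PSU 3 F q)⁻¹ * g⁻¹ := ⟨_, rfl⟩
      rw [← hy] at hne
      have hyP : y ∈ (P : Subgroup (PSU 3 F q)) := by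
        rw [hy]
        exact mul_mem ((mem_normalizer_iff.1 t.2 g).1 hg) (inv_mem hg)
      have hyt : (t : PSU 3 F q) * y * (t : PSU 3 F q)⁻¹ = y⁻¹ := by
        rw [hy]
        have e1 : (t : PSU 3 F q) * ((t : PSU 3 F q) * g * (t : PSU 3 F q)⁻¹ * g⁻¹) * (t : PSU 3 F q)⁻¹ =
            ((t : PSU 3 F q) * t) * g * (t : PSU 3 F q)⁻¹ * g⁻¹ * (t : PSU 3 F q)⁻¹ := by group
        rw [e1, htt, hti]
        have e2 : ((t : PSU 3 F q) * g * t * g⁻¹)⁻¹ = g * (t : PSU 3 F q)⁻¹ * g⁻¹ * (t : PSU 3 F q)⁻¹ := by group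
        rw [e2, hti]
        group
      obtain ⟨n, hn⟩ := (IsPGroup.iff_orderOf.1 P.isPGroup') ⟨y, hyP⟩
      rw [Subgroup.orderOf_mk] at hn
      have hn0 : n ≠ 0 := by
        rintro rfl
        rw [pow_zero, orderOf_eq_one_iff] at hn
        exact hne hn
      obtain ⟨m, rfl⟩ : ∃ m, n = m + 1 := ⟨n - 1, by omega⟩
      apply hinv
      refine ⟨y ^ r ^ m, t, ?_, ?_⟩
      · rw [orderOf_pow_of_dvd (pow_ne_zero _ hr.ne_zero) (by rw [hn]; exact pow_dvd_pow r (by omega)), hn,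
          pow_succ, Nat.mul_div_cancel_left _ (pow_pos hr.pos m)]
      · rw [← conj_pow, hyt, inv_pow]
    -- an element of order `r` of `P`
    have hrP : r ∣ Nat.card P := P.dvd_card_of_dvd_card hG
    obtain ⟨x, hx⟩ := exists_prime_orderOf_dvd_card' (G := P) r hrP
    have hx' : orderOf (x : PSU 3 F q) = r := by rw [Subgroup.orderOf_coe]; exact hx
    have hcx := hcent x x.2
    have hcomm : Commute (t : PSU 3 F q) x := by
      rw [mul_inv_eq_one, mul_inv_eq_iff_eq_mul] at hcx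
      exact hcx
    have ho : orderOf ((t : PSU 3 F q) * x) = 2 * r := by
      rw [hcomm.orderOf_mul_eq_mul_orderOf_of_coprime, ht2, hx']
      rw [ht2, hx']
      exact (Nat.coprime_primes Nat.prime_two hr).2 (by omega)
    -- the centralizer has odd order
    have hdg : Nat.gcd 3 (q + 1) ∣ q ^ 2 - q + 1 := by
      rcases gcd_cases q with h | h
      · rw [h]; exact one_dvd _
      · rw [h]
        have h6 : 3 ∣ q + 1 := h ▸ Nat.gcd_dvd_right 3 (q + 1)
        obtain ⟨v, hv⟩ := h6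
        have h7 : q = 3 * v - 1 := by omega
        obtain ⟨w, rfl⟩ : ∃ w, v = w + 1 := ⟨v - 1, by omega⟩
        have h8 : q = 3 * w + 2 := by omega
        refine ⟨3 * w ^ 2 + 3 * w + 1, ?_⟩
        have h9 : q ^ 2 = 3 * (3 * w ^ 2 + 3 * w + 1) + q - 1 := by
          rw [h8]
          have : (3 * w + 2) ^ 2 + 1 = 3 * (3 * w ^ 2 + 3 * w + 1) + (3 * w + 2) := by ring
          omega
        omega
    obtain ⟨M, hM⟩ := hdg
    have hM' : M * Nat.gcd 3 (q + 1) = q ^ 2 - q + 1 := by rw [hM, mul_comm]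
    have h6 := H418.SUEig.psu_three hF hr hd (by omega) hM' ((t : PSU 3 F q) * x) (by rw [ho]; exact dvd_mul_left _ _)
    have h7 := orderOf_dvd_of_pow_eq_one h6
    rw [ho] at h7
    have h8 : 2 ∣ q ^ 2 - q + 1 := by
      rw [← hM']
      exact Dvd.dvd.mul_right ((dvd_mul_right 2 r).trans h7) _
    have h9 : Even (q * (q - 1)) := Nat.even_mul_pred_self q
    have h10 : q * (q - 1) = q ^ 2 - q := by
      rw [Nat.mul_sub, mul_one, pow_two]
    rw [h10] at h9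
    obtain ⟨v, hv⟩ := h9
    omega

/-- **own characteristic**: no Sylow subgroup in `D` -/
theorem not_own (hF : Fintype.card F = q ^ 2) (h4 : 4 ≤ q) (ho : Odd q) {p : ℕ} [hp : Fact p.Prime] [CharP F p]
    {k : ℕ} {D : Subgroup (PSU 3 F q)} (h : OddTI k D) {P : Sylow p (PSU 3 F q)}
    (hP : (P : Subgroup (PSU 3 F q)) ≤ D) : False := by
  haveI := simple_psu hF h4
  obtain ⟨hc, hn, hb⟩ := H488.PsuTwo.card_sylow (T := PSU 3 F q) (p := p) hF (by omega) (MulEquiv.refl _)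
    (simple_psu hF h4)
  refine h.not_eight hP (hb P) le_rfl ?_
  have h1 : Nat.card (Sylow p (PSU 3 F q)) =
      (normalizer ((P : Subgroup (PSU 3 F q)) : Set (PSU 3 F q))).index := Sylow.card_eq_index_normalizer P
  rw [hn] at h1
  have h2 := card_mul_index (normalizer ((P : Subgroup (PSU 3 F q)) : Set (PSU 3 F q)))
  rw [← h1] at h2
  have h3 := card_psu3 hF
  rw [← h2] at h3
  have h5 : Nat.card (normalizer ((P : Subgroup (PSU 3 F q)) : Set (PSU 3 F q))) * Nat.gcd 3 (q + 1) =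
      q ^ 3 * (q ^ 2 - 1) := by
    apply Nat.eq_of_mul_eq_mul_right (Nat.succ_pos (q ^ 3))
    rw [Nat.succ_eq_add_one]
    calc _ = Nat.card (normalizer ((P : Subgroup (PSU 3 F q)) : Set (PSU 3 F q))) * (q ^ 3 + 1) *
          Nat.gcd 3 (q + 1) := by ring
      _ = _ := by rw [h3]; ring
  have h6 : 8 ∣ Nat.card (normalizer ((P : Subgroup (PSU 3 F q)) : Set (PSU 3 F q))) * Nat.gcd 3 (q + 1) := by
    rw [h5]
    exact Dvd.dvd.mul_left (eight_dvd ho) _
  have h7 : Nat.Coprime 8 (Nat.gcd 3 (q + 1)) := by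
    rcases gcd_cases q with h | h <;> rw [h] <;> norm_num
  exact h7.dvd_of_dvd_mul_right h6

/-- a prime divisor of `q` is the characteristic -/
theorem charP_of_dvd (hF : Fintype.card F = q ^ 2) {r : ℕ} (hr : r.Prime) (hd : r ∣ q) : CharP F r := by
  obtain ⟨p, hp⟩ := CharP.exists F
  haveI := hp
  obtain ⟨⟨k, hk⟩, hpp, h1⟩ := FiniteField.card F p
  have h2 : r ∣ p ^ k := by
    have : p ^ k = q ^ 2 := by rw [← hF]; exact h1.symm
    rw [this]; exact hd.trans (dvd_pow_self q (by norm_num))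
  have h3 := (Nat.prime_dvd_prime_iff_eq hr hpp).1 (hr.dvd_of_dvd_pow h2)
  rw [h3]; exact hp

/-- `r ∣ q`, `r ≥ 5` -/
theorem not_char (hF : Fintype.card F = q ^ 2) (h4 : 4 ≤ q) {r : ℕ} (hr : r.Prime) (h5 : 5 ≤ r) (hd : r ∣ q)
    {k : ℕ} (D : Subgroup (PSU 3 F q)) (h : OddTI k D) : ¬ r ∣ Nat.card D := by
  intro h1
  haveI : Fact r.Prime := ⟨hr⟩
  haveI := charP_of_dvd hF hr hd
  have ho : Odd q := by
    rw [← Nat.not_even_iff_odd]
    intro he
    obtain ⟨n, -, hn⟩ := exists_pow hF he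
    rw [hn] at hd
    have := (Nat.prime_dvd_prime_iff_eq hr Nat.prime_two).1 (hr.dvd_of_dvd_pow hd)
    omega
  obtain ⟨P, hP⟩ := h.exists_sylow_le hr h5 h1
  exact not_own hF h4 ho h hP

/-- **the primes `r ≥ 5`** -/
theorem kill_psu3 (hF : Fintype.card F = q ^ 2) (h4 : 4 ≤ q) (r : ℕ) (hr : r.Prime) (h5 : 5 ≤ r)
    (hd : r ∣ Nat.card (PSU 3 F q)) : Kill 4 r (PSU 3 F q) ∨ Kill9 r (PSU 3 F q) ∨
      ∀ D : Subgroup (PSU 3 F q), OddTI 4 D → ¬ r ∣ Nat.card D := by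
  have h1 : r ∣ q ^ 3 * ((q ^ 2 - 1) * (q ^ 3 + 1)) := by
    rw [← card_psu3 hF]
    exact Dvd.dvd.mul_right hd _
  rcases (Nat.Prime.dvd_mul hr).1 h1 with h2 | h2
  · exact Or.inr (Or.inr (not_char hF h4 hr h5 (hr.dvd_of_dvd_pow h2)))
  have key : r ∣ q - 1 ∨ r ∣ q + 1 ∨ r ∣ q ^ 2 - q + 1 := by
    rcases (Nat.Prime.dvd_mul hr).1 h2 with h3 | h3
    · rw [sq_sub hF] at h3
      rcases (Nat.Prime.dvd_mul hr).1 h3 with h3 | h3
      · exact Or.inl h3
      · exact Or.inr (Or.inl h3)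
    · have e : q ^ 3 + 1 = (q + 1) * (q ^ 2 - q + 1) := by
        have hqq : q ≤ q ^ 2 := Nat.le_self_pow (by norm_num) q
        zify [hqq]
        ring
      rw [e] at h3
      rcases (Nat.Prime.dvd_mul hr).1 h3 with h3 | h3
      · exact Or.inr (Or.inl h3)
      · exact Or.inr (Or.inr h3)
  rcases key with h3 | h3 | h3
  · rcases kill_pred hF h4 hr h5 h3 with h6 | h6
    · exact Or.inl (h6.kill 4)
    · exact Or.inr (Or.inl h6)
  · exact Or.inr (Or.inr (not_succ hF h4 hr h5 h3))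
  · exact Or.inl (kill_sing hF h4 hr h5 h3 hd)

end Cfsg.Agent.H815.FxU3
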