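import Cfsg.Agent.H815.FxU3D
import Cfsg.Agent.H104.IrrSU

/-!
# Fixity 4: `PSU_3(q)`, odd point stabilizers, the prime 3 (helper815, for helper254)

* `conj_three` : if `3 ∣ q + 1` and `9 ∤ q + 1`, the elements of order 3 of `PSU_3(q)` are conjugate;
* `noTI4_psu3` : the row.
-/

set_option autoImplicit false
set_option linter.unusedSectionVars false
set_option linter.style.haveILetI false

namespace Cfsg.Agent.H815.FxU3

open Matrix Subgroup Cfsg Cfsg.Agent.H254.Fx Cfsg.Agent.H254.Ev Cfsg.Agent.H372.FxU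
open Cfsg.Agent.LieClassical.HermBasic Cfsg.Agent.LieClassical.HermSiegel
open Cfsg.Agent.LieClassical.SUBasic (suDiag coe_suDiag mem_center_SU_iff)
open Cfsg.Agent.ClassicalGeometry.PSUAutBasic (pr pr_surjective pr_eq_one_iff exists_scalar_of_mem_center
  act_suScalar)
open Cfsg.Agent.Phan (ext ext_injective ext_comm emb emb_injective sh sh_injective extM extM_mulVec_of_notMem)

variable {F : Type} [Field F] [Fintype F] {q : ℕ}

section cls

open Polynomial

theorem mat_pow {n : ℕ} (g : ↥(SU n F q)) (k : ℕ) : mat (g ^ k) = mat g ^ k := by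
  induction k with
  | zero => rw [pow_zero, pow_zero, mat_one]
  | succ k ih => rw [pow_succ, pow_succ, mat_mul, ih]

theorem det_mat {n : ℕ} (g : ↥(SU n F q)) : (mat g).det = 1 := g.1.2

theorem center_of_smul {n : ℕ} {g : ↥(SU n F q)} {c : F} (hg : ∀ v, act g v = c • v) :
    g ∈ center ↥(SU n F q) := by
  rw [mem_center_iff]
  intro h
  apply ext_act
  intro v
  rw [act_mul, act_mul, hg, hg, act_smul]

/-- a matrix with `M ^ 3 = c` where `c` is not a cube -/
theorem det_of_cube {M : Matrix (Fin 3) (Fin 3) F} {c : F} (hM : M ^ 3 = c • (1 : Matrix (Fin 3) (Fin 3) F))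
    (hc : ∀ b : F, b ^ 3 ≠ c) : M.det = c := by
  have h1 : Irreducible (X ^ 3 - C c : F[X]) := X_pow_sub_C_irreducible_of_prime Nat.prime_three hc
  have hmon : (X ^ 3 - C c : F[X]).Monic := monic_X_pow_sub_C c (by norm_num)
  have h2 : aeval M (X ^ 3 - C c : F[X]) = 0 := by
    rw [map_sub, map_pow, aeval_X, aeval_C, hM, Algebra.algebraMap_eq_smul_one, sub_self]
  have h3 : (X ^ 3 - C c : F[X]) = minpoly F M := minpoly.eq_of_irreducible_of_monic h1 h2 hmon
  have h4 : (X ^ 3 - C c : F[X]) ∣ M.charpoly := h3 ▸ Matrix.minpoly_dvd_charpoly M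
  have h5 : M.charpoly = X ^ 3 - C c := by
    refine eq_of_monic_of_dvd_of_natDegree_le hmon M.charpoly_monic h4 ?_
    rw [Matrix.charpoly_natDegree_eq_dim, natDegree_X_pow_sub_C, Fintype.card_fin]
  rw [Matrix.det_eq_sign_charpoly_coeff, h5, Fintype.card_fin]
  simp
  ring

/-- elements of order 3 lift to elements of order 3 -/
theorem exists_lift3 (hF : Fintype.card F = q ^ 2) (h3 : 3 ∣ q + 1) (h9 : ¬ 9 ∣ q + 1) {x : PSU 3 F q}
    (hx : orderOf x = 3) : ∃ g : ↥(SU 3 F q), pr 3 F q g = x ∧ g ^ 3 = 1 := by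
  obtain ⟨g, hg⟩ := pr_surjective (n := 3) (F := F) (q := q) x
  refine ⟨g, hg, ?_⟩
  have h1 : g ^ 3 ∈ center ↥(SU 3 F q) := by
    rw [← pr_eq_one_iff, map_pow, hg]
    have := pow_orderOf_eq_one x
    rwa [hx] at this
  obtain ⟨c, hc3, hcq, hgc⟩ := (mem_center_SU_iff hF le_rfl _).1 h1
  obtain ⟨c', hc0, hcq', hact⟩ := exists_scalar_of_mem_center hF le_rfl h1
  have hcc : ∀ v, act (g ^ 3) v = c • v := by
    intro v
    rw [hgc]
    exact act_suScalar hc3 hcq v
  by_cases hc1 : c = 1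
  · apply ext_act
    intro v
    rw [hcc, hc1, one_smul, act_one]
  · exfalso
    have hM : mat g ^ 3 = c • (1 : Matrix (Fin 3) (Fin 3) F) := by
      apply Matrix.ext_of_mulVec_single
      intro i
      rw [← mat_pow, ← act_def, hcc, Matrix.smul_mulVec, Matrix.one_mulVec]
    have h2 := det_of_cube hM (by
      intro b hb
      have hb9 : b ^ 9 = 1 := by
        have : b ^ 9 = (b ^ 3) ^ 3 := by rw [← pow_mul]
        rw [this, hb, hc3]
      have hb3 : b ^ 3 ≠ 1 := by rw [hb]; exact hc1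
      haveI : Fact (Nat.Prime 3) := ⟨Nat.prime_three⟩
      have ho : orderOf b = 3 ^ (1 + 1) := orderOf_eq_prime_pow (by rw [pow_one]; exact hb3) (by norm_num; exact hb9)
      have hb0 : b ≠ 0 := by
        rintro rfl
        rw [zero_pow (by norm_num)] at hb9
        exact zero_ne_one hb9
      have h5 : b ^ (q ^ 2 - 1) = 1 := by
        rw [← hF]
        exact FiniteField.pow_card_sub_one_eq_one b hb0
      have h6 := orderOf_dvd_of_pow_eq_one h5
      rw [ho, sq_sub hF] at h6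
      have h7 : Nat.Coprime (3 ^ (1 + 1)) (q - 1) := by
        refine Nat.Coprime.pow_left _ ?_
        rw [Nat.Prime.coprime_iff_not_dvd Nat.prime_three]
        omega
      exact h9 (by
        have := h7.dvd_of_dvd_mul_left h6
        norm_num at this
        exact this))
    rw [det_mat] at h2
    exact hc1 h2.symm

open Cfsg.Agent.H193 Cfsg.Agent.H193.Types

/-- the characteristic polynomial of an element of order 3 -/
theorem charpoly_three {ω : F} (hω : orderOf ω = 3) {g : ↥(SU 3 F q)} (hg : g ^ 3 = 1)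
    (hc : g ∉ center ↥(SU 3 F q)) :
    (mat g).charpoly = (X - C 1) * (X - C ω) * (X - C (ω ^ 2)) := by
  have hω3 : ω ^ 3 = 1 := by rw [← hω, pow_orderOf_eq_one]
  have hω0 : ω ≠ 0 := by
    rintro rfl
    rw [zero_pow (by norm_num)] at hω3
    exact zero_ne_one hω3
  haveI : NeZero 3 := ⟨by norm_num⟩
  have hprim : IsPrimitiveRoot ω 3 := hω ▸ IsPrimitiveRoot.orderOf ω
  have hζ : IsPrimitiveRoot (algebraMap F (AlgebraicClosure F) ω) 3 :=
    hprim.map_of_injective (algebraMap F (AlgebraicClosure F)).injective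
  have hM : mat g ^ 3 = 1 := by rw [← mat_pow, hg, mat_one]
  obtain ⟨c, hcp⟩ := exists_exp (r := 3) hζ hM
  have h1 : (mat g).charpoly = ∏ i, (X - C (ω ^ (c i).val)) := by
    apply Polynomial.map_injective _ (algebraMap F (AlgebraicClosure F)).injective
    rw [hcp, Polynomial.map_prod]
    refine Finset.prod_congr rfl fun i _ => ?_
    rw [Polynomial.map_sub, Polynomial.map_X, Polynomial.map_C, map_pow (algebraMap F (AlgebraicClosure F))]
  have h2 : (Matrix.diagonal fun i => ω ^ (c i).val).charpoly = (mat g).charpoly := by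
    rw [Matrix.charpoly_diagonal, h1]
  have h3 : ω ^ ((c 0).val + (c 1).val + (c 2).val) = 1 := by
    have h4 := det_mat g
    rw [Matrix.det_eq_sign_charpoly_coeff, ← h2, ← Matrix.det_eq_sign_charpoly_coeff, Matrix.det_diagonal,
      Fin.prod_univ_three, ← pow_add, ← pow_add] at h4
    exact h4
  have h4 := orderOf_dvd_of_pow_eq_one h3
  rw [hω] at h4
  -- equal eigenvalues
  have hconst : ∀ a : ℕ, (mat g).charpoly = (X - C (ω ^ a)) * (X - C (ω ^ a)) * (X - C (ω ^ a)) → False := by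
    intro a ha
    apply hc
    have hz0 : ω ^ a ≠ 0 := pow_ne_zero _ hω0
    have hz3 : (ω ^ a) ^ 3 = 1 := by rw [← pow_mul, mul_comm, pow_mul, hω3, one_pow]
    obtain ⟨A, hA⟩ : ∃ A : GL (Fin 3) F, (A : Matrix (Fin 3) (Fin 3) F) = mat g := by
      refine ⟨Matrix.SpecialLinearGroup.toGL g.1, rfl⟩
    obtain ⟨B, hB⟩ : ∃ B : GL (Fin 3) F, (B : Matrix (Fin 3) (Fin 3) F) = Matrix.diagonal fun _ => ω ^ a := by
      refine ⟨Matrix.GeneralLinearGroup.mkOfDetNeZero (Matrix.diagonal fun _ => ω ^ a) ?_, rfl⟩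
      rw [Matrix.det_diagonal]
      exact Finset.prod_ne_zero_iff.2 fun _ _ => hz0
    have h5 : IsConj A B := by
      refine SsConj.isConj_of_charpoly A B (X ^ 3 - 1) (squarefree_X_pow_sub_one hζ) ?_ ?_ ?_
      · exact aeval_pow_sub_one (by rw [hA]; exact hM)
      · refine aeval_pow_sub_one ?_
        rw [hB, Matrix.diagonal_pow]
        have : (fun _ : Fin 3 => ω ^ a) ^ 3 = 1 := by
          funext i
          exact hz3
        rw [this]
        exact Matrix.diagonal_one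
      · rw [hA, hB, ha, Matrix.charpoly_diagonal, Fin.prod_univ_three]
    obtain ⟨S, hS⟩ := isConj_iff.1 h5
    have h6 : S * A = B * S := by rw [← hS]; group
    have h7 : B * S = S * B := by
      apply Units.ext
      rw [Units.val_mul, Units.val_mul, hB]
      have h8 : (Matrix.diagonal fun _ : Fin 3 => ω ^ a) = (ω ^ a) • (1 : Matrix (Fin 3) (Fin 3) F) := by
        rw [Matrix.smul_one_eq_diagonal]
      rw [h8, smul_mul_assoc, one_mul, mul_smul_comm, mul_one]
    rw [h7] at h6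
    have h9 : A = B := mul_left_cancel h6
    refine center_of_smul (c := ω ^ a) fun v => ?_
    rw [act_def, ← hA, h9, hB]
    funext i
    rw [Matrix.mulVec_diagonal]
    rfl
  rw [Fin.prod_univ_three] at h1
  have e0 := ZMod.val_lt (c 0)
  have e1 := ZMod.val_lt (c 1)
  have e2 := ZMod.val_lt (c 2)
  obtain ⟨a, ha⟩ : ∃ a, a = (c 0).val := ⟨_, rfl⟩
  obtain ⟨b, hb⟩ : ∃ b, b = (c 1).val := ⟨_, rfl⟩
  obtain ⟨d, hd⟩ : ∃ d, d = (c 2).val := ⟨_, rfl⟩
  rw [← ha, ← hb, ← hd] at h1 h4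
  rw [← ha] at e0
  rw [← hb] at e1
  rw [← hd] at e2
  have key : (a = b ∧ b = d) ∨ (a = 0 ∧ b = 1 ∧ d = 2) ∨ (a = 0 ∧ b = 2 ∧ d = 1) ∨ (a = 1 ∧ b = 0 ∧ d = 2) ∨
      (a = 1 ∧ b = 2 ∧ d = 0) ∨ (a = 2 ∧ b = 0 ∧ d = 1) ∨ (a = 2 ∧ b = 1 ∧ d = 0) := by omega
  rcases key with ⟨rfl, rfl⟩ | ⟨rfl, rfl, rfl⟩ | ⟨rfl, rfl, rfl⟩ | ⟨rfl, rfl, rfl⟩ | ⟨rfl, rfl, rfl⟩ | ⟨rfl, rfl, rfl⟩ |
    ⟨rfl, rfl, rfl⟩
  · exact (hconst a h1).elim
  all_goals
    rw [h1, pow_zero, pow_one]
    try ring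

/-- **the elements of order 3 are conjugate** -/
theorem conj_three (hF : Fintype.card F = q ^ 2) (h3 : 3 ∣ q + 1) (h9 : ¬ 9 ∣ q + 1) {x y : PSU 3 F q}
    (hx : orderOf x = 3) (hy : orderOf y = 3) : ∃ g : PSU 3 F q, g * x * g⁻¹ = y := by
  haveI : Fact (Nat.Prime 3) := ⟨Nat.prime_three⟩
  obtain ⟨g, hg, hg3⟩ := exists_lift3 hF h3 h9 hx
  obtain ⟨h, hh, hh3⟩ := exists_lift3 hF h3 h9 hy
  have hgc : g ∉ center ↥(SU 3 F q) := by
    intro h5
    rw [← pr_eq_one_iff, hg] at h5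
    rw [h5, orderOf_one] at hx
    omega
  have hhc : h ∉ center ↥(SU 3 F q) := by
    intro h5
    rw [← pr_eq_one_iff, hh] at h5
    rw [h5, orderOf_one] at hy
    omega
  obtain ⟨ω, -, hω⟩ := exists_unit hF (s := 3) (by rw [sq_sub hF]; exact Dvd.dvd.mul_left h3 _)
  have h3q : ¬ 3 ∣ q := by omega
  have h3F := cast_ne_zero Nat.prime_three hF h3q
  obtain ⟨ζ, hζ⟩ := ClassCount.exists_root (F := F) Nat.prime_three h3F
  have hq0 : (q : ZMod 3) ≠ 0 := fun h5 => h3q ((ZMod.natCast_eq_zero_iff _ _).1 h5)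
  obtain ⟨w, hw⟩ := ClassCount.exists_unit hq0
  have hconj : IsConj g h := by
    refine H104.IrrSU.su_conj hζ hF w hw hg3 hh3 ?_ ?_
    · intro h5
      apply hgc
      rw [h5]
      exact one_mem _
    · have h5 : (mat g).charpoly = (mat h).charpoly := by
        rw [charpoly_three hω hg3 hgc, charpoly_three hω hh3 hhc]
      have h6 : ((H104.IrrSU.suHom 3 q F g : GL (Fin 3) F) : Matrix (Fin 3) (Fin 3) F) = mat g := rfl
      have h7 : ((H104.IrrSU.suHom 3 q F h : GL (Fin 3) F) : Matrix (Fin 3) (Fin 3) F) = mat h := rfl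
      rw [h6, h7]
      unfold ty
      rw [h5]
  obtain ⟨u, hu⟩ := isConj_iff.1 hconj
  exact ⟨pr 3 F q u, by rw [← hg, ← hh, ← hu, map_mul, map_mul, map_inv]⟩

end cls

end Cfsg.Agent.H815.FxU3
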