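import Mathlib
import Cfsg.Prelude.Def_Transfer
import Cfsg.Agent.H815.HnLoc
import Cfsg.Agent.H261.Reduction

set_option autoImplicit false

/-!
# Groups with `C_G(Z) = 3^{1+4} : SL(2,5)` (helper815)

The global context `GC`.
-/

namespace Cfsg.Agent.H815.HnG

open Subgroup Cfsg Cfsg.Agent.H815.HnSl Cfsg.Agent.H815.HnLoc

/-- the centralizer of `Z` is `3^{1+4} : SL(2,5)`; `S` is a Sylow subgroup with centre `Z` -/
structure GC {G : Type*} [Group G] (S : Sylow 3 G) (Z Q : Subgroup G)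
    (π : ↥(centralizer (Z : Set G)) →* L) : Prop where
  lc : LC (Z.subgroupOf (centralizer (Z : Set G))) (Q.subgroupOf (centralizer (Z : Set G))) π
  cardZ : Nat.card Z = 3
  le : Z ≤ Q
  QC : Q ≤ centralizer (Z : Set G)
  SC : (S : Subgroup G) ≤ centralizer (Z : Set G)
  QS : Q ≤ S
  cardS : Nat.card S = 729
  CQ : centralizer (Q : Set G) ≤ Q
  ZS : ∀ x ∈ (S : Subgroup G), (∀ s ∈ (S : Subgroup G), s * x = x * s) → x ∈ Z

theorem setup {G : Type*} [Group G] [Finite G]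
    (S : Sylow 3 G) (Z : Subgroup G) (hZ : Z = (S : Subgroup G) ⊓ Subgroup.centralizer ((S : Subgroup G) : Set G))
    (C : Subgroup G) (hCZ : C = Subgroup.centralizer (Z : Set G))
    (Q : Subgroup G) (hQ : Q = (Cfsg.pCore 3 C).map C.subtype)
    (hQex : Cfsg.IsExtraspecial 3 Q) (hQcard : Nat.card Q = 3 ^ 5) (hQexp : ∀ a ∈ Q, a ^ 3 = 1)
    (hCQ : Subgroup.centralizer (Q : Set G) ≤ Q)
    (e : C ⧸ Cfsg.pCore 3 C ≃* Matrix.SpecialLinearGroup (Fin 2) (ZMod 5)) :
    ∃ π : ↥(centralizer (Z : Set G)) →* L, GC S Z Q π := by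
  have h3 : Fact (Nat.Prime 3) := ⟨Nat.prime_three⟩
  subst hCZ
  set C : Subgroup G := centralizer (Z : Set G) with hC
  have hQsub : Q.subgroupOf C = pCore 3 ↥C := by
    rw [hQ, Subgroup.subgroupOf, Subgroup.comap_map_eq_self_of_injective (Subgroup.subtype_injective C)]
  have hQC : Q ≤ C := by
    rw [hQ]
    exact Subgroup.map_subtype_le _
  have hSC : (S : Subgroup G) ≤ C := by
    intro s hs
    rw [hC, Subgroup.mem_centralizer_iff]
    intro z hz
    have hz' : z ∈ Z := hz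
    rw [hZ] at hz'
    exact ((Subgroup.mem_centralizer_iff.1 hz'.2) s hs).symm
  have hQS : Q ≤ S := by
    have h1 := Cfsg.Agent.Lib.Cores.pCore_le_sylow (S.subtype hSC)
    intro x hx
    have h2 : (⟨x, hQC hx⟩ : ↥C) ∈ pCore 3 ↥C := by
      rw [← hQsub]
      exact hx
    exact h1 h2
  have hZC : Z ≤ C := by
    intro z hz
    rw [hC, Subgroup.mem_centralizer_iff]
    intro y hy
    have hy' : y ∈ Z := hy
    rw [hZ] at hz hy'
    exact (Subgroup.mem_centralizer_iff.1 hz.2) y hy'.1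
  have hZQ : Z ≤ Q := by
    refine le_trans ?_ hCQ
    intro z hz
    rw [Subgroup.mem_centralizer_iff]
    intro q hq
    rw [hZ] at hz
    exact (Subgroup.mem_centralizer_iff.1 hz.2) q (hQS hq)
  obtain ⟨⟨hQp, hQfr, hQcomm⟩, hQcen⟩ := hQex
  -- the centre of `Q`
  have hcen : ∀ x (hx : x ∈ Q), (∀ y ∈ Q, y * x = x * y) ↔ (⟨x, hx⟩ : ↥Q) ∈ center ↥Q := by
    intro x hx
    rw [Subgroup.mem_center_iff]
    constructor
    · intro h y
      exact Subtype.ext (h y y.2)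
    · intro h y hy
      exact congrArg Subtype.val (h ⟨y, hy⟩)
  have hZsub : Z.subgroupOf Q ≤ center ↥Q := by
    intro z hz
    have hz' : (z : G) ∈ Z := hz
    refine (hcen z z.2).1 fun y hy => ?_
    exact ((Subgroup.mem_centralizer_iff.1 (hQC hy)) z hz').symm
  have hZne : Z ≠ ⊥ := by
    intro hb
    have h1 : Nontrivial ↥S := by
      have : Finite ↥S := inferInstance
      rw [← Finite.one_lt_card_iff_nontrivial]
      have h2 := Subgroup.card_le_of_le hQS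
      rw [hQcard] at h2
      exact lt_of_lt_of_le (by norm_num) h2
    have h2 : Nontrivial (center ↥S) := S.isPGroup'.center_nontrivial
    obtain ⟨⟨⟨x, hxS⟩, hx⟩, hx1⟩ := exists_ne (1 : center ↥S)
    apply hx1
    have h3 : x ∈ Z := by
      rw [hZ]
      refine ⟨hxS, Subgroup.mem_centralizer_iff.2 ?_⟩
      intro y hy
      exact congrArg Subtype.val ((Subgroup.mem_center_iff.1 hx) ⟨y, hy⟩)
    rw [hb, Subgroup.mem_bot] at h3
    exact Subtype.ext (Subtype.ext h3)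
  have hcardZsub : Nat.card ↥(Z.subgroupOf Q) = Nat.card Z := Nat.card_congr (Subgroup.subgroupOfEquivOfLe hZQ).toEquiv
  have hcardZ : Nat.card Z = 3 := by
    have h1 := Subgroup.card_dvd_of_le hZsub
    rw [hcardZsub, hQcen] at h1
    rcases (Nat.dvd_prime Nat.prime_three).1 h1 with h2 | h2
    · exact absurd (Subgroup.eq_bot_of_card_eq _ h2) hZne
    · exact h2
  have hZeq : Z.subgroupOf Q = center ↥Q := by
    refine Subgroup.eq_of_le_of_card_ge hZsub ?_
    rw [hcardZsub, hcardZ, hQcen]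
  have hcen' : ∀ x ∈ Q, (∀ y ∈ Q, y * x = x * y) → x ∈ Z := by
    intro x hx h
    have h1 := (hcen x hx).1 h
    rw [← hZeq] at h1
    exact h1
  let π : ↥C →* L := e.toMonoidHom.comp (QuotientGroup.mk' (pCore 3 ↥C))
  have hker : π.ker = pCore 3 ↥C := by
    ext x
    rw [MonoidHom.mem_ker]
    change e (QuotientGroup.mk' (pCore 3 ↥C) x) = 1 ↔ _
    rw [MulEquiv.map_eq_one_iff]
    exact QuotientGroup.eq_one_iff x
  have hlc : LC (Z.subgroupOf C) (Q.subgroupOf C) π :=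
    { cardZ := by rw [Nat.card_congr (Subgroup.subgroupOfEquivOfLe hZC).toEquiv, hcardZ]
      cardQ := by rw [Nat.card_congr (Subgroup.subgroupOfEquivOfLe hQC).toEquiv, hQcard]; norm_num
      exp := fun a ha => Subtype.ext (hQexp a ha)
      le := fun z hz => hZQ hz
      central := by
        intro z hz
        rw [Subgroup.mem_center_iff]
        intro c
        exact Subtype.ext (((Subgroup.mem_centralizer_iff.1 c.2) z hz).symm)
      comm := by
        intro a ha b hb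
        have h1 : (⟨a, ha⟩ : ↥Q) * ⟨b, hb⟩ * (⟨a, ha⟩ : ↥Q)⁻¹ * (⟨b, hb⟩ : ↥Q)⁻¹ ∈ commutator ↥Q :=
          Subgroup.commutator_mem_commutator (Subgroup.mem_top _) (Subgroup.mem_top _)
        rw [hQcomm, ← hZeq] at h1
        exact h1
      cen := fun x hx h => hcen' x hx fun y hy => congrArg Subtype.val (h ⟨y, hQC hy⟩ hy)
      CQ := by
        intro x h
        refine hCQ ?_
        rw [Subgroup.mem_centralizer_iff]
        intro y hy
        exact congrArg Subtype.val (h ⟨y, hQC hy⟩ hy)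
      ker := by rw [hker, hQsub]
      surj := e.surjective.comp (QuotientGroup.mk'_surjective _) }
  refine ⟨π, ⟨hlc, hcardZ, hZQ, hQC, hSC, hQS, ?_, hCQ, ?_⟩⟩
  · have hcC : Nat.card ↥C = 29160 := hlc.card
    have h1 : 3 ^ 6 ∣ Nat.card ↥(S : Subgroup G) := by
      refine S.pow_dvd_card_of_pow_dvd_card ?_
      refine Dvd.dvd.trans ?_ (Subgroup.card_subgroup_dvd_card C)
      rw [hcC]
      norm_num
    have h2 := Subgroup.card_dvd_of_le hSC
    rw [hcC] at h2
    obtain ⟨k, hk⟩ := IsPGroup.iff_card.1 S.isPGroup'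
    have hk' : Nat.card ↥(S : Subgroup G) = 3 ^ k := hk
    rw [hk'] at h1 h2
    have h4 : 6 ≤ k := (Nat.pow_dvd_pow_iff_le_right (by norm_num)).1 h1
    have h5 : k ≤ 6 := by
      by_contra hcon
      push Not at hcon
      have h6 : 3 ^ 7 ∣ 29160 := (Nat.pow_dvd_pow 3 hcon).trans h2
      revert h6
      norm_num
    have h6 : k = 6 := by omega
    change Nat.card ↥(S : Subgroup G) = 729
    rw [hk', h6]
    norm_num
  · intro x hx h
    rw [hZ]
    exact ⟨hx, Subgroup.mem_centralizer_iff.2 h⟩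


namespace GC

variable {G : Type*} [Group G] [Finite G] {S : Sylow 3 G} {Z Q : Subgroup G}
  {π : ↥(centralizer (Z : Set G)) →* L} (h : GC S Z Q π)
include h

omit [Finite G] in
theorem mem_C_iff {z : G} (hz : z ∈ Z) (hz1 : z ≠ 1) {x : G} : x ∈ centralizer (Z : Set G) ↔ x * z = z * x := by
  constructor
  · intro hx
    exact ((Subgroup.mem_centralizer_iff.1 hx) z hz).symm
  · intro hx
    rw [Subgroup.mem_centralizer_iff]
    intro y hy
    have h1 : Z ≤ zpowers z := H261.eq_of_mem_of_card_prime Nat.prime_three h.cardZ hz hz1 (mem_zpowers z)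
    obtain ⟨n, rfl⟩ := mem_zpowers_iff.1 (h1 hy)
    have h2 : Commute x z := hx
    exact (h2.zpow_right n).eq.symm

omit [Finite G] in
theorem centralizer_eq {z : G} (hz : z ∈ Z) (hz1 : z ≠ 1) : centralizer {z} = centralizer (Z : Set G) := by
  ext x
  rw [h.mem_C_iff hz hz1, mem_centralizer_singleton_iff]

omit [Finite G] in
theorem exists_gen : ∃ z ∈ Z, z ≠ 1 := by
  by_contra hcon
  push Not at hcon
  have h1 : Z = ⊥ := (Subgroup.eq_bot_iff_forall _).2 hcon
  have h2 := h.cardZ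
  rw [h1, Subgroup.card_bot] at h2
  norm_num at h2

omit [Finite G] in
theorem conj_Q {c q : G} (hc : c ∈ centralizer (Z : Set G)) (hq : q ∈ Q) : c * q * c⁻¹ ∈ Q := by
  have h1 := h.lc.normalQ.conj_mem ⟨q, h.QC hq⟩ hq ⟨c, hc⟩
  exact h1

/-- the local hypothesis of `H261` -/
theorem loc : H261.Loc 3 Z Q where
  card := h.cardZ
  le := h.le
  leC := h.QC
  pQ := S.isPGroup'.to_le h.QS
  norm := H261.le_normalizer_of_conj fun c hc y hy => h.conj_Q hc hy
  cent := h.CQ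
  ab := by
    intro A hAC hn hc
    have hA : (A.subgroupOf (centralizer (Z : Set G))).Normal := by
      refine ⟨fun a ha c => ?_⟩
      exact (Subgroup.mem_normalizer_iff.1 (hn c.2) a).1 ha
    have h1 := h.lc.ab hA fun a ha b hb => Subtype.ext (hc a ha b hb)
    intro a ha
    exact h1 (x := ⟨a, hAC ha⟩) ha

omit [Finite G] in
/-- conjugates of elements of `Q \ Z` by elements of `Q` -/
theorem exists_conj {q : G} (hq : q ∈ Q) (hqZ : q ∉ Z) {z : G} (hz : z ∈ Z) : ∃ r ∈ Q, r * q * r⁻¹ = z * q := by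
  obtain ⟨r, hr, h1⟩ := h.lc.exists_conj (q := ⟨q, h.QC hq⟩) hq hqZ (z := ⟨z, h.QC (h.le hz)⟩) hz
  exact ⟨r, hr, congrArg Subtype.val h1⟩

/-- `O_{3'}(G) = 1`. -/
theorem core_eq_bot (hw : ∃ x : G, Z.map (MulAut.conj x).toMonoidHom ≤ Q ∧ Z.map (MulAut.conj x).toMonoidHom ≠ Z) :
    pPrimeCore 3 G = ⊥ := by
  have h3 : Fact (Nat.Prime 3) := ⟨Nat.prime_three⟩
  obtain ⟨x, hx, hxne⟩ := hw
  obtain ⟨z, hz, hz1⟩ := h.exists_gen
  obtain ⟨N, hN⟩ : ∃ N, N = pPrimeCore 3 G := ⟨_, rfl⟩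
  have hNn : N.Normal := by rw [hN]; exact Cfsg.Agent.Lib.Cores.pPrimeCore_normal 3
  have hNc : (Nat.card N).Coprime 3 := by rw [hN]; exact Cfsg.Agent.Lib.Cores.pPrimeCore_coprime 3
  rw [← hN]
  -- the centralizer of `Z` in `N`
  have hNZ : N ⊓ centralizer (Z : Set G) = ⊥ := by
    rw [Subgroup.eq_bot_iff_forall]
    rintro n ⟨hn, hnC⟩
    have h1 : n ∈ Q := by
      refine h.CQ ?_
      rw [Subgroup.mem_centralizer_iff]
      intro q hq
      have h2 : q * n * q⁻¹ * n⁻¹ ∈ N := N.mul_mem (hNn.conj_mem n hn q) (N.inv_mem hn)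
      have h3 : q * n * q⁻¹ * n⁻¹ ∈ Q := by
        have : q * n * q⁻¹ * n⁻¹ = q * (n * q⁻¹ * n⁻¹) := by group
        rw [this]
        exact Q.mul_mem hq (h.conj_Q hnC (Q.inv_mem hq))
      have h4 : Nat.card ↥(N ⊓ Q : Subgroup G) = 1 := by
        have h5 : (Nat.card ↥N).Coprime (Nat.card ↥Q) := by
          obtain ⟨k, hk⟩ := IsPGroup.iff_card.1 (S.isPGroup'.to_le h.QS)
          rw [hk]
          exact Nat.Coprime.pow_right k hNc
        exact Nat.eq_one_of_dvd_coprimes h5 (Subgroup.card_dvd_of_le inf_le_left) (Subgroup.card_dvd_of_le inf_le_right)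
      have h5 : q * n * q⁻¹ * n⁻¹ ∈ (N ⊓ Q : Subgroup G) := ⟨h2, h3⟩
      rw [Subgroup.eq_bot_of_card_eq _ h4, Subgroup.mem_bot] at h5
      rwa [mul_inv_eq_one, mul_inv_eq_iff_eq_mul] at h5
    have h4 : Nat.card ↥(N ⊓ Q : Subgroup G) = 1 := by
      have h5 : (Nat.card ↥N).Coprime (Nat.card ↥Q) := by
        obtain ⟨k, hk⟩ := IsPGroup.iff_card.1 (S.isPGroup'.to_le h.QS)
        rw [hk]
        exact Nat.Coprime.pow_right k hNc
      exact Nat.eq_one_of_dvd_coprimes h5 (Subgroup.card_dvd_of_le inf_le_left) (Subgroup.card_dvd_of_le inf_le_right)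
    have h5 : n ∈ (N ⊓ Q : Subgroup G) := ⟨hn, h1⟩
    rwa [Subgroup.eq_bot_of_card_eq _ h4, Subgroup.mem_bot] at h5
  -- the centralizers of the conjugates of `z` in `N`
  have hNz : ∀ g : G, ∀ n ∈ N, n * (g * z * g⁻¹) = (g * z * g⁻¹) * n → n = 1 := by
    intro g n hn hc
    have h1 : g⁻¹ * n * g ∈ N ⊓ centralizer (Z : Set G) := by
      refine ⟨?_, ?_⟩
      · have := hNn.conj_mem n hn g⁻¹
        simpa using this
      · refine (h.mem_C_iff hz hz1).2 ?_
        calc g⁻¹ * n * g * z = g⁻¹ * (n * (g * z * g⁻¹)) * g := by group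
          _ = g⁻¹ * (g * z * g⁻¹ * n) * g := by rw [hc]
          _ = z * (g⁻¹ * n * g) := by group
    rw [hNZ, Subgroup.mem_bot] at h1
    calc n = g * (g⁻¹ * n * g) * g⁻¹ := by group
      _ = 1 := by rw [h1]; group
  -- the conjugate `y`
  obtain ⟨y, hy⟩ : ∃ y, y = x * z * x⁻¹ := ⟨_, rfl⟩
  have hyQ : y ∈ Q := by
    rw [hy]
    exact hx ⟨z, hz, rfl⟩
  have hyZ : y ∉ Z := by
    intro hyZ
    apply hxne
    have h1 : Nat.card ↥(Z.map (MulAut.conj x).toMonoidHom) = 3 := by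
      rw [Subgroup.card_map_of_injective (MulAut.conj x).injective, h.cardZ]
    have h2 : Z.map (MulAut.conj x).toMonoidHom ≤ Z := by
      refine H261.eq_of_mem_of_card_prime Nat.prime_three h1 (x := y) ⟨z, hz, hy.symm⟩ ?_ hyZ
      rw [hy]
      intro h3
      exact hz1 (conj_eq_one_iff.1 h3)
    exact Subgroup.eq_of_le_of_card_ge h2 (by rw [h1, h.cardZ])
  -- the elements of `Z y`
  have hzy : ∀ w ∈ Z, ∀ n ∈ N, n * (w * y) = (w * y) * n → n = 1 := by
    intro w hw n hn hc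
    obtain ⟨r, hr, h1⟩ := h.exists_conj hyQ hyZ hw
    apply hNz (r * x) n hn
    have h2 : r * x * z * (r * x)⁻¹ = w * y := by
      rw [← h1, hy]
      group
    rw [h2]
    exact hc
  -- the elementary abelian subgroup
  have hcomm : ∀ w ∈ Z, w * y = y * w := fun w hw => ((Subgroup.mem_centralizer_iff.1 (h.QC hyQ)) w hw)
  have hcz : ∀ w ∈ Z, ∀ i : ℤ, y ^ i * w = w * y ^ i := fun w hw i =>
    (Commute.zpow_left (show Commute y w from (hcomm w hw).symm) i).eq
  have hy3 : y ^ 3 = 1 := congrArg Subtype.val (h.lc.exp ⟨y, h.QC hyQ⟩ hyQ)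
  have hZ3 : ∀ w ∈ Z, w ^ 3 = 1 := fun w hw => congrArg Subtype.val (h.lc.exp ⟨w, h.QC (h.le hw)⟩ (h.le hw))
  let A : Subgroup G :=
    { carrier := {a | ∃ w ∈ Z, ∃ i : ℤ, a = w * y ^ i}
      mul_mem' := by
        rintro _ _ ⟨w, hw, i, rfl⟩ ⟨v, hv, j, rfl⟩
        refine ⟨w * v, Z.mul_mem hw hv, i + j, ?_⟩
        rw [zpow_add]
        calc w * y ^ i * (v * y ^ j) = w * (y ^ i * v) * y ^ j := by group
          _ = w * (v * y ^ i) * y ^ j := by rw [hcz v hv i]
          _ = w * v * (y ^ i * y ^ j) := by group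
      one_mem' := ⟨1, Z.one_mem, 0, by simp⟩
      inv_mem' := by
        rintro _ ⟨w, hw, i, rfl⟩
        refine ⟨w⁻¹, Z.inv_mem hw, -i, ?_⟩
        rw [mul_inv_rev, ← zpow_neg, hcz _ (Z.inv_mem hw)] }
  have hmemA : ∀ a, a ∈ A ↔ ∃ w ∈ Z, ∃ i : ℤ, a = w * y ^ i := fun a => Iff.rfl
  have hAc : ∀ a ∈ A, ∀ b ∈ A, a * b = b * a := by
    rintro _ ⟨w, hw, i, rfl⟩ _ ⟨v, hv, j, rfl⟩
    have hwv : w * v = v * w := ((Subgroup.mem_centralizer_iff.1 (h.QC (h.le hw))) v hv).symm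
    calc w * y ^ i * (v * y ^ j) = w * (y ^ i * v) * y ^ j := by group
      _ = w * (v * y ^ i) * y ^ j := by rw [hcz v hv i]
      _ = (w * v) * (y ^ j * y ^ i) := by group
      _ = v * (w * y ^ j) * y ^ i := by rw [hwv]; group
      _ = v * (y ^ j * w) * y ^ i := by rw [hcz w hw j]
      _ = v * y ^ j * (w * y ^ i) := by group
  have hA3 : ∀ a ∈ A, a ^ 3 = 1 := by
    rintro _ ⟨w, hw, i, rfl⟩
    have h1 : Commute w (y ^ i) := (hcz w hw i).symm
    rw [h1.mul_pow, hZ3 w hw, one_mul, ← zpow_natCast, ← zpow_mul, mul_comm, zpow_mul, zpow_natCast, hy3, one_zpow]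
  have hfix : ∀ a ∈ A, a ≠ 1 → ∀ n ∈ N, n * a = a * n → n = 1 := by
    rintro _ ⟨w, hw, i, rfl⟩ ha1 n hn hc
    have hi : y ^ i = y ^ (i % 3) := by
      conv_lhs => rw [← Int.mul_ediv_add_emod i 3, zpow_add, zpow_mul]
      have : y ^ (3 : ℤ) = 1 := by rw [← hy3]; norm_cast
      rw [this, one_zpow, one_mul]
    rw [hi] at ha1 hc
    have h0 : 0 ≤ i % 3 := Int.emod_nonneg i (by norm_num)
    have h1 : i % 3 < 3 := Int.emod_lt_of_pos i (by norm_num)
    have h2 : i % 3 = 0 ∨ i % 3 = 1 ∨ i % 3 = 2 := by omega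
    rcases h2 with h2 | h2 | h2
    · rw [h2, zpow_zero, mul_one] at ha1 hc
      have h3 : n ∈ N ⊓ centralizer (Z : Set G) := ⟨hn, (h.mem_C_iff hw ha1).2 hc⟩
      rwa [hNZ, Subgroup.mem_bot] at h3
    · rw [h2, zpow_one] at hc
      exact hzy w hw n hn hc
    · refine hzy w⁻¹ (Z.inv_mem hw) n hn ?_
      have h4 : w⁻¹ * y = (w * y ^ (2 : ℤ))⁻¹ := by
        have h5 : y ^ (2 : ℤ) = y⁻¹ := by
          have : y ^ (2 : ℤ) = y ^ 3 * y⁻¹ := by
            rw [pow_succ, mul_inv_cancel_right]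
            norm_cast
          rw [this, hy3, one_mul]
        rw [h5, mul_inv_rev, inv_inv, ← hcomm _ (Z.inv_mem hw)]
      rw [h4]
      rw [h2] at hc
      have h6 : Commute n (w * y ^ (2 : ℤ)) := hc
      exact h6.inv_right.eq
  have hZA : Z ≤ A := fun w hw => ⟨w, hw, 0, by simp⟩
  have hyA : y ∈ A := ⟨1, Z.one_mem, 1, by simp⟩
  have hel : Cfsg.IsElementaryAbelian 3 A := ⟨⟨⟨fun a b => Subtype.ext (hAc a a.2 b b.2)⟩⟩, hA3⟩
  have hA1 : A ≠ ⊥ := by
    intro hb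
    exact hz1 (by
      have := hZA hz
      rw [hb, Subgroup.mem_bot] at this
      exact this)
  have hNN : A ≤ normalizer (N : Set G) := by
    rw [Subgroup.normalizer_eq_top]
    exact le_top
  have hgen := Cfsg.Agent.Lib.CoprimeHyperplane.le_iSup_hyperplane A N hel hA1 hNc hNN
  rw [eq_bot_iff, hgen]
  refine iSup_le ?_
  rintro ⟨B, hB, hB3⟩
  change N ⊓ centralizer (B : Set G) ≤ ⊥
  obtain ⟨b, hb, hb1⟩ : ∃ b ∈ B, b ≠ 1 := by
    by_contra hcon
    push Not at hcon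
    have h1 : B = ⊥ := (Subgroup.eq_bot_iff_forall _).2 hcon
    rw [h1, Subgroup.relIndex_bot_left] at hB3
    have h2 : Z = A := Subgroup.eq_of_le_of_card_ge hZA (by rw [hB3, h.cardZ])
    apply hyZ
    rw [h2]
    exact hyA
  rintro n ⟨hn, hnB⟩
  rw [Subgroup.mem_bot]
  exact hfix b (hB hb) hb1 n hn ((Subgroup.mem_centralizer_iff.1 hnB) b hb).symm

end GC

end Cfsg.Agent.H815.HnG
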