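import Cfsg.Agent.S1233
import Cfsg.Agent.GH.LowRankQ8
import Cfsg.Prelude.Def_Classical

/-!
# Sectional 2-rank of `L₄(q)` and `U₄(q)`  (helper815)

* `rank_of_quat` : two commuting quaternion groups with the same centre whose product contains the 2-elements
  of its centralizer;
* `rank_four` : linear groups of degree 4 containing `Q8 × Q8` block-diagonally.
-/

set_option autoImplicit false

namespace Cfsg.Agent.H815.RankL4

open Matrix Cfsg Cfsg.Agent Subgroup Cfsg.Agent.GH.LowRankQ8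

/-- **S1233 for a finite group.** -/
theorem rank_of_quat {X : Type*} [Group X] [Finite X] (f g : Q8 →* X) (hf : Function.Injective f)
    (hg : Function.Injective g) (hc : ∀ u v, Commute (f u) (g v)) (hz : f zz = g zz)
    (hC : ∀ s : X, (∀ u, s * f u = f u * s) → (∀ v, s * g v = g v * s) → (∃ k : ℕ, s ^ 2 ^ k = 1) →
      ∃ u v, s = f u * g v) : SectionalPRankLE 2 4 X := by
  have : Fact (Nat.Prime 2) := ⟨Nat.prime_two⟩
  have hi : ∀ u v, f u = g v → u = 1 ∨ u = zz := by
    intro u v huv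
    have h1 : ∀ w, u * w = w * u := by
      intro w
      apply hf
      rw [map_mul, map_mul, huv]
      exact (hc w v).symm.eq
    have h2 : ∀ u : Q8, (∀ w, u * w = w * u) → u = 1 ∨ u = zz := by decide
    exact h2 u h1
  -- a Sylow 2-subgroup containing the product
  have hp : IsPGroup 2 (Q8 × Q8) := IsPGroup.of_card (n := 6) (by
    rw [Nat.card_prod, Nat.card_eq_fintype_card]; rfl)
  obtain ⟨S, hS⟩ := (hp.of_surjective (MonoidHom.noncommCoprod f g hc).rangeRestrict
    (MonoidHom.noncommCoprod f g hc).rangeRestrict_surjective).exists_le_sylow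
  have hfS : ∀ u, f u ∈ (S : Subgroup X) := fun u => hS ⟨(u, 1), by
    rw [MonoidHom.noncommCoprod_apply, map_one, mul_one]⟩
  have hgS : ∀ u, g u ∈ (S : Subgroup X) := fun u => hS ⟨(1, u), by
    rw [MonoidHom.noncommCoprod_apply, map_one, one_mul]⟩
  let f' : Q8 →* ↥(S : Subgroup X) := f.codRestrict _ hfS
  let g' : Q8 →* ↥(S : Subgroup X) := g.codRestrict _ hgS
  have hf' : Function.Injective f' := fun a b h => hf (congrArg Subtype.val h)
  have hg' : Function.Injective g' := fun a b h => hg (congrArg Subtype.val h)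
  have hc' : ∀ u v, Commute (f' u) (g' v) := fun u v => Subtype.ext (hc u v).eq
  rw [← GH.Rank.sylow_iff S]
  refine Cfsg.Agent.S1233.result S.isPGroup' (f'.range ⊔ g'.range) f'.range g'.range
    (MonoidHom.ofInjective hf').symm (MonoidHom.ofInjective hg').symm ?_ rfl ?_ ?_
  · rintro _ ⟨u, rfl⟩ _ ⟨v, rfl⟩
    exact (hc' u v).eq
  · rw [← MonoidHom.noncommCoprod_range (comm := hc')]
    have h1 := (MonoidHom.noncommCoprod f' g' hc').ker.card_mul_index
    rw [index_ker] at h1
    have h3 : Nat.card ↥(MonoidHom.noncommCoprod f' g' hc').ker = 2 := by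
      have h4 : ((MonoidHom.noncommCoprod f' g' hc').ker : Set (Q8 × Q8)) = {(1, 1), (zz, zz)} := by
        ext ⟨u, v⟩
        rw [SetLike.mem_coe, MonoidHom.mem_ker, MonoidHom.noncommCoprod_apply, Set.mem_insert_iff,
          Set.mem_singleton_iff]
        constructor
        · intro h
          have h5 : f u * g v = 1 := congrArg Subtype.val h
          have h6 : f u = g v⁻¹ := by rw [map_inv]; exact eq_inv_of_mul_eq_one_left h5
          rcases hi u _ h6 with h7 | h7
          · left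
            rw [h7, map_one, one_mul] at h5
            rw [h7, hg (h5.trans (map_one g).symm)]
          · right
            rw [h7, hz, ← map_mul] at h5
            have h8 := hg (h5.trans (map_one g).symm)
            have h9 : v = zz := by
              have : ∀ v : Q8, zz * v = 1 → v = zz := by decide
              exact this v h8
            rw [h7, h9]
        · rintro (h | h)
          · rw [Prod.ext_iff] at h
            rw [h.1, h.2]
            exact (mul_eq_one_iff_eq_inv.2 (by rw [map_one, map_one, inv_one]))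
          · rw [Prod.ext_iff] at h
            rw [h.1, h.2]
            apply Subtype.ext
            change f zz * g zz = 1
            rw [← hz, ← map_mul, show (zz * zz : Q8) = 1 by decide, map_one]
      have h5 : Nat.card ↥(MonoidHom.noncommCoprod f' g' hc').ker =
          ({(1, 1), (zz, zz)} : Set (Q8 × Q8)).ncard := by
        rw [← h4]
        rfl
      rw [h5, Set.ncard_pair (by decide)]
    rw [h3, Nat.card_prod, Nat.card_eq_fintype_card (α := Q8), show Fintype.card Q8 = 8 from rfl] at h1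
    omega
  · intro s hs
    rw [mem_centralizer_iff] at hs
    obtain ⟨k, hk⟩ := S.isPGroup' s
    obtain ⟨u, v, huv⟩ := hC s.1
      (fun u => (congrArg Subtype.val (hs (f' u) (mem_sup_left ⟨u, rfl⟩))).symm)
      (fun u => (congrArg Subtype.val (hs (g' u) (mem_sup_right ⟨u, rfl⟩))).symm)
      ⟨k, congrArg Subtype.val hk⟩
    have h1 : s = f' u * g' v := Subtype.ext huv
    rw [h1]
    exact mul_mem (mem_sup_left ⟨u, rfl⟩) (mem_sup_right ⟨v, rfl⟩)

/-! ### The matrices -/

section Mat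

variable {F : Type*} [Field F]

/-- first block -/
def xm (p r : F) : Matrix (Fin 4) (Fin 4) F := !![p, r, 0, 0; r, -p, 0, 0; 0, 0, 1, 0; 0, 0, 0, 1]
/-- first block, the standard element of order 4 -/
def jm (F : Type*) [Field F] : Matrix (Fin 4) (Fin 4) F := !![0, 1, 0, 0; -1, 0, 0, 0; 0, 0, 1, 0; 0, 0, 0, 1]
/-- second block -/
def xm' (p r : F) : Matrix (Fin 4) (Fin 4) F := !![1, 0, 0, 0; 0, 1, 0, 0; 0, 0, p, r; 0, 0, r, -p]
/-- second block, the standard element of order 4 -/
def jm' (F : Type*) [Field F] : Matrix (Fin 4) (Fin 4) F := !![1, 0, 0, 0; 0, 1, 0, 0; 0, 0, 0, 1; 0, 0, -1, 0]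

theorem jm_sq : jm F * jm F = diagonal ![-1, -1, 1, 1] := by
  ext i j
  fin_cases i <;> fin_cases j <;> simp [jm, mul_apply, Fin.sum_univ_four]

theorem jm'_sq : jm' F * jm' F = diagonal ![1, 1, -1, -1] := by
  ext i j
  fin_cases i <;> fin_cases j <;> simp [jm', mul_apply, Fin.sum_univ_four]

theorem xm_sq {p r : F} (h : p ^ 2 + r ^ 2 = -1) : xm p r * xm p r = diagonal ![-1, -1, 1, 1] := by
  have h1 : p * p + r * r = -1 := by rw [← h]; ring
  have h2 : r * r + p * p = -1 := by rw [← h]; ring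
  ext i j
  fin_cases i <;> fin_cases j <;> simp [xm, mul_apply, Fin.sum_univ_four, h1, h2] <;> ring

theorem xm'_sq {p r : F} (h : p ^ 2 + r ^ 2 = -1) : xm' p r * xm' p r = diagonal ![1, 1, -1, -1] := by
  have h1 : p * p + r * r = -1 := by rw [← h]; ring
  have h2 : r * r + p * p = -1 := by rw [← h]; ring
  ext i j
  fin_cases i <;> fin_cases j <;> simp [xm', mul_apply, Fin.sum_univ_four, h1, h2] <;> ring

theorem jm_xm (p r : F) : jm F * xm p r * jm F = xm p r := by
  ext i j
  fin_cases i <;> fin_cases j <;> simp [jm, xm, mul_apply, Fin.sum_univ_four]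

theorem jm'_xm' (p r : F) : jm' F * xm' p r * jm' F = xm' p r := by
  ext i j
  fin_cases i <;> fin_cases j <;> simp [jm', xm', mul_apply, Fin.sum_univ_four]

theorem comm_jj : jm F * jm' F = jm' F * jm F := by
  ext i j
  fin_cases i <;> fin_cases j <;> simp [jm', jm, mul_apply, Fin.sum_univ_four]

theorem comm_jx (p r : F) : jm F * xm' p r = xm' p r * jm F := by
  ext i j
  fin_cases i <;> fin_cases j <;> simp [xm', jm, mul_apply, Fin.sum_univ_four]

theorem comm_xj (p r : F) : xm p r * jm' F = jm' F * xm p r := by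
  ext i j
  fin_cases i <;> fin_cases j <;> simp [jm', xm, mul_apply, Fin.sum_univ_four]

theorem comm_xx (p r : F) : xm p r * xm' p r = xm' p r * xm p r := by
  ext i j
  fin_cases i <;> fin_cases j <;> simp [xm', xm, mul_apply, Fin.sum_univ_four]

theorem trace_jm : (jm F).trace = 2 := by
  simp [jm, trace, Fin.sum_univ_four]; norm_num

theorem trace_jm' : (jm' F).trace = 2 := by
  simp [jm', trace, Fin.sum_univ_four]; norm_num

theorem trace_xm (p r : F) : (xm p r).trace = 2 := by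
  simp [xm, trace, Fin.sum_univ_four]; norm_num

theorem trace_xm' (p r : F) : (xm' p r).trace = 2 := by
  simp [xm', trace, Fin.sum_univ_four]; ring

/-- a matrix commuting with the four generators -/
theorem diag_of_comm (h2 : (2 : F) ≠ 0) {p r : F} (h : p ^ 2 + r ^ 2 = -1) {t : Matrix (Fin 4) (Fin 4) F}
    (h1 : t * jm F = jm F * t) (h3 : t * xm p r = xm p r * t) (h4 : t * jm' F = jm' F * t)
    (h5 : t * xm' p r = xm' p r * t) : t = diagonal ![t 0 0, t 0 0, t 2 2, t 2 2] := by
  have key : ∀ x : F, 2 * x = 0 → x = 0 := fun x hx => (mul_eq_zero.1 hx).resolve_left h2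
  have e1 := fun i j => congrFun (congrFun h1 i) j
  have e3 := fun i j => congrFun (congrFun h3 i) j
  have e4 := fun i j => congrFun (congrFun h4 i) j
  have e5 := fun i j => congrFun (congrFun h5 i) j
  have a02 := e1 0 2
  have a12 := e1 1 2
  have a03 := e1 0 3
  have a13 := e1 1 3
  have a20 := e1 2 0
  have a21 := e1 2 1
  have a30 := e1 3 0
  have a31 := e1 3 1
  have a00 := e1 0 0
  have a01 := e1 0 1
  have b00 := e3 0 0
  have b01 := e3 0 1
  have c22 := e4 2 2
  have c23 := e4 2 3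
  have d22 := e5 2 2
  have d23 := e5 2 3
  simp [mul_apply, Fin.sum_univ_four, jm] at a02 a12 a03 a13 a20 a21 a30 a31 a00 a01
  simp [mul_apply, Fin.sum_univ_four, xm] at b00 b01
  simp [mul_apply, Fin.sum_univ_four, jm'] at c22 c23
  simp [mul_apply, Fin.sum_univ_four, xm'] at d22 d23
  have t02 : t 0 2 = 0 := key _ (by linear_combination a02 + a12)
  have t12 : t 1 2 = 0 := by rw [← a02, t02]
  have t03 : t 0 3 = 0 := key _ (by linear_combination a03 + a13)
  have t13 : t 1 3 = 0 := by rw [← a03, t03]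
  have t21 : t 2 1 = 0 := key _ (by linear_combination -a20 - a21)
  have t20 : t 2 0 = 0 := by rw [a21, t21]
  have t31 : t 3 1 = 0 := key _ (by linear_combination -a30 - a31)
  have t30 : t 3 0 = 0 := by rw [a31, t31]
  have t01 : t 0 1 = 0 := by
    have h6 : r * t 0 1 = 0 := key _ (by linear_combination b00 - r * a00)
    have h7 : p * t 0 1 = 0 := key _ (by linear_combination r * a01 - b01)
    linear_combination -p * h7 - r * h6 + t 0 1 * h
  have t10 : t 1 0 = 0 := by rw [← a00, t01, neg_zero]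
  have t23 : t 2 3 = 0 := by
    have h6 : r * t 2 3 = 0 := key _ (by linear_combination d22 - r * c22)
    have h7 : p * t 2 3 = 0 := key _ (by linear_combination r * c23 - d23)
    linear_combination -p * h7 - r * h6 + t 2 3 * h
  have t32 : t 3 2 = 0 := by rw [← c22, t23, neg_zero]
  ext i j
  fin_cases i <;> fin_cases j <;> simp [t02, t12, t03, t13, t21, t20, t31, t30, t01, t10, t23, t32, a01, c23]

/-! ### The criterion -/

section Crit

variable {G : Type*} [Group G] (ι : G →* SpecialLinearGroup (Fin 4) F)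

/-- conjugation up to a scalar and the trace -/
theorem comm_of_scalar (h2 : (2 : F) ≠ 0) {t x : G} {c : F}
    (h : (ι (t * x * t⁻¹ * x⁻¹)).1 = diagonal (fun _ => c)) (hx : (ι x).1.trace = 2) :
    (ι t).1 * (ι x).1 = (ι x).1 * (ι t).1 := by
  have h1 : (ι (t * x * t⁻¹)).1 = c • (ι x).1 := by
    have h3 : t * x * t⁻¹ = (t * x * t⁻¹ * x⁻¹) * x := by group
    rw [h3, map_mul]
    change (ι (t * x * t⁻¹ * x⁻¹)).1 * (ι x).1 = _
    rw [h]
    ext i j
    rw [diagonal_mul, Matrix.smul_apply, smul_eq_mul]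
  have h4 : (ι (t * x * t⁻¹)).1.trace = (ι x).1.trace := by
    rw [map_mul, map_mul]
    change ((ι t).1 * (ι x).1 * (ι t⁻¹).1).trace = _
    rw [trace_mul_comm, ← mul_assoc]
    have h5 : (ι t⁻¹).1 * (ι t).1 = 1 := by
      have : ι t⁻¹ * ι t = 1 := by rw [← map_mul, inv_mul_cancel, map_one]
      exact congrArg Subtype.val this
    rw [h5, one_mul]
  rw [h1, trace_smul, hx, smul_eq_mul] at h4
  have hc : c = 1 := by
    have h5 : (c - 1) * 2 = 0 := by linear_combination h4
    exact sub_eq_zero.1 ((mul_eq_zero.1 h5).resolve_right h2)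
  rw [hc, one_smul] at h1
  have h6 : t * x = (t * x * t⁻¹) * t := by group
  have h7 : ι t * ι x = ι (t * x * t⁻¹) * ι t := by rw [← map_mul, ← map_mul, ← h6]
  have h8 : (ι t).1 * (ι x).1 = (ι (t * x * t⁻¹)).1 * (ι t).1 := congrArg Subtype.val h7
  rw [h8, h1]

omit ι in
theorem pow_four' (x : G) : x ^ 4 = (x * x) * (x * x) := by
  rw [← pow_two, ← pow_two, ← pow_mul]

omit ι [Group G] in
theorem pow_four_of {r : F} {N k : ℕ} (hN : ¬ 8 ∣ N) (h1 : r ^ 2 ^ k = 1) (h2 : r ^ N = 1) : r ^ 4 = 1 := by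
  obtain ⟨j, -, hj⟩ := (Nat.dvd_prime_pow Nat.prime_two).1 (orderOf_dvd_of_pow_eq_one h1)
  have h3 := orderOf_dvd_of_pow_eq_one h2
  have h4 : j ≤ 2 := by
    by_contra hcon
    apply hN
    rw [hj] at h3
    exact (pow_dvd_pow 2 (show 3 ≤ j by omega)).trans h3
  rw [← orderOf_dvd_iff_pow_eq_one, hj]
  exact pow_dvd_pow 2 h4

omit ι [Group G] in
theorem arith {a d : F} {N k : ℕ} (hN : ¬ 8 ∣ N) (ha : a ^ N = 1) (hd : d ^ N = 1) (had : a * a * d * d = 1)
    (hk : a ^ 2 ^ k = d ^ 2 ^ k) : a = d ∨ a = -d := by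
  have hd0 : d ≠ 0 := by
    rintro rfl
    rw [mul_zero] at had
    exact zero_ne_one had
  have ha0 : a ≠ 0 := by
    rintro rfl
    rw [zero_mul, zero_mul, zero_mul] at had
    exact zero_ne_one had
  have h1 : (a / d) ^ 2 ^ k = 1 := by
    rw [div_pow, hk, div_self (pow_ne_zero _ hd0)]
  have h2 : (a / d) ^ N = 1 := by
    rw [div_pow, ha, hd, div_one]
  have h3 := pow_four_of hN h1 h2
  -- `a / d = (ad) a²`
  have h4 : a / d = (a * d) * a ^ 2 := by
    rw [div_eq_iff hd0]
    linear_combination -a * had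
  have h5 : a ^ 2 ^ 3 = 1 := by
    have h6 : ((a * d) * a ^ 2) ^ 4 = a ^ 2 ^ 3 * (a * a * d * d) ^ 2 := by ring
    rw [h4, h6, had, one_pow, mul_one] at h3
    exact h3
  have h7 := pow_four_of hN h5 ha
  have h8 : a ^ 2 = d ^ 2 := by
    have h9 : (a / d) ^ 2 = 1 := by
      rw [h4]
      have : ((a * d) * a ^ 2) ^ 2 = a ^ 4 * (a * a * d * d) := by ring
      rw [this, h7, had, mul_one]
    rwa [div_pow, div_eq_one_iff_eq (pow_ne_zero _ hd0)] at h9
  exact sq_eq_sq_iff_eq_or_eq_neg.1 h8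

/-- **Linear groups of degree 4 containing `Q8 × Q8`.** -/
theorem rank_four [Finite G] (hι : Function.Injective ι) (h2 : (2 : F) ≠ 0)
    (hcen : ∀ z ∈ center G, ∃ c : F, (ι z).1 = diagonal (fun _ => c)) {p r : F} (hpr : p ^ 2 + r ^ 2 = -1)
    {x₁ y₁ x₂ y₂ : G} (hx₁ : (ι x₁).1 = jm F) (hy₁ : (ι y₁).1 = xm p r) (hx₂ : (ι x₂).1 = jm' F)
    (hy₂ : (ι y₂).1 = xm' p r) {N : ℕ} (hN : ¬ 8 ∣ N)
    (hG : ∀ (g : G) (a d : F), (ι g).1 = diagonal ![a, a, d, d] → a ^ N = 1 ∧ d ^ N = 1) :
    SectionalPRankLE 2 4 (G ⧸ center G) := by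
  have hinj : ∀ {u v : G}, (ι u).1 = (ι v).1 → u = v := fun h => hι (Subtype.ext h)
  have hm : ∀ u v : G, (ι (u * v)).1 = (ι u).1 * (ι v).1 := fun u v => congrArg Subtype.val (map_mul ι u v)
  have h1 : (ι 1).1 = 1 := congrArg Subtype.val (map_one ι)
  have hsc : ∀ (z : G) (c : F), (ι z).1 = diagonal (fun _ => c) → z ∈ center G := by
    intro z c hz
    rw [mem_center_iff]
    intro g
    apply hinj
    rw [hm, hm, hz]
    ext i j
    rw [mul_diagonal, diagonal_mul, mul_comm]
  have hone : ∀ u v : Fin 4 → F, (diagonal u * diagonal v : Matrix (Fin 4) (Fin 4) F) = diagonal (fun i => u i * v i) :=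
    fun u v => diagonal_mul_diagonal u v
  -- the first quaternion group
  have q₁ : x₁ ^ 4 = 1 ∧ y₁ * y₁ = x₁ ^ 2 ∧ x₁ * y₁ = y₁ * x₁⁻¹ := by
    refine ⟨?_, ?_, ?_⟩
    · apply hinj
      rw [pow_four', hm, hm, hx₁, jm_sq, hone, h1, ← diagonal_one]
      congr 1
      ext i
      fin_cases i <;> simp
    · apply hinj
      rw [pow_two, hm, hm, hx₁, hy₁, jm_sq, xm_sq hpr]
    · rw [eq_mul_inv_iff_mul_eq]
      apply hinj
      rw [hm, hm, hx₁, hy₁, jm_xm]
  have q₂ : x₂ ^ 4 = 1 ∧ y₂ * y₂ = x₂ ^ 2 ∧ x₂ * y₂ = y₂ * x₂⁻¹ := by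
    refine ⟨?_, ?_, ?_⟩
    · apply hinj
      rw [pow_four', hm, hm, hx₂, jm'_sq, hone, h1, ← diagonal_one]
      congr 1
      ext i
      fin_cases i <;> simp
    · apply hinj
      rw [pow_two, hm, hm, hx₂, hy₂, jm'_sq, xm'_sq hpr]
    · rw [eq_mul_inv_iff_mul_eq]
      apply hinj
      rw [hm, hm, hx₂, hy₂, jm'_xm']
  let f₀ : Q8 →* G := qhom x₁ y₁ q₁.1 q₁.2.1 q₁.2.2
  let g₀ : Q8 →* G := qhom x₂ y₂ q₂.1 q₂.2.1 q₂.2.2
  have hf₀ : f₀ zz = x₁ * x₁ := by
    change x₁ ^ (2 : ZMod (2 * 2)).val = _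
    rw [show (2 : ZMod (2 * 2)).val = 2 from rfl, pow_two]
  have hg₀ : g₀ zz = x₂ * x₂ := by
    change x₂ ^ (2 : ZMod (2 * 2)).val = _
    rw [show (2 : ZMod (2 * 2)).val = 2 from rfl, pow_two]
  have hne : (1 : F) ≠ -1 := by
    intro h; apply h2; linear_combination h
  let π : G →* G ⧸ center G := QuotientGroup.mk' _
  have hπ : ∀ {g : G}, π g = 1 ↔ g ∈ center G := fun {g} => QuotientGroup.eq_one_iff g
  have hf : Function.Injective (π.comp f₀) := by
    apply injective_of
    rw [MonoidHom.comp_apply, hf₀, Ne, hπ]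
    intro h
    obtain ⟨c, hc⟩ := hcen _ h
    rw [hm, hx₁, jm_sq] at hc
    have h3 := congrFun (diagonal_injective hc) 0
    have h4 := congrFun (diagonal_injective hc) 2
    exact hne (h4.trans h3.symm)
  have hg : Function.Injective (π.comp g₀) := by
    apply injective_of
    rw [MonoidHom.comp_apply, hg₀, Ne, hπ]
    intro h
    obtain ⟨c, hc⟩ := hcen _ h
    rw [hm, hx₂, jm'_sq] at hc
    have h3 := congrFun (diagonal_injective hc) 0
    have h4 := congrFun (diagonal_injective hc) 2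
    exact hne (h3.trans h4.symm)
  have hc : ∀ u v, Commute (f₀ u) (g₀ v) := by
    refine qhom_commute ?_ ?_ ?_ ?_
    · apply hinj; rw [hm, hm, hx₁, hx₂, comm_jj]
    · apply hinj; rw [hm, hm, hx₁, hy₂, comm_jx]
    · apply hinj; rw [hm, hm, hy₁, hx₂, comm_xj]
    · apply hinj; rw [hm, hm, hy₁, hy₂, comm_xx]
  refine rank_of_quat (π.comp f₀) (π.comp g₀) hf hg (fun u v => (hc u v).map π) ?_ ?_
  · rw [MonoidHom.comp_apply, MonoidHom.comp_apply, hf₀, hg₀]
    rw [← div_eq_one, ← map_div, hπ]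
    refine hsc _ (-1) ?_
    have h3 : x₁ * x₁ / (x₂ * x₂) = x₁ * x₁ * (x₂ * x₂) := by
      rw [div_eq_mul_inv]
      congr 1
      rw [inv_eq_iff_mul_eq_one, ← pow_four']
      exact q₂.1
    rw [h3, hm, hm, hm, hx₁, hx₂, jm_sq, jm'_sq, hone]
    congr 1
    ext i
    fin_cases i <;> simp
  · intro s hs1 hs2 hk
    obtain ⟨t, rfl⟩ := QuotientGroup.mk'_surjective _ s
    change (∀ u, π t * π (f₀ u) = π (f₀ u) * π t) at hs1
    change (∀ u, π t * π (g₀ u) = π (g₀ u) * π t) at hs2
    have hcm : ∀ x : G, π t * π x = π x * π t → (ι x).1.trace = 2 → (ι t).1 * (ι x).1 = (ι x).1 * (ι t).1 := by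
      intro x hx htr
      have h3 : π (t * x * t⁻¹ * x⁻¹) = 1 := by
        rw [map_mul, map_mul, map_mul, map_inv, map_inv, hx, mul_inv_cancel_right, mul_inv_cancel]
      obtain ⟨c, hc⟩ := hcen _ (hπ.1 h3)
      exact comm_of_scalar ι h2 hc htr
    have ex₁ : f₀ (.a 1) = x₁ := by
      change x₁ ^ (1 : ZMod (2 * 2)).val = _
      rw [show (1 : ZMod (2 * 2)).val = 1 from rfl, pow_one]
    have ey₁ : f₀ (.xa 0) = y₁ := by
      change y₁ * x₁ ^ (0 : ZMod (2 * 2)).val = _
      rw [ZMod.val_zero, pow_zero, mul_one]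
    have ex₂ : g₀ (.a 1) = x₂ := by
      change x₂ ^ (1 : ZMod (2 * 2)).val = _
      rw [show (1 : ZMod (2 * 2)).val = 1 from rfl, pow_one]
    have ey₂ : g₀ (.xa 0) = y₂ := by
      change y₂ * x₂ ^ (0 : ZMod (2 * 2)).val = _
      rw [ZMod.val_zero, pow_zero, mul_one]
    have c1 := hcm x₁ (by rw [← ex₁]; exact hs1 _) (by rw [hx₁, trace_jm])
    have c2 := hcm y₁ (by rw [← ey₁]; exact hs1 _) (by rw [hy₁, trace_xm])
    have c3 := hcm x₂ (by rw [← ex₂]; exact hs2 _) (by rw [hx₂, trace_jm'])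
    have c4 := hcm y₂ (by rw [← ey₂]; exact hs2 _) (by rw [hy₂, trace_xm'])
    rw [hx₁] at c1
    rw [hy₁] at c2
    rw [hx₂] at c3
    rw [hy₂] at c4
    have hd := diag_of_comm h2 hpr c1 c2 c3 c4
    set a := (ι t).1 0 0 with ha
    set d := (ι t).1 2 2 with hd'
    obtain ⟨hN1, hN2⟩ := hG t a d hd
    have hdet : a * a * d * d = 1 := by
      have h3 : (ι t).1.det = 1 := (ι t).2
      rw [hd, det_diagonal, Fin.prod_univ_four] at h3
      exact h3
    obtain ⟨k, hk⟩ := hk
    have hk' : π (t ^ 2 ^ k) = 1 := by rw [map_pow]; exact hk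
    obtain ⟨c, hc'⟩ := hcen _ (hπ.1 hk')
    have hpow : (ι (t ^ 2 ^ k)).1 = (ι t).1 ^ 2 ^ k := by
      rw [map_pow]; rfl
    rw [hpow, hd, diagonal_pow] at hc'
    have h5 : a ^ 2 ^ k = d ^ 2 ^ k :=
      (congrFun (diagonal_injective hc') 0).trans (congrFun (diagonal_injective hc') 2).symm
    rcases arith hN hN1 hN2 hdet h5 with h6 | h6
    · refine ⟨1, 1, ?_⟩
      rw [map_one, map_one, one_mul]
      refine hπ.2 (hsc t a ?_)
      rw [hd, ← h6]
      congr 1
      ext i
      fin_cases i <;> rfl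
    · refine ⟨zz, 1, ?_⟩
      rw [map_one, mul_one, MonoidHom.comp_apply, hf₀]
      change π t = π (x₁ * x₁)
      rw [← div_eq_one, ← map_div, hπ]
      refine hsc _ d ?_
      have h7 : t / (x₁ * x₁) = t * (x₁ * x₁) := by
        rw [div_eq_mul_inv]
        congr 1
        rw [inv_eq_iff_mul_eq_one, ← pow_four']
        exact q₁.1
      rw [h7, hm, hm, hx₁, jm_sq, hd, hone]
      congr 1
      ext i
      fin_cases i <;> simp [h6]

end Crit

end Mat

end Cfsg.Agent.H815.RankL4
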